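import Cfsg.Agent.Lib.Chev.UWord

/-!
# Bruhat decomposition, centralisers of dominant root elements and pairs of root subgroups
-/

set_option autoImplicit false
set_option linter.unusedSectionVars false

namespace CfsgLib.ChevCent

open Cfsg.Lie CfsgLib.Chev
open scoped Matrix

variable {D : ChevalleyDatum} {T : Tabs} {F : Type*} [Field F]

/-- `S` is a set of roots stable under the fundamental reflections whose greatest member is `r` -/
structure IsOrbitTop (D : ChevalleyDatum) (S : ℕ → Bool) (r : ℕ) : Prop where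
  lt : r < D.nroots
  mem : S r = true
  closed : ∀ i < D.rank, ∀ s < D.nroots, S s = true → S (D.reflectRoot i s) = true
  le_top : ∀ s < D.nroots, S s = true → s ≤ r

/-- the negatives of the fundamental roots orthogonal to a root -/
def LeviRoot (D : ChevalleyDatum) (i₀ : ℕ) (s : ℕ) : Prop :=
  ∃ i < D.rank, i ≠ i₀ ∧ s = D.neg (D.simple i)

section
variable (hc : Checked D T)
include hc

/-- `G = U N U` -/
theorem bruhat (hcomm : CommOne D T) {g : GL D.Idx F} (hg : g ∈ D.group F) :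
    ∃ u₁ ∈ uGen D F (fun r => D.nroots / 2 ≤ r), ∃ n ∈ D.monomialSubgroup F,
      ∃ u₂ ∈ uGen D F (fun r => D.nroots / 2 ≤ r), g = u₁ * n * u₂ := by
  set X : Set (GL D.Idx F) := {g | ∃ b₁ ∈ D.borelSubgroup F, ∃ n ∈ D.monomialSubgroup F,
    ∃ b₂ ∈ D.borelSubgroup F, g = b₁ * n * b₂}
  have hB : ∀ b ∈ D.borelSubgroup F, ∀ x ∈ X, b * x ∈ X := by
    rintro b hb _ ⟨b₁, h1, n, hn, b₂, h2, rfl⟩
    exact ⟨b * b₁, mul_mem hb h1, n, hn, b₂, h2, by group⟩
  have hS : ∀ i : Fin D.rank, ∀ x ∈ X, elN D F (D.simple i.val) 1 * x ∈ X := by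
    rintro i _ ⟨b₁, h1, n, hn, b₂, h2, rfl⟩
    rcases bn_axiom hc hcomm i hn h1 with h | h <;> rw [DoubleCoset.mem_doubleCoset] at h <;>
      obtain ⟨x, hx, y, hy, e⟩ := h
    · refine ⟨x, hx, _, mul_mem (elN_mem_monomial hc (simple_lt hc i.2)) hn, y * b₂, mul_mem hy h2, ?_⟩
      rw [← mul_assoc (x * _), ← e]; group
    · refine ⟨x, hx, n, hn, y * b₂, mul_mem hy h2, ?_⟩
      rw [← mul_assoc (x * _), ← e]; group
  have hS' : ∀ i : Fin D.rank, ∀ x ∈ X, (elN D F (D.simple i.val) 1)⁻¹ * x ∈ X := by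
    intro i x hx
    obtain ⟨k, hk, e⟩ := nOne_inv hc (F := F) i
    rw [e, mul_assoc]
    exact hB k (diagonal_le_borel hc hk) _ (hS i x hx)
  have hN : ∀ L : List (Fin D.rank), ∀ x ∈ X, nProd D F L * x ∈ X ∧ (nProd D F L)⁻¹ * x ∈ X := by
    intro L
    induction L with
    | nil => intro x hx; simpa using hx
    | cons i L ih =>
      intro x hx
      rw [nProd_cons, mul_inv_rev, mul_assoc, mul_assoc]
      exact ⟨hS i _ (ih x hx).1, (ih _ (hS' i x hx)).2⟩
  have hall : ∀ x ∈ X, g * x ∈ X ∧ g⁻¹ * x ∈ X := by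
    rw [← borel_sup_monomial hc, ← Subgroup.closure_eq (D.borelSubgroup F),
      ← Subgroup.closure_eq (D.monomialSubgroup F), ← Subgroup.closure_union] at hg
    induction hg using Subgroup.closure_induction with
    | mem y hy =>
      intro x hx
      rcases hy with hy | hy
      · exact ⟨hB y hy x hx, hB _ (inv_mem hy) x hx⟩
      · obtain ⟨h, hh, L, rfl⟩ := monomial_cases hc hy
        rw [mul_inv_rev, mul_assoc, mul_assoc]
        exact ⟨hB h (diagonal_le_borel hc hh) _ (hN L x hx).1,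
          (hN L _ (hB _ (inv_mem (diagonal_le_borel hc hh)) x hx)).2⟩
    | one => intro x hx; simpa using hx
    | mul a b _ _ ha hb =>
      intro x hx
      rw [mul_inv_rev, mul_assoc, mul_assoc]
      exact ⟨(ha _ (hb x hx).1).1, (hb _ (ha x hx).2).2⟩
    | inv a _ ha => intro x hx; rw [inv_inv]; exact ⟨(ha x hx).2, (ha x hx).1⟩
  obtain ⟨b₁, h1, n, hn, b₂, h2, e⟩ := (hall 1 ⟨1, one_mem _, 1, one_mem _, 1, one_mem _, by group⟩).1
  obtain ⟨u₁, hu₁, k₁, hk₁, rfl⟩ := (mem_borel hc).1 h1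
  obtain ⟨u₂, hu₂, k₂, hk₂, rfl⟩ := (mem_borel hc).1 h2
  refine ⟨u₁, hu₁, k₁ * n * k₂, mul_mem (mul_mem (diagonal_le_monomial hc hk₁) hn) (diagonal_le_monomial hc hk₂),
    k₂⁻¹ * u₂ * k₂⁻¹⁻¹, diag_conj_mem hc _ (inv_mem hk₂) hu₂, ?_⟩
  rw [mul_one] at e
  rw [e]; group

/-- root elements commute when all terms of the commutator formula vanish -/
theorem commute_elX (hcomm : CommOne D T) {r s : ℕ} (hr : r < D.nroots) (hs : s < D.nroots) (hneg : s ≠ D.neg r)
    (hz : ∀ q ∈ D.commTerms r s, ((q.2.1 : ℤ) : F) = 0) (t u : F) :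
    elX D F r t * elX D F s u = elX D F s u * elX D F r t := by
  rcases eq_or_ne s r with rfl | hsr
  · rw [elX_add hc F hs, elX_add hc F hs, add_comm]
  · rw [elX_comm hc hcomm hr hs hsr hneg]
    have : wordGL D F (D.commWord F r s t u) = 1 := by
      refine List.prod_eq_one fun g hg => ?_
      obtain ⟨p, hp, rfl⟩ := List.mem_map.1 hg
      obtain ⟨c, hcm, rfl⟩ := List.mem_map.1 hp
      simp only [hz c hcm, zero_mul]
      exact elX_zero hc F (commTerms_weight hc hr hs c hcm).1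
    rw [this, mul_one]

theorem refls_sub_smul (L : List (Fin D.rank)) (v w : Fin D.rank → ℤ) (k : ℤ) :
    refls D L (v - k • w) = refls D L v - k • refls D L w := by
  induction L with
  | nil => rfl
  | cons i L ih =>
    show refl D i (refls D L (v - k • w)) = refl D i (refls D L v) - k • refl D i (refls D L w)
    rw [ih]
    simp only [CfsgLib.Chev.refl]
    funext j
    rcases eq_or_ne j i with rfl | hj
    · simp only [Pi.sub_apply, Pi.smul_apply, smul_eq_mul, Pi.single_eq_same, mul_sub, Finset.sum_sub_distrib,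
        Finset.mul_sum, mul_left_comm k]
      ring
    · simp [Pi.single_eq_of_ne hj]

theorem reflectRoot_eq' (i : Fin D.rank) {s : ℕ} (hs : s < D.nroots) : D.reflectRoot i.val s = sig D T i s :=
  reflectRoot_eq hc i hs

theorem sigs_orbit {S : ℕ → Bool} {r : ℕ} (hS : IsOrbitTop D S r) (L : List (Fin D.rank)) {s : ℕ}
    (hs : s < D.nroots) (h : S s = true) : S (sigs D T L s) = true := by
  induction L with
  | nil => exact h
  | cons i L ih =>
    rw [sigs_cons, ← reflectRoot_eq' hc i (sigs_lt hc L hs)]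
    exact hS.closed i i.2 _ (sigs_lt hc L hs) ih

/-- a fundamental reflection sent to a negative root by an element fixing the greatest root fixes that root -/
theorem dominant {S : ℕ → Bool} {r : ℕ} (hS : IsOrbitTop D S r) {L : List (Fin D.rank)} (hL : sigs D T L r = r)
    {i : Fin D.rank} (hneg : sigs D T L (D.simple i.val) < D.nroots / 2) : sig D T i r = r := by
  have hp := simple_lt hc i.2
  set k := ∑ j, cm D i j * rv D T r j
  have e : rv D T (sig D T i r) = rv D T r - k • rv D T (D.simple i.val) := by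
    rw [rv_sig hc i hS.lt, rv_simple hc, CfsgLib.Chev.refl]
    congr 1
    rw [← Pi.single_smul, smul_eq_mul, mul_one]
  have hle : ∀ s, s < D.nroots → S s = true → keyLin D (rv D T s) ≤ keyLin D (rv D T r) := by
    intro s hs h
    rcases (hS.le_top s hs h).eq_or_lt with rfl | hlt
    · exact le_rfl
    · exact ((key_lt_iff hc hs hS.lt).2 hlt).le
  have hsig : S (sig D T i r) = true := by
    rw [← reflectRoot_eq' hc i hS.lt]; exact hS.closed i i.2 r hS.lt hS.mem
  have hw : rv D T (sigs D T L (sig D T i r)) = rv D T r - k • rv D T (sigs D T L (D.simple i.val)) := by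
    rw [rv_sigs hc L (sig_lt hc i hS.lt), e, refls_sub_smul hc, ← rv_sigs hc L hS.lt, hL, ← rv_sigs hc L hp]
  have h1 := hle _ (sig_lt hc i hS.lt) hsig
  have h2 := hle _ (sigs_lt hc L (sig_lt hc i hS.lt)) (sigs_orbit hc hS L (sig_lt hc i hS.lt) hsig)
  have hpos := (key_pos_iff hc hp).2 (half_le_simple hc i.2)
  have hneg' : keyLin D (rv D T (sigs D T L (D.simple i.val))) < 0 := by
    rw [keyLin_rv]
    exact (root_spec hc (sigs_lt hc L hp)).2.1 hneg
  rw [e, sub_eq_add_neg, ← neg_smul, keyLin_add, keyLin_smul] at h1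
  rw [hw, sub_eq_add_neg, ← neg_smul, keyLin_add, keyLin_smul] at h2
  have hk : k = 0 := by
    rcases lt_trichotomy k 0 with hk | hk | hk
    · nlinarith
    · exact hk
    · nlinarith
  refine rv_inj hc (sig_lt hc i hS.lt) hS.lt ?_
  rw [e, hk, zero_smul, sub_zero]

/-- the group generated by the fundamental root subgroups of the stabiliser -/
theorem nProd_fix_mem {S : ℕ → Bool} {r : ℕ} (hS : IsOrbitTop D S r) {K : Subgroup (GL D.Idx F)}
    (hK : ∀ i : Fin D.rank, sig D T i r = r → elN D F (D.simple i.val) 1 ∈ K) (L : List (Fin D.rank))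
    (hL : sigs D T L r = r) : ∃ h ∈ D.diagonalSubgroup F, ∃ k ∈ K, nProd D F L = h * k := by
  suffices key : ∀ d, ∀ L : List (Fin D.rank), L.length = d → sigs D T L r = r →
      ∃ h ∈ D.diagonalSubgroup F, ∃ k ∈ K, nProd D F L = h * k from key _ L rfl hL
  intro d
  induction d using Nat.strong_induction_on with
  | _ d ih =>
    intro L hd hL
    by_cases h : ∀ i : Fin D.rank, D.nroots / 2 ≤ sigs D T L (D.simple i.val)
    · exact ⟨_, nProd_mem_of_pos hc L h, 1, one_mem _, (mul_one _).symm⟩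
    · push Not at h
      obtain ⟨i, hi⟩ := h
      have hfix := dominant hc hS hL hi
      obtain ⟨L', h1, h2, h3⟩ := exchange hc (F := F) L i hi
      have hL' : sigs D T L' r = r := by
        rw [← h2 r hS.lt, sigs_append, show sigs D T [i] r = sig D T i r from rfl, hfix, hL]
      obtain ⟨a, ha, k, hk, e⟩ := ih L'.length (by omega) L' rfl hL'
      refine ⟨_, mul_mem h3 ha, k * (elN D F (D.simple i.val) 1)⁻¹, mul_mem hk (inv_mem (hK i hfix)), ?_⟩
      rw [nProd_append, nProd_cons, nProd_nil, mul_one, mul_assoc, ← mul_assoc a, ← e]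
      group

/-- the centraliser of a root element at a greatest root -/
theorem centralizer_eq (hcomm : CommOne D T) {S : ℕ → Bool} {r : ℕ} (hS : IsOrbitTop D S r) (hrp : D.nroots / 2 ≤ r)
    {i₀ : ℕ} (hi₀ : i₀ < D.rank) (hcart : D.cartan i₀ r = 1)
    (hcart' : ∀ i < D.rank, i ≠ i₀ → D.cartan i r = 0 ∧ D.reflectRoot i r = r ∧ r ≠ D.simple i)
    (hmove : D.reflectRoot i₀ r ≠ r)
    (hpos : ∀ s < D.nroots, D.nroots / 2 ≤ s → ∀ q ∈ D.commTerms r s, ((q.2.1 : ℤ) : F) = 0)
    (hlevi : ∀ i < D.rank, i ≠ i₀ → ∀ q ∈ D.commTerms r (D.neg (D.simple i)), ((q.2.1 : ℤ) : F) = 0) :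
    D.group F ⊓ Subgroup.centralizer {elX D F r 1}
      = uGen D F (fun s => D.nroots / 2 ≤ s) ⊔ uGen D F (LeviRoot D i₀) := by
  set t := elX D F r (1 : F)
  set K := uGen D F (fun s => D.nroots / 2 ≤ s) ⊔ uGen D F (LeviRoot D i₀)
  have hKC : K ≤ Subgroup.centralizer {t} := by
    refine sup_le (uGen_le_iff.2 fun s hs hp u => ?_) (uGen_le_iff.2 fun s hs hp u => ?_) <;>
      rw [Subgroup.mem_centralizer_singleton_iff]
    · exact (commute_elX hc hcomm hS.lt hs (ne_neg_of_pos hc hS.lt hrp hp) (hpos s hs hp) 1 u).symm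
    · obtain ⟨i, hi, hne, rfl⟩ := hp
      refine (commute_elX hc hcomm hS.lt hs (fun e => ?_) (hlevi i hi hne) 1 u).symm
      refine (hcart' i hi hne).2.2 ?_
      rw [← neg_neg_root hc hS.lt, ← e, neg_neg_root hc (simple_lt hc hi)]
  have hKG : K ≤ D.group F := by
    rw [group_eq hc]
    exact sup_le (uGen_mono fun _ _ _ => trivial) (uGen_mono fun _ _ _ => trivial)
  have hN : ∀ i < D.rank, i ≠ i₀ → ∀ a : F, elN D F (D.simple i) a ∈ K := fun i hi hne a =>
    mul_mem (mul_mem (Subgroup.mem_sup_left (elX_mem_uGen (simple_lt hc hi) (P := fun s => D.nroots / 2 ≤ s)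
        (half_le_simple hc hi) _))
      (Subgroup.mem_sup_right (elX_mem_uGen (neg_lt hc (simple_lt hc hi)) (P := LeviRoot D i₀) ⟨i, hi, hne, rfl⟩ _)))
      (Subgroup.mem_sup_left (elX_mem_uGen (simple_lt hc hi) (P := fun s => D.nroots / 2 ≤ s) (half_le_simple hc hi) _))
  refine le_antisymm (fun g hg => ?_) (le_inf hKG hKC)
  obtain ⟨hgG, hgC⟩ := hg
  obtain ⟨u₁, hu₁, n, hn, u₂, hu₂, rfl⟩ := bruhat hc hcomm hgG
  have hu₁' : u₁ ∈ K := Subgroup.mem_sup_left hu₁
  have hu₂' : u₂ ∈ K := Subgroup.mem_sup_left hu₂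
  suffices n ∈ K from mul_mem (mul_mem hu₁' this) hu₂'
  have hnC : n ∈ Subgroup.centralizer {t} := by
    have := mul_mem (mul_mem (inv_mem (hKC hu₁')) hgC) (inv_mem (hKC hu₂'))
    rwa [show u₁⁻¹ * (u₁ * n * u₂) * u₂⁻¹ = n by group] at this
  obtain ⟨h, hh, L, rfl⟩ := monomial_cases hc hn
  obtain ⟨c, -, hL⟩ := nProd_conj_elX hc (F := F) L hS.lt
  obtain ⟨d, hd⟩ := diagonal_conj_elX hc hh (sigs_lt hc L hS.lt)
  have hfix : sigs D T L r = r := by
    refine (elX_root_unique hc hS.lt (sigs_lt hc L hS.lt) (one_ne_zero (α := F)) (u := (d : F) * ((c : F) * 1)) ?_).symm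
    rw [← hd, ← hL]
    rw [Subgroup.mem_centralizer_singleton_iff] at hnC
    have h2 := congrArg (fun y => y * (h * nProd D F L)⁻¹) hnC
    simp only [mul_inv_cancel_right] at h2
    refine Eq.trans h2.symm ?_
    group
    rfl
  have hK : ∀ i : Fin D.rank, sig D T i r = r → elN D F (D.simple i.val) 1 ∈ K := fun i hi =>
    hN i i.2 (fun e => hmove (by rw [← e, reflectRoot_eq' hc i hS.lt, hi])) 1
  obtain ⟨h', hh', k, hk, e⟩ := nProd_fix_mem hc (F := F) hS hK L hfix
  rw [e, ← mul_assoc] at hnC ⊢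
  refine mul_mem ?_ hk
  have hC : h * h' ∈ Subgroup.centralizer {t} := by
    have := mul_mem hnC (inv_mem (hKC hk))
    rwa [mul_inv_cancel_right] at this
  obtain ⟨x, hx⟩ := (mem_diagonal hc).1 (mul_mem hh hh')
  rw [← hx] at hC ⊢
  have hχ : (chi (hPar D F x) (rv D T r) : F) = 1 := by
    have h1 := torus_conj_elX hc (hPar D F x) hS.lt (1 : F)
    rw [Subgroup.mem_centralizer_singleton_iff] at hC
    rw [hC, mul_inv_cancel_right, mul_one] at h1
    by_contra hne
    have h2 : elX D F r (chi (hPar D F x) (rv D T r) - 1 : F) = 1 := by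
      rw [sub_eq_add_neg, ← elX_add hc F hS.lt, ← h1, ← elX_inv hc F hS.lt, mul_inv_cancel]
    exact hne (sub_eq_zero.1 ((elX_eq_one_iff hc hS.lt _).1 h2))
  have hchi : chi (hPar D F x) (rv D T r) = x ⟨i₀, hi₀⟩ := by
    rw [hPar_eq_corChar hc]
    have hprod : ∀ s : Finset (Fin D.rank), chi (∏ i ∈ s, corChar D T (D.simple i.val) (x i)) (rv D T r)
        = ∏ i ∈ s, x i ^ D.cartan i r := by
      intro s
      induction s using Finset.induction with
      | empty => simp [chi_one]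
      | @insert a s ha ih => rw [Finset.prod_insert ha, Finset.prod_insert ha, chi_mul, ih, chi_corChar_simple hc a hS.lt]
    rw [hprod, Finset.prod_eq_single ⟨i₀, hi₀⟩]
    · rw [hcart, zpow_one]
    · intro b _ hb
      rw [(hcart' b b.2 fun e => hb (Fin.ext e)).1, zpow_zero]
    · simp
  rw [hchi] at hχ
  rw [hPar_eq_corChar hc]
  show _ ∈ Subgroup.comap (torus D T F) K
  refine Subgroup.prod_mem _ fun i _ => ?_
  rw [Subgroup.mem_comap]
  by_cases hi : i.val = i₀
  · have : x i = 1 := Units.ext (by rw [show i = ⟨i₀, hi₀⟩ from Fin.ext hi]; simpa using hχ)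
    rw [this, show corChar D T (D.simple i.val) (1 : Fˣ) = 1 from funext fun j => by simp [corChar], map_one]
    exact one_mem _
  · rw [← elH_eq_torus hc (simple_lt hc i.2)]
    exact mul_mem (hN i i.2 hi _) (hN i i.2 hi _)

theorem isPGroup_pos [Fintype F] [CharP F 2] (hcomm : CommOne D T) : IsPGroup 2 (uGen D F (fun r => D.nroots / 2 ≤ r)) := by
  haveI := Fact.mk Nat.prime_two
  obtain ⟨n, -, hn⟩ := FiniteField.card F 2
  refine IsPGroup.of_card (n := (n : ℕ) * (D.nroots / 2)) ?_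
  rw [← posUnipotent_eq hc, card_pos hc hcomm, hn, pow_mul]

/-- two long root subgroups generate a `2`-group or are conjugate to an opposite pair -/
theorem pair_dichotomy [Fintype F] [CharP F 2] (hcomm : CommOne D T) {S : ℕ → Bool} (hS : IsOrbitTop D S (D.nroots - 1))
    (hsmall : ∀ v < D.nroots, S v = true → v ≠ D.nroots - 1 → v ≠ 0 →
      ∀ s ∈ (D.nroots - 1) :: (D.commTerms v (D.nroots - 1)).map Prod.fst,
        D.nroots / 2 ≤ s ∧ s ≠ v ∧ s ≠ D.neg v ∧
          ∀ q ∈ D.commTerms v s, q.1 ∈ (D.nroots - 1) :: (D.commTerms v (D.nroots - 1)).map Prod.fst)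
    (hpos : ∀ s < D.nroots, D.nroots / 2 ≤ s → ∀ q ∈ D.commTerms (D.nroots - 1) s, ((q.2.1 : ℤ) : F) = 0)
    {g : GL D.Idx F} (hg : g ∈ D.group F) :
    IsPGroup 2 ↥(D.rootSubgroup F (D.nroots - 1) ⊔ (D.rootSubgroup F (D.nroots - 1)).map (MulAut.conj g).toMonoidHom) ∨
    ∃ h ∈ D.group F, (D.rootSubgroup F (D.nroots - 1) ⊔ (D.rootSubgroup F (D.nroots - 1)).map (MulAut.conj g).toMonoidHom).map
      (MulAut.conj h).toMonoidHom = D.rootSubgroup F (D.nroots - 1) ⊔ D.rootSubgroup F 0 := by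
  haveI := Fact.mk Nat.prime_two
  set top := D.nroots - 1 with htop
  have hn2 := nroots_eq_two_mul hc
  have ht : top < D.nroots := hS.lt
  have hhalf : D.nroots / 2 ≤ top := by omega
  have hUC : ∀ u ∈ uGen D F (fun r => D.nroots / 2 ≤ r), ∀ a : F, u * elX D F top a = elX D F top a * u := by
    intro u hu a
    have : uGen D F (fun r => D.nroots / 2 ≤ r) ≤ Subgroup.centralizer {elX D F top a} :=
      uGen_le_iff.2 fun s hs hp b => by
        rw [Subgroup.mem_centralizer_singleton_iff]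
        exact (commute_elX hc hcomm ht hs (ne_neg_of_pos hc ht hhalf hp) (hpos s hs hp) a b).symm
    exact Subgroup.mem_centralizer_singleton_iff.1 (this hu)
  have hXfix : ∀ u ∈ uGen D F (fun r => D.nroots / 2 ≤ r),
      (D.rootSubgroup F top).map (MulAut.conj u).toMonoidHom = D.rootSubgroup F top := by
    intro u hu
    ext x
    simp only [Subgroup.mem_map, MulEquiv.coe_toMonoidHom, MulAut.conj_apply, mem_rootSubgroup hc ht]
    constructor
    · rintro ⟨_, ⟨a, rfl⟩, rfl⟩; exact ⟨a, by rw [hUC u hu, mul_inv_cancel_right]⟩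
    · rintro ⟨a, rfl⟩; exact ⟨_, ⟨a, rfl⟩, by rw [hUC u hu, mul_inv_cancel_right]⟩
  obtain ⟨u₁, hu₁, n, hn, u₂, hu₂, rfl⟩ := bruhat hc hcomm hg
  obtain ⟨hd, hhd, L, rfl⟩ := monomial_cases hc hn
  set v := sigs D T L top with hv
  have hvlt := sigs_lt hc L ht (T := T)
  have hnX : (D.rootSubgroup F top).map (MulAut.conj (hd * nProd D F L)).toMonoidHom = D.rootSubgroup F v := by
    obtain ⟨c, -, hL⟩ := nProd_conj_elX hc (F := F) L ht
    obtain ⟨d, hdd⟩ := diagonal_conj_elX hc hhd hvlt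
    have hkey : ∀ a : F, hd * nProd D F L * elX D F top a * (hd * nProd D F L)⁻¹ = elX D F v ((d : F) * ((c : F) * a)) :=
      fun a => by rw [← hdd, ← hL]; group
    ext x
    rw [Subgroup.mem_map, mem_rootSubgroup hc hvlt]
    simp only [MulEquiv.coe_toMonoidHom, MulAut.conj_apply, mem_rootSubgroup hc ht]
    constructor
    · rintro ⟨_, ⟨a, rfl⟩, rfl⟩; exact ⟨_, hkey a⟩
    · rintro ⟨b, rfl⟩
      refine ⟨_, ⟨((d * c)⁻¹ : Fˣ) * b, rfl⟩, (hkey _).trans ?_⟩
      congr 1
      rw [← mul_assoc, ← mul_assoc, ← Units.val_mul, ← Units.val_mul]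
      simp
  have hgX : (D.rootSubgroup F top).map (MulAut.conj (u₁ * (hd * nProd D F L) * u₂)).toMonoidHom
      = (D.rootSubgroup F v).map (MulAut.conj u₁).toMonoidHom := by
    rw [← hnX]
    conv_rhs => rw [← hXfix u₂ hu₂]
    rw [Subgroup.map_map, Subgroup.map_map]
    congr 1
    ext x
    simp only [MulEquiv.coe_toMonoidHom, MonoidHom.coe_comp, Function.comp_apply, MulAut.conj_apply]
    group
  have hsup : D.rootSubgroup F top ⊔ (D.rootSubgroup F top).map (MulAut.conj (u₁ * (hd * nProd D F L) * u₂)).toMonoidHom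
      = (D.rootSubgroup F top ⊔ D.rootSubgroup F v).map (MulAut.conj u₁).toMonoidHom := by
    rw [hgX, Subgroup.map_sup, hXfix u₁ hu₁]
  rw [hsup]
  by_cases hv0 : v = 0
  · right
    refine ⟨u₁⁻¹, inv_mem (pos_le_group hc hu₁), ?_⟩
    rw [Subgroup.map_map, hv0]
    have hid : (MulAut.conj u₁⁻¹).toMonoidHom.comp (MulAut.conj u₁).toMonoidHom = MonoidHom.id _ :=
      MonoidHom.ext fun x => by simp [mul_assoc]
    rw [hid, Subgroup.map_id]
  left
  refine IsPGroup.of_equiv ?_ (Subgroup.equivMapOfInjective _ _ (MulAut.conj u₁).injective)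
  by_cases hvtop : v = top
  · rw [hvtop, sup_idem]
    exact (isPGroup_pos hc hcomm).to_le (by rw [rootSubgroup_eq hc ht]; exact uGen_mono fun s _ e => e ▸ hhalf)
  set P : ℕ → Prop := fun s => s ∈ top :: (D.commTerms v top).map Prod.fst
  have hP := hsmall v hvlt (sigs_orbit hc hS L ht hS.mem) hvtop hv0
  have hnorm : D.rootSubgroup F v ≤ Subgroup.normalizer (uGen D F P : Set (GL D.Idx F)) := by
    intro x hx
    obtain ⟨a, rfl⟩ := (mem_rootSubgroup hc hvlt).1 hx
    have key : ∀ a : F, ∀ y ∈ uGen D F P, elX D F v a * y * (elX D F v a)⁻¹ ∈ uGen D F P := by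
      intro a y hy
      induction hy using Subgroup.closure_induction with
      | mem z hz =>
        obtain ⟨s, b, hs, hPs, rfl⟩ := hz
        obtain ⟨-, h1, h2, h3⟩ := hP s hPs
        rw [elX_conj_elX hc hcomm hvlt hs h1 h2]
        refine mul_mem (elX_mem_uGen hs hPs b) (Subgroup.list_prod_mem _ fun w hw => ?_)
        obtain ⟨p, hp, rfl⟩ := List.mem_map.1 hw
        obtain ⟨q, hq, rfl⟩ := List.mem_map.1 hp
        exact elX_mem_uGen (commTerms_weight hc hvlt hs q hq).1 (h3 q hq) _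
      | one => simp
      | mul y z _ _ hy hz =>
        rw [show elX D F v a * (y * z) * (elX D F v a)⁻¹
          = elX D F v a * y * (elX D F v a)⁻¹ * (elX D F v a * z * (elX D F v a)⁻¹) by group]
        exact mul_mem hy hz
      | inv y _ hy =>
        rw [show elX D F v a * y⁻¹ * (elX D F v a)⁻¹ = (elX D F v a * y * (elX D F v a)⁻¹)⁻¹ by group]
        exact inv_mem hy
    rw [Subgroup.mem_normalizer_iff]
    refine fun y => ⟨key a y, fun hy => ?_⟩
    have := key (-a) _ hy
    rwa [← elX_inv hc F hvlt, inv_inv, ← mul_assoc, ← mul_assoc, inv_mul_cancel, one_mul, inv_mul_cancel_right] at this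
  have hpv : IsPGroup 2 (D.rootSubgroup F v) := by
    refine fun x => ⟨1, Subtype.ext ?_⟩
    obtain ⟨a, ha⟩ := (mem_rootSubgroup hc hvlt).1 x.2
    rw [SubmonoidClass.coe_pow, ha, pow_one, pow_two, elX_add hc F hvlt, CharTwo.add_self_eq_zero, elX_zero hc F hvlt]
    rfl
  have hpP : IsPGroup 2 (uGen D F P) := (isPGroup_pos hc hcomm).to_le (uGen_mono fun s _ h => (hP s h).1)
  refine (hpv.to_sup_of_normal_right' hpP hnorm).to_le (sup_le ?_ le_sup_left)
  rw [rootSubgroup_eq hc ht]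
  exact (uGen_mono fun s _ e => e ▸ List.mem_cons_self ..).trans le_sup_right

end

end CfsgLib.ChevCent
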