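import Cfsg.Agent.Lib.ChevCent.Basic
import Cfsg.Agent.Lib.Chev.All

/-!
# Kernel-checked side conditions for the centralisers of root involutions
-/

set_option autoImplicit false

namespace CfsgLib.ChevCent

open Cfsg.Lie CfsgLib.Chev

variable {D : ChevalleyDatum} {T : Tabs} {F : Type*} [Field F]

/-- the orbit conditions -/
def OrbitOK (D : ChevalleyDatum) (S : ℕ → Bool) (r : ℕ) : Prop :=
  r < D.nroots ∧ S r = true ∧ (∀ i < D.rank, ∀ s < D.nroots, S s = true → S (D.reflectRoot i s) = true) ∧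
    ∀ s < D.nroots, S s = true → s ≤ r

/-- the commutator terms of `r` with the positive roots are even -/
def EvenPos (D : ChevalleyDatum) (r : ℕ) : Prop :=
  ∀ s < D.nroots, D.nroots / 2 ≤ s → ∀ q ∈ D.commTerms r s, (2 : ℤ) ∣ q.2.1

/-- the conditions on the pairing with the fundamental roots -/
def LeviOK (D : ChevalleyDatum) (r i₀ : ℕ) (L : List ℕ) : Prop :=
  i₀ < D.rank ∧ D.cartan i₀ r = 1 ∧ D.reflectRoot i₀ r ≠ r ∧
    (∀ i < D.rank, i ≠ i₀ → D.cartan i r = 0 ∧ D.reflectRoot i r = r ∧ r ≠ D.simple i ∧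
      D.neg (D.simple i) ∈ L ∧ ∀ q ∈ D.commTerms r (D.neg (D.simple i)), (2 : ℤ) ∣ q.2.1) ∧
    ∀ s ∈ L, s < D.nroots ∧ ∃ i < D.rank, i ≠ i₀ ∧ s = D.neg (D.simple i)

instance (S : ℕ → Bool) (r : ℕ) : Decidable (OrbitOK D S r) :=
  inferInstanceAs (Decidable (_ ∧ _ ∧ _ ∧ _))

instance (r : ℕ) : Decidable (EvenPos D r) := inferInstanceAs (Decidable (∀ s < D.nroots, _))

instance (r i₀ : ℕ) (L : List ℕ) : Decidable (LeviOK D r i₀ L) :=
  inferInstanceAs (Decidable (_ ∧ _ ∧ _ ∧ _ ∧ _))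

/-- the conditions making two non-opposite root subgroups generate a unipotent group -/
def PairOK (D : ChevalleyDatum) (S : ℕ → Bool) : Prop :=
  ∀ v < D.nroots, S v = true → v ≠ D.nroots - 1 → v ≠ 0 →
    ∀ s ∈ (D.nroots - 1) :: (D.commTerms v (D.nroots - 1)).map Prod.fst,
      D.nroots / 2 ≤ s ∧ s ≠ v ∧ s ≠ D.neg v ∧
        ∀ q ∈ D.commTerms v s, q.1 ∈ (D.nroots - 1) :: (D.commTerms v (D.nroots - 1)).map Prod.fst

set_option synthInstance.maxSize 512 in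
set_option synthInstance.maxHeartbeats 400000 in
instance (S : ℕ → Bool) : Decidable (PairOK D S) := by
  unfold PairOK
  infer_instance

lemma cast_even [CharP F 2] {z : ℤ} (h : (2 : ℤ) ∣ z) : ((z : ℤ) : F) = 0 :=
  (CharP.intCast_eq_zero_iff F 2 z).2 (by exact_mod_cast h)

theorem centralizer_of_checks [CharP F 2] (hc : Checked D T) (hcomm : CommOne D T) {S : ℕ → Bool} {r i₀ : ℕ}
    {L : List ℕ} (hrp : D.nroots / 2 ≤ r) (h₁ : OrbitOK D S r) (h₂ : EvenPos D r) (h₃ : LeviOK D r i₀ L)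
    (t : GL D.Idx F) (ht : (t : Matrix D.Idx D.Idx F) = D.x F r 1) :
    D.group F ⊓ Subgroup.centralizer {t} = D.posUnipotent F ⊔ uGen D F (fun s => s ∈ L) := by
  obtain ⟨a1, a2, a3, a4⟩ := h₁
  obtain ⟨b1, b2, b3, b4, b5⟩ := h₃
  rw [eq_elX_of_coe hc a1 ht, centralizer_eq hc hcomm (S := S) ⟨a1, a2, a3, a4⟩ hrp b1 b2
      (fun i hi hne => ⟨(b4 i hi hne).1, (b4 i hi hne).2.1, (b4 i hi hne).2.2.1⟩) b3
      (fun s hs hp q hq => cast_even (h₂ s hs hp q hq))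
      (fun i hi hne q hq => cast_even ((b4 i hi hne).2.2.2.2 q hq)),
    posUnipotent_eq hc]
  congr 1
  refine uGen_congr fun s hs => ⟨?_, fun hsL => (b5 s hsL).2⟩
  rintro ⟨i, hi, hne, rfl⟩
  exact (b4 i hi hne).2.2.2.1

theorem closure_list_eq (hc : Checked D T) {L : List ℕ} (hL : ∀ s ∈ L, s < D.nroots) :
    Subgroup.closure {g : GL D.Idx F | ∃ s ∈ L, ∃ c : F, (g : Matrix D.Idx D.Idx F) = D.x F s c}
      = uGen D F (fun s => s ∈ L) := by
  rw [← rootGen_eq hc (fun s => s ∈ L) hL]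
  congr 1
  ext g
  exact ⟨fun ⟨s, hs, c, h⟩ => ⟨s, c, hs, h⟩, fun ⟨s, c, hs, h⟩ => ⟨s, hs, c, h⟩⟩

end CfsgLib.ChevCent
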