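import Cfsg.Agent.Lib.ChevCent.Mixed

/-!
# Certified generation of the non-fundamental root groups by commutators
-/

set_option autoImplicit false
set_option linter.unusedSectionVars false

namespace CfsgLib.ChevCent

open Cfsg.Lie CfsgLib.Chev CfsgLib.ChevField

variable {D : ChevalleyDatum} {T : Tabs} {F : Type*} [Field F]

/-- a coefficient known to vanish: class `k = 2, 3` is the characteristic, `1` and `5` say nothing more -/
def vanishB (k : ℕ) (c : ℤ) : Bool := if k == 2 || k == 3 then c.natAbs % k == 0 else c == 0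

/-- a coefficient known to be invertible -/
def unitB (k : ℕ) (c : ℤ) : Bool :=
  if k == 2 || k == 3 then c.natAbs % k != 0 else if k == 1 then c.natAbs == 1 else decide (1 ≤ c.natAbs ∧ c.natAbs ≤ 4)

/-- one step: the root `r` is obtained from the commutators of `a` and `b`, modulo the roots already obtained -/
def stepB (D : ChevalleyDatum) (k : ℕ) (done : List ℕ) (r a b : ℕ) : Bool :=
  decide (D.nroots / 2 ≤ r) && decide (r < D.nroots) && decide (D.nroots / 2 ≤ a) && decide (a < D.nroots) &&
  decide (D.nroots / 2 ≤ b) && decide (b < D.nroots) && a != b &&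
  match (D.commTerms a b).filter (fun q => !vanishB k q.2.1 && !done.contains q.1) with
  | [q] => q.1 == r && unitB k q.2.1 && (q.2.2.1 == 1 || q.2.2.2 == 1)
  | [q', q] => k != 1 && q.1 == r && unitB k q.2.1 && (q.2.2.1 == 1 || q.2.2.2 == 1) && q'.2.2.1 == 1 &&
      q'.2.2.2 == 1 && q.2.2.1 != q.2.2.2 && decide (q.2.2.1 ≤ 3) && decide (q.2.2.2 ≤ 3)
  | _ => false

/-- a certificate list, checked from the left -/
def certB (D : ChevalleyDatum) (k : ℕ) : List ℕ → List (ℕ × ℕ × ℕ) → Bool
  | done, [] => (List.range D.nroots).all fun r => decide (r < D.nroots / 2) ||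
      (List.range D.rank).any (fun i => D.simple i == r) || done.contains r
  | done, (r, a, b) :: l => stepB D k done r a b && certB D k (r :: done) l

/-- the hypothesis on the field attached to a class of coefficients -/
def ClassOK (F : Type*) [Field F] (k : ℕ) : Prop :=
  (k = 1) ∨ (k = 2 ∧ CharP F 2 ∧ ∃ l : F, l ≠ 0 ∧ l ^ 2 ≠ 1) ∨ (k = 3 ∧ CharP F 3 ∧ ∃ l : F, l ≠ 0 ∧ l ^ 2 ≠ 1) ∨
    (k = 5 ∧ (2 : F) ≠ 0 ∧ (3 : F) ≠ 0 ∧ ∃ l : F, l ≠ 0 ∧ l ^ 2 ≠ 1)

theorem vanish_spec {k : ℕ} (hF : ClassOK F k) {c : ℤ} (h : vanishB k c = true) : (c : F) = 0 := by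
  rcases hF with rfl | ⟨rfl, hp, -⟩ | ⟨rfl, hp, -⟩ | ⟨rfl, -⟩ <;> simp [vanishB] at h
  · simp [h]
  · exact (CharP.intCast_eq_zero_iff F 2 c).2 (Int.natCast_dvd.2 (by omega))
  · exact (CharP.intCast_eq_zero_iff F 3 c).2 (Int.natCast_dvd.2 (by omega))
  · simp [h]

theorem unit_spec {k : ℕ} (hF : ClassOK F k) {c : ℤ} (h : unitB k c = true) : (c : F) ≠ 0 := by
  intro h0
  rcases hF with rfl | ⟨rfl, hp, -⟩ | ⟨rfl, hp, -⟩ | ⟨rfl, h2, h3, -⟩ <;> simp [unitB] at h
  · rcases Int.natAbs_eq c with e | e <;> rw [h] at e <;> simp [e] at h0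
  · have := Int.natCast_dvd.1 ((CharP.intCast_eq_zero_iff F 2 c).1 h0); omega
  · have := Int.natCast_dvd.1 ((CharP.intCast_eq_zero_iff F 3 c).1 h0); omega
  · have hn : ((c.natAbs : ℕ) : F) = 0 := by
      rcases Int.natAbs_eq c with e | e <;> rw [e] at h0 <;> simpa using h0
    obtain ⟨h1, h4⟩ := h
    interval_cases hc' : c.natAbs
    · simp at hn
    · exact h2 (by exact_mod_cast hn)
    · exact h3 (by exact_mod_cast hn)
    · have : (2 : F) * 2 = 0 := by norm_num; exact_mod_cast hn
      exact h2 (mul_self_eq_zero.1 this)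

/-- a product is the product of its factors outside a normalised subgroup, modulo that subgroup -/
theorem prod_mod {G : Type*} [Group G] {C : Subgroup G} {α : Type*} (f : α → G) (keep : α → Bool) (l : List α)
    (hin : ∀ x ∈ l, keep x = false → f x ∈ C) (hnorm : ∀ x ∈ l, f x ∈ Subgroup.normalizer (C : Set G)) :
    ∃ c ∈ C, (l.map f).prod = ((l.filter keep).map f).prod * c := by
  induction l with
  | nil => exact ⟨1, one_mem _, by simp⟩
  | cons x l ih =>
    obtain ⟨c, hc, e⟩ := ih (fun y hy => hin y (List.mem_cons_of_mem _ hy)) (fun y hy => hnorm y (List.mem_cons_of_mem _ hy))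
    cases hk : keep x with
    | true =>
      refine ⟨c, hc, ?_⟩
      rw [List.filter_cons_of_pos hk, List.map_cons, List.map_cons, List.prod_cons, List.prod_cons, e, mul_assoc]
    | false =>
      have hP : ((l.filter keep).map f).prod ∈ Subgroup.normalizer (C : Set G) :=
        Subgroup.list_prod_mem _ fun g hg => by
          obtain ⟨y, hy, rfl⟩ := List.mem_map.1 hg
          exact hnorm y (List.mem_cons_of_mem _ (List.mem_of_mem_filter hy))
      refine ⟨(((l.filter keep).map f).prod)⁻¹ * f x * ((l.filter keep).map f).prod * c,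
        mul_mem ((Subgroup.mem_normalizer_iff''.1 hP _).1 (hin x (List.mem_cons_self ..) hk)) hc, ?_⟩
      rw [List.filter_cons_of_neg (by simp [hk]), List.map_cons, List.prod_cons, e]
      group

section
variable (hc : Checked D T) (hcomm : CommOne D T)
include hc hcomm

/-- the certified roots lie in any normalised group containing the commutators with the radical -/
theorem cert_mem {J : Set ℕ} {k : ℕ} (hF : ClassOK F k) {C : Subgroup (GL D.Idx F)}
    (hC : ∀ g ∈ uGen D F (OutRoot D J), ∀ u ∈ uGen D F (fun r => D.nroots / 2 ≤ r), g * u * g⁻¹ * u⁻¹ ∈ C)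
    (hCn : uGen D F (fun r => D.nroots / 2 ≤ r) ≤ Subgroup.normalizer (C : Set (GL D.Idx F))) :
    ∀ (l : List (ℕ × ℕ × ℕ)) (done : List ℕ),
      (∀ v ∈ done, v < D.nroots → OutRoot D J v → ∀ z : F, elX D F v z ∈ C) → certB D k done l = true →
      ∀ r < D.nroots, OutRoot D J r → (∀ i < D.rank, D.simple i ≠ r) → ∀ z : F, elX D F r z ∈ C := by
  intro l
  induction l with
  | nil =>
    intro done hdone hcert r hr hout hns z
    simp only [certB, List.all_eq_true, List.mem_range, Bool.or_eq_true, decide_eq_true_eq, List.any_eq_true,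
      beq_iff_eq, List.contains_iff_mem] at hcert
    rcases hcert r hr with (h | ⟨i, hi, h⟩) | h
    · exact absurd hout.1 (by omega)
    · exact absurd h (hns i hi)
    · exact hdone r h hr hout z
  | cons x l ih =>
    obtain ⟨r, a, b⟩ := x
    intro done hdone hcert
    rw [certB, Bool.and_eq_true] at hcert
    refine ih (r :: done) (fun v hv hvn hout => ?_) hcert.2
    rcases List.mem_cons.1 hv with rfl | hv
    swap
    · exact hdone v hv hvn hout
    have hstep := hcert.1
    simp only [stepB, Bool.and_eq_true, decide_eq_true_eq, bne_iff_ne, ne_eq] at hstep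
    obtain ⟨⟨⟨⟨⟨⟨⟨hrp, hrn⟩, hap⟩, ha⟩, hbp⟩, hb⟩, hab⟩, hmatch⟩ := hstep
    set keep : (ℕ × ℤ × ℕ × ℕ) → Bool := fun q => !vanishB k q.2.1 && !done.contains q.1
    have hvmem : ∀ q, q ∈ (D.commTerms a b).filter keep → q.1 = v → OutRoot D J a ∨ OutRoot D J b := by
      intro q hq hqv
      obtain ⟨-, -, -, e⟩ := commTerms_weight hc ha hb q (List.mem_of_mem_filter hq)
      obtain ⟨-, j, hj, hne⟩ := (outRoot_iff hc hrn).1 hout
      rw [hqv] at e
      by_contra hno
      push Not at hno
      have h1 : rv D T a j = 0 := by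
        by_contra h; exact hno.1 ((outRoot_iff hc ha).2 ⟨hap, j, hj, h⟩)
      have h2 : rv D T b j = 0 := by
        by_contra h; exact hno.2 ((outRoot_iff hc hb).2 ⟨hbp, j, hj, h⟩)
      exact hne (by rw [e]; simp [h1, h2])
    have hX : ∀ {s : ℕ}, s < D.nroots → D.nroots / 2 ≤ s → ∀ t : F, elX D F s t ∈ uGen D F (fun r => D.nroots / 2 ≤ r) :=
      fun hs hsp t => elX_mem_uGen hs (P := fun r => D.nroots / 2 ≤ r) hsp t
    -- the commutator word, reduced
    have hword : ∀ q₀ ∈ (D.commTerms a b).filter keep, q₀.1 = v → ∀ t u : F,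
        ((((D.commTerms a b).filter keep).map fun q : ℕ × ℤ × ℕ × ℕ =>
          elX D F q.1 ((q.2.1 : F) * (-t) ^ q.2.2.1 * u ^ q.2.2.2))).prod ∈ C := by
      intro q₀ hq₀ hqv t u
      set f : ℕ × ℤ × ℕ × ℕ → GL D.Idx F := fun q => elX D F q.1 ((q.2.1 : F) * (-t) ^ q.2.2.1 * u ^ q.2.2.2)
      have hall : wordGL D F (D.commWord F a b t u) = ((D.commTerms a b).map f).prod := by
        simp only [wordGL, ChevalleyDatum.commWord, List.map_map]; rfl
      have hcommC : wordGL D F (D.commWord F a b t u) ∈ C := by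
        have e := elX_comm hc hcomm ha hb (Ne.symm hab) (ne_neg_of_pos hc ha hap hbp) t u
        have e' : wordGL D F (D.commWord F a b t u)
            = (elX D F a t * elX D F b u)⁻¹ * (elX D F b u * elX D F a t) := by
          rw [e]; group
        rw [e']
        rcases hvmem q₀ hq₀ hqv with ho | ho
        · have h := hC _ (inv_mem (elX_mem_uGen ha (P := OutRoot D J) ho t)) _ (hX hb hbp u)
          have h' := (Subgroup.mem_normalizer_iff.1 (hCn (inv_mem (hX hb hbp u))) _).1 h
          convert h' using 1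
          group
        · have h := hC _ (inv_mem (elX_mem_uGen hb (P := OutRoot D J) ho u)) _ (inv_mem (hX ha hap t))
          convert h using 1
          group
      obtain ⟨c, hcC, hprod⟩ := prod_mod (C := C) f keep (D.commTerms a b)
        (fun q hq hk => by
          simp only [keep, Bool.and_eq_false_iff, Bool.not_eq_eq_eq_not, Bool.not_false] at hk
          obtain ⟨hqn, hi, hj, e⟩ := commTerms_weight hc ha hb q hq
          rcases hk with hk | hk
          · simp only [f, vanish_spec hF hk, zero_mul, elX_zero hc F hqn]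
            exact one_mem _
          · have hqout : OutRoot D J q.1 := by
              rcases hvmem q₀ hq₀ hqv with ho | ho
              · have h' : CombRoot D T b a q.1 := ⟨hqn, q.2.2.2, q.2.2.1, hj, hi, by rw [e, add_comm]⟩
                exact outRoot_comb hc hb hbp ha ho h'
              · exact outRoot_comb hc ha hap hb ho ⟨hqn, q.2.2.1, q.2.2.2, hi, hj, e⟩
            exact hdone q.1 (by simpa using hk) hqn hqout _)
        (fun q hq => by
          obtain ⟨hqn, hi, hj, e⟩ := commTerms_weight hc ha hb q hq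
          exact hCn (hX hqn ((closedPos_pos hc).2 a b q.1 ha hb hap hbp ⟨hqn, q.2.2.1, q.2.2.2, hi, hj, e⟩) _))
      rw [← hall] at hprod
      have := mul_mem hcommC (inv_mem hcC)
      rwa [hprod, mul_inv_cancel_right] at this
    intro z
    rcases hl : (D.commTerms a b).filter keep with _ | ⟨q, _ | ⟨q₂, _ | ⟨q₃, rest⟩⟩⟩ <;>
      simp only [keep] at hl <;> rw [hl] at hmatch <;> simp only [Bool.false_eq_true] at hmatch
    · -- a single new term
      simp only [Bool.and_eq_true, Bool.or_eq_true, beq_iff_eq] at hmatch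
      obtain ⟨⟨hq, hu⟩, hij⟩ := hmatch
      have hw := hword q (by simp only [keep]; rw [hl]; exact List.mem_singleton_self q) hq
      simp only [keep] at hw
      simp only [hl, List.map_cons, List.map_nil, List.prod_cons, List.prod_nil, mul_one, hq] at hw
      have hc0 := unit_spec hF hu
      rcases hij with h | h
      · have := hw (-(z / (q.2.1 : F))) 1
        simpa [h, mul_div_cancel₀ _ hc0] using this
      · have := hw (-1) (z / (q.2.1 : F))
        simpa [h, mul_div_cancel₀ _ hc0] using this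
    · -- two terms, separated by the torus
      simp only [Bool.and_eq_true, Bool.or_eq_true, beq_iff_eq, bne_iff_ne, ne_eq, decide_eq_true_eq] at hmatch
      obtain ⟨⟨⟨⟨⟨⟨⟨⟨hk1, hq⟩, hu⟩, hij⟩, hi'⟩, hj'⟩, hne⟩, hi3⟩, hj3⟩ := hmatch
      obtain ⟨hi0, hj0⟩ : 0 < q₂.2.2.1 ∧ 0 < q₂.2.2.2 := by
        have hm : q₂ ∈ (D.commTerms a b).filter keep := by simp only [keep]; rw [hl]; simp
        obtain ⟨-, h1, h2, -⟩ := commTerms_weight hc ha hb q₂ (List.mem_of_mem_filter hm)
        exact ⟨h1, h2⟩
      have hw := hword q₂ (by simp only [keep]; rw [hl]; simp) hq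
      simp only [keep] at hw
      simp only [hl, List.map_cons, List.map_nil, List.prod_cons, List.prod_nil, mul_one, hq, hi', hj', pow_one] at hw
      have hc0 := unit_spec hF hu
      obtain ⟨lam, hl0, hl2⟩ : ∃ l : F, l ≠ 0 ∧ l ^ 2 ≠ 1 := by
        rcases hF with h | ⟨-, -, h⟩ | ⟨-, -, h⟩ | ⟨-, -, -, h⟩ <;> first | exact absurd h hk1 | exact h
      have hl1 : lam ≠ 1 := fun h => hl2 (by rw [h, one_pow])
      have hqn : v < D.nroots := hrn
      have hdiff : ∀ t u : F, elX D F v ((q₂.2.1 : F) * (-(t * lam)) ^ q₂.2.2.1 * (u / lam) ^ q₂.2.2.2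
          - (q₂.2.1 : F) * (-t) ^ q₂.2.2.1 * u ^ q₂.2.2.2) ∈ C := by
        intro t u
        have h1 := hw t u
        have h2 := hw (t * lam) (u / lam)
        rw [show (q.2.1 : F) * -(t * lam) * (u / lam) = (q.2.1 : F) * -t * u by field_simp] at h2
        have := mul_mem (inv_mem h1) h2
        rw [show ∀ x y z : GL D.Idx F, (x * y)⁻¹ * (x * z) = y⁻¹ * z from fun x y z => by group,
          elX_inv hc F hqn, elX_add hc F hqn] at this
        rwa [sub_eq_neg_add]
      rcases hij with h | h
      · -- linear in the first parameter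
        have hj : q₂.2.2.2 = 2 ∨ q₂.2.2.2 = 3 := by omega
        have hfac : lam / lam ^ q₂.2.2.2 - 1 ≠ 0 := by
          rcases hj with e | e <;> rw [e] <;> intro h0 <;> rw [sub_eq_zero, div_eq_one_iff_eq (pow_ne_zero _ hl0)] at h0
          · exact hl1 (mul_left_cancel₀ hl0 (by rw [mul_one, ← pow_two, ← h0]))
          · exact hl2 (mul_left_cancel₀ hl0 (by rw [mul_one, ← pow_succ', ← h0]))
        have := hdiff (-(z / ((q₂.2.1 : F) * (lam / lam ^ q₂.2.2.2 - 1)))) 1
        convert this using 2
        rw [h, pow_one, pow_one, one_pow, div_pow, one_pow]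
        field_simp
        rw [mul_div_cancel_right₀ z fun h0 : lam - lam ^ q₂.2.2.2 = 0 => hfac (by
          rw [sub_eq_zero, div_eq_one_iff_eq (pow_ne_zero _ hl0)]; exact sub_eq_zero.1 h0)]
      · have hi : q₂.2.2.1 = 2 ∨ q₂.2.2.1 = 3 := by omega
        have hfac : lam ^ q₂.2.2.1 / lam - 1 ≠ 0 := by
          rcases hi with e | e <;> rw [e] <;> intro h0 <;> rw [sub_eq_zero, div_eq_one_iff_eq hl0] at h0
          · exact hl1 (mul_left_cancel₀ hl0 (by rw [mul_one, ← pow_two, h0]))
          · exact hl2 (mul_left_cancel₀ hl0 (by rw [mul_one, ← pow_succ', h0]))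
        have := hdiff (-1) (z / ((q₂.2.1 : F) * (lam ^ q₂.2.2.1 / lam - 1)))
        convert this using 2
        rw [h, pow_one, pow_one, neg_neg, one_pow, neg_mul, neg_neg, one_mul]
        field_simp
        rw [mul_div_cancel_right₀ z fun h0 : lam ^ q₂.2.2.1 - lam = 0 => hfac (by
          rw [sub_eq_zero.1 h0, div_self hl0, sub_self])]

end

end CfsgLib.ChevCent
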