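import Mathlib

/-!
# Integral matrices whose characteristic polynomial is cyclotomic
-/

set_option autoImplicit false

namespace CfsgLib.ChevCent

open Polynomial Matrix

variable {n : Type*} [Fintype n] [DecidableEq n]

/-- a matrix of finite order with an eigenvalue of order `d` modulo `r`, of degree `φ d` -/
theorem charpoly_eq_cyclotomic {A : Matrix n n ℤ} {N d r : ℕ} [Fact r.Prime] {q : ℤ} (hAN : A ^ N = 1)
    (hrN : ¬ r ∣ N) (hd : orderOf (q : ZMod r) = d) (hdeg : Nat.totient d = Fintype.card n)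
    (hev : ∀ p : ℤ[X], Polynomial.aeval A p = 0 → ((p.eval q : ℤ) : ZMod r) = 0) :
    A.charpoly = Polynomial.cyclotomic d ℤ := by
  classical
  have hN0 : 0 < N := Nat.pos_of_ne_zero fun h => hrN (h ▸ dvd_zero r)
  haveI hNz : NeZero (N : ZMod r) := ⟨fun h => hrN ((ZMod.natCast_eq_zero_iff _ r).1 h)⟩
  have hqN : (q : ZMod r) ^ N = 1 := by
    have := hev (X ^ N - 1) (by simp [hAN])
    simpa [sub_eq_zero] using this
  have hdN : d ∣ N := hd ▸ orderOf_dvd_of_pow_eq_one hqN
  have hd0 : 0 < d := Nat.pos_of_dvd_of_pos hdN hN0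
  set P : ℤ[X] := ∏ e ∈ N.divisors.erase d, cyclotomic e ℤ
  have hP : ((P.eval q : ℤ) : ZMod r) ≠ 0 := by
    rw [Polynomial.eval_prod, Int.cast_prod]
    refine Finset.prod_ne_zero_iff.2 fun e he h0 => ?_
    obtain ⟨hed, heN⟩ := Finset.mem_erase.1 he
    have hdvd := Nat.dvd_of_mem_divisors heN
    haveI : NeZero (e : ZMod r) := ⟨fun h => hrN (((ZMod.natCast_eq_zero_iff _ r).1 h).trans hdvd)⟩
    have hroot : IsRoot (cyclotomic e (ZMod r)) (q : ZMod r) := by
      rw [← map_cyclotomic e (Int.castRingHom (ZMod r)), IsRoot, Polynomial.eval_intCast_map]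
      exact h0
    exact hed ((isRoot_cyclotomic_iff.1 hroot).eq_orderOf.trans hd)
  set A' : Matrix n n ℚ := (Int.castRingHom ℚ).mapMatrix A with hA'
  have hann : Polynomial.aeval A' (X ^ N - 1 : ℚ[X]) = 0 := by
    rw [map_sub, aeval_X_pow, map_one, hA', ← map_pow, hAN, map_one, sub_self]
  have hdvdμ : cyclotomic d ℚ ∣ minpoly ℚ A' := by
    by_contra h
    have hcop : IsCoprime (minpoly ℚ A') (cyclotomic d ℚ) :=
      ((cyclotomic.irreducible_rat hd0).coprime_iff_not_dvd.2 h).symm
    have hμ : minpoly ℚ A' ∣ (cyclotomic d ℚ) * P.map (Int.castRingHom ℚ) := by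
      have e : (cyclotomic d ℚ) * P.map (Int.castRingHom ℚ) = X ^ N - 1 := by
        simp only [P, Polynomial.map_prod, map_cyclotomic]
        rw [Finset.mul_prod_erase _ (fun e => cyclotomic e ℚ) (Nat.mem_divisors.2 ⟨hdN, hN0.ne'⟩),
          prod_cyclotomic_eq_X_pow_sub_one hN0]
      rw [e]; exact minpoly.dvd ℚ A' hann
    obtain ⟨c, hc⟩ := hcop.dvd_of_dvd_mul_left hμ
    have h0 : Polynomial.aeval A' (P.map (Int.castRingHom ℚ)) = 0 := by
      rw [hc, map_mul, minpoly.aeval, zero_mul]
    refine hP (hev P ?_)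
    have h1 : (Int.castRingHom ℚ).mapMatrix (Polynomial.aeval A P) = 0 := by
      rw [← h0, hA', Polynomial.aeval_def, Polynomial.aeval_def, Polynomial.eval₂_map, Polynomial.hom_eval₂]
      exact congrArg (fun f => Polynomial.eval₂ f _ P) (RingHom.ext_int _ _)
    exact Matrix.map_injective (f := fun z : ℤ => (z : ℚ)) Int.cast_injective (h1.trans (Matrix.map_zero _ Int.cast_zero).symm)
  have hdvdc : cyclotomic d ℚ ∣ A'.charpoly := hdvdμ.trans (Matrix.minpoly_dvd_charpoly A')
  have heq : A'.charpoly = cyclotomic d ℚ := by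
    refine (Polynomial.eq_of_monic_of_dvd_of_natDegree_le (cyclotomic.monic d ℚ) A'.charpoly_monic hdvdc ?_)
    rw [Matrix.charpoly_natDegree_eq_dim, natDegree_cyclotomic, hdeg]
  refine Polynomial.map_injective (Int.castRingHom ℚ) Int.cast_injective ?_
  rw [map_cyclotomic, ← heq, hA']
  exact (Matrix.charpoly_map A (Int.castRingHom ℚ)).symm

/-- a matrix killing the orbit of a non-zero vector is zero -/
theorem eq_zero_of_orbit {A S : Matrix n n ℤ} {d : ℕ} (hd : 0 < d) (hcp : A.charpoly = cyclotomic d ℤ) {v : n → ℤ}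
    (hv : v ≠ 0) (h : ∀ i, S *ᵥ ((A ^ i) *ᵥ v) = 0) : S = 0 := by
  classical
  set c := Int.castRingHom ℚ
  set A' := c.mapMatrix A
  set S' := c.mapMatrix S
  set v' : n → ℚ := c ∘ v
  have hA' : A'.charpoly = cyclotomic d ℚ := by
    rw [show A' = A.map c from rfl, Matrix.charpoly_map, hcp, map_cyclotomic]
  have hv' : v' ≠ 0 := fun e => hv (funext fun i => c.injective_int (by simpa [v', c] using congrFun e i))
  have horb : ∀ i, S' *ᵥ ((A' ^ i) *ᵥ v') = 0 := fun i => by
    funext j
    have hj := congrArg c (congrFun (h i) j)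
    rw [RingHom.map_mulVec, Pi.zero_apply, map_zero] at hj
    rw [Pi.zero_apply, ← hj]
    refine congrArg (fun w => (S' *ᵥ w) j) (funext fun k => ?_)
    rw [Function.comp_apply, RingHom.map_mulVec]
    show ((A' ^ i) *ᵥ v') k = ((c.mapMatrix (A ^ i)) *ᵥ v') k
    rw [map_pow]
  let f : Fin (Fintype.card n) → (n → ℚ) := fun i => (A' ^ (i : ℕ)) *ᵥ v'
  have hli : LinearIndependent ℚ f := by
    rw [Fintype.linearIndependent_iff]
    intro g hg
    set p : ℚ[X] := ∑ i, C (g i) * X ^ (i : ℕ)
    have hpA : (Polynomial.aeval A' p) *ᵥ v' = 0 := by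
      rw [← hg]
      simp only [p, f, map_sum, map_mul, Polynomial.aeval_C, map_pow, Polynomial.aeval_X, Matrix.sum_mulVec,
        ← Algebra.smul_def, Matrix.smul_mulVec]
    have hp0 : p = 0 := by
      by_contra hp
      have hdeg : p.natDegree < (cyclotomic d ℚ).natDegree := by
        rw [← hA', Matrix.charpoly_natDegree_eq_dim]
        have hn : 0 < Fintype.card n := by
          rcases Nat.eq_zero_or_pos (Fintype.card n) with h0 | h0
          · haveI := Fintype.card_eq_zero_iff.1 h0
            exact absurd (Subsingleton.elim v 0) hv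
          · exact h0
        refine lt_of_le_of_lt (Polynomial.natDegree_sum_le_of_forall_le _ _ (n := Fintype.card n - 1) fun i _ => ?_)
          (Nat.sub_lt hn one_pos)
        exact (Polynomial.natDegree_C_mul_X_pow_le _ _).trans (by have := i.2; omega)
      have hcop : IsCoprime (cyclotomic d ℚ) p := (cyclotomic.irreducible_rat hd).coprime_iff_not_dvd.2
        fun hdvd => Nat.not_le.2 hdeg (Polynomial.natDegree_le_of_dvd hdvd hp)
      obtain ⟨a, b, hab⟩ := hcop
      have := congrArg (fun t => (Polynomial.aeval A' t) *ᵥ v') hab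
      simp only [map_add, map_mul, ← hA', Matrix.aeval_self_charpoly, mul_zero, zero_add, ← Matrix.mulVec_mulVec,
        hpA, Matrix.mulVec_zero, map_one, Matrix.one_mulVec] at this
      exact hv' this.symm
    intro i
    have hi := congrArg (fun t => t.coeff (i : ℕ)) hp0
    simpa [p, Polynomial.finset_sum_coeff, Polynomial.coeff_C_mul_X_pow, Fin.val_inj] using hi
  have hspan := hli.span_eq_top_of_card_eq_finrank' (by rw [Fintype.card_fin, Module.finrank_pi])
  have hzero : S'.mulVecLin = 0 := LinearMap.ext_on_range hspan fun i => horb i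
  have : S' = 0 := Matrix.ext_iff_mulVec.2 fun w => by
    rw [Matrix.zero_mulVec]; exact LinearMap.congr_fun hzero w
  exact Matrix.map_injective (f := c) c.injective_int (this.trans (Matrix.map_zero _ (map_zero c)).symm)

/-- the adjugate of `q - A` does not vanish modulo a prime that is simple in `Φ_d(q)` or does not divide `d` -/
theorem adjugate_ne_zero {A : Matrix n n ℤ} {d : ℕ} (hd : 0 < d) (hn : 2 ≤ Fintype.card n)
    (hcp : A.charpoly = cyclotomic d ℤ) {q : ℤ} (hq0 : (cyclotomic d ℤ).eval q ≠ 0) {l : ℕ} [Fact l.Prime]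
    (hl : (l : ℤ) ∣ (cyclotomic d ℤ).eval q) (hsq : l ∣ d → ¬ ((l : ℤ) ^ 2 ∣ (cyclotomic d ℤ).eval q)) :
    ∃ i j, ¬ (l : ℤ) ∣ adjugate (scalar n q - A) i j := by
  classical
  by_contra hall
  push Not at hall
  set B := scalar n q - A with hB
  set Φ := cyclotomic d ℤ
  have hdet : B.det = Φ.eval q := by rw [hB, ← Matrix.eval_charpoly, hcp]
  by_cases hld : l ∣ d
  · obtain ⟨C, hC⟩ : ∃ C : Matrix n n ℤ, adjugate B = (l : ℤ) • C :=
      ⟨Matrix.of fun i j => adjugate B i j / (l : ℤ), by
        ext i j; simp [Int.mul_ediv_cancel' (hall i j)]⟩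
    have h1 := congrArg Matrix.det hC
    rw [Matrix.det_adjugate, Matrix.det_smul, hdet] at h1
    obtain ⟨m, hm⟩ := hl
    have hlm : ¬ (l : ℤ) ∣ m := fun ⟨k, hk⟩ => hsq hld ⟨k, by rw [hm, hk]; ring⟩
    have hlp : Prime (l : ℤ) := Nat.prime_iff_prime_int.1 (Fact.out : l.Prime)
    rw [hm, show Fintype.card n = Fintype.card n - 1 + 1 by omega, Nat.add_sub_cancel, mul_pow, pow_succ,
      mul_assoc] at h1
    have h2 := mul_left_cancel₀ (pow_ne_zero _ hlp.ne_zero) h1
    exact hlm (hlp.dvd_of_dvd_pow (h2 ▸ dvd_mul_right _ _))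
  set c := Int.castRingHom (ZMod l)
  set B' := c.mapMatrix B
  have hdet0 : B'.det = 0 := by
    rw [show B'.det = c B.det from (RingHom.map_det c B).symm, hdet]
    exact (ZMod.intCast_zmod_eq_zero_iff_dvd _ l).2 hl
  obtain ⟨v, hv, hBv⟩ := Matrix.exists_mulVec_eq_zero_iff.2 hdet0
  obtain ⟨G, hG⟩ : (X - C q) ∣ Φ - C (Φ.eval q) := by
    rw [dvd_iff_isRoot]; simp [IsRoot]
  have hGA : Polynomial.aeval A G = adjugate B := by
    have h1 := congrArg (Polynomial.aeval A) hG
    rw [map_mul, map_sub, map_sub, aeval_C, aeval_C, aeval_X, ← hcp, Matrix.aeval_self_charpoly, zero_sub] at h1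
    have h2 : B * Polynomial.aeval A G = Φ.eval q • (1 : Matrix n n ℤ) := by
      have : (algebraMap ℤ (Matrix n n ℤ)) q - A = B := rfl
      rw [← this, ← Algebra.algebraMap_eq_smul_one, ← neg_sub, neg_mul, ← h1, neg_neg, hcp]
    have h3 := congrArg (fun M => adjugate B * M) h2
    simp only [← Matrix.mul_assoc, Matrix.adjugate_mul, hdet, Matrix.smul_mul, Matrix.one_mul, Matrix.mul_smul,
      Matrix.mul_one] at h3
    exact smul_right_injective _ hq0 h3
  set A' := c.mapMatrix A
  have hAv : A' *ᵥ v = c q • v := by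
    have : B' = c q • (1 : Matrix n n (ZMod l)) - A' := by
      ext i j
      simp only [B', A', hB, RingHom.mapMatrix_apply, Matrix.map_apply, Matrix.sub_apply, Matrix.scalar_apply,
        Matrix.diagonal_apply, Matrix.smul_apply, Matrix.one_apply, smul_eq_mul, map_sub]
      split <;> simp
    rw [this, Matrix.sub_mulVec, Matrix.smul_mulVec, Matrix.one_mulVec, sub_eq_zero] at hBv
    exact hBv.symm
  have hev : ∀ p : ℤ[X], (c.mapMatrix (Polynomial.aeval A p)) *ᵥ v = c (p.eval q) • v := by
    intro p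
    induction p using Polynomial.induction_on' with
    | add a b ha hb => rw [map_add, map_add, Matrix.add_mulVec, ha, hb, eval_add, map_add, add_smul]
    | monomial k a =>
      have hk : ∀ k : ℕ, (A' ^ k) *ᵥ v = (c q) ^ k • v := by
        intro k
        induction k with
        | zero => simp
        | succ k ih => rw [pow_succ, ← Matrix.mulVec_mulVec, hAv, Matrix.mulVec_smul, ih, smul_smul, pow_succ']
      have hs : c.mapMatrix (algebraMap ℤ (Matrix n n ℤ) a) = c a • (1 : Matrix n n (ZMod l)) := by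
        ext i j
        simp only [RingHom.mapMatrix_apply, Matrix.map_apply, Matrix.algebraMap_matrix_apply, Matrix.smul_apply,
          Matrix.one_apply, smul_eq_mul, Algebra.algebraMap_self, RingHom.id_apply]
        split <;> simp
      rw [Polynomial.aeval_monomial, map_mul, map_pow, eval_monomial, map_mul, map_pow, hs,
        ← Matrix.mulVec_mulVec, hk k, Matrix.smul_mulVec, Matrix.one_mulVec, smul_smul]
  have hG0 : c (G.eval q) = 0 := by
    have h := hev G
    rw [hGA, show c.mapMatrix (adjugate B) = 0 from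
      Matrix.ext fun i j => (ZMod.intCast_zmod_eq_zero_iff_dvd _ l).2 (hall i j), Matrix.zero_mulVec] at h
    exact (smul_eq_zero.1 h.symm).resolve_right hv
  have hderiv : G.eval q = (derivative Φ).eval q := by
    have h := congrArg (fun p => (derivative p).eval q) hG
    simpa using h.symm
  obtain ⟨H, hH⟩ : Φ ∣ X ^ d - 1 := cyclotomic.dvd_X_pow_sub_one d ℤ
  have hz : c (Φ.eval q) = 0 := (ZMod.intCast_zmod_eq_zero_iff_dvd _ l).2 hl
  have h1 : c (q ^ d - 1) = 0 := by
    have := congrArg (fun p => c (p.eval q)) hH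
    simp only [eval_sub, eval_pow, eval_X, eval_one, eval_mul, map_mul, hz, zero_mul] at this
    exact this
  have h2 : c ((d : ℤ) * q ^ (d - 1)) = 0 := by
    have := congrArg (fun p => c ((derivative p).eval q)) hH
    simp only [derivative_mul, eval_add, eval_mul, map_add, map_mul, hz, ← hderiv, hG0, zero_mul, add_zero] at this
    rw [← this]
    simp [derivative_X_pow]
  rw [map_mul, map_pow] at h2
  rw [map_sub, map_pow, map_one, sub_eq_zero] at h1
  rcases mul_eq_zero.1 h2 with h | h
  · exact hld ((ZMod.natCast_eq_zero_iff _ l).1 (by simpa using h))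
  · have hq : c q = 0 := (pow_eq_zero_iff'.1 h).1
    rw [hq, zero_pow hd.ne'] at h1
    exact zero_ne_one h1

/-- a left kernel on which a cofactor is non-zero has one coordinate as parameter -/
theorem eq_zero_of_vecMul {K : Type*} [Field K] {B : Matrix n n K} {i j : n} (h : adjugate B i j ≠ 0) {v : n → K}
    (hv : v ᵥ* B = 0) (hvj : v j = 0) : v = 0 := by
  by_contra hne
  apply h
  rw [Matrix.adjugate_apply]
  refine Matrix.exists_vecMul_eq_zero_iff.1 ⟨v, hne, ?_⟩
  funext k
  rw [Pi.zero_apply, ← show (v ᵥ* B) k = 0 from congrFun hv k]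
  refine Finset.sum_congr rfl fun a _ => ?_
  by_cases e : a = j
  · subst e; simp [hvj]
  · show v a * B.updateRow j (Pi.single i 1) a k = v a * B a k
    rw [Matrix.updateRow_ne e]

end CfsgLib.ChevCent
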