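import Mathlib

/-!
# The cyclotomic polynomials of the twelfth roots of unity
-/

set_option autoImplicit false

namespace CfsgLib.ChevCent

open Polynomial

theorem cyclotomic_six_eq : cyclotomic 6 ℤ = X ^ 2 - X + 1 := by
  have h := cyclotomic_expand_eq_cyclotomic_mul (R := ℤ) Nat.prime_two (show ¬ 2 ∣ 3 by norm_num)
  rw [cyclotomic_three] at h
  simp only [map_add, map_pow, expand_X, map_one, show 3 * 2 = 6 from rfl] at h
  refine mul_right_cancel₀ (b := (X ^ 2 + X + 1 : ℤ[X])) ?_ ?_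
  · intro h0
    have := congrArg (fun p => p.eval 0) h0
    simp at this
  · rw [← h]; ring

theorem cyclotomic_twelve_eq : cyclotomic 12 ℤ = X ^ 4 - X ^ 2 + 1 := by
  have h := cyclotomic_expand_eq_cyclotomic (R := ℤ) Nat.prime_two (show 2 ∣ 6 by norm_num)
  rw [cyclotomic_six_eq, show 6 * 2 = 12 from rfl] at h
  rw [← h]
  simp only [map_add, map_sub, map_pow, expand_X, map_one]
  ring

theorem eval_cyclotomic_twelve {q : ℕ} (hq : 0 < q) :
    (cyclotomic 12 ℤ).eval (q : ℤ) = ((q ^ 4 - q ^ 2 + 1 : ℕ) : ℤ) := by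
  rw [cyclotomic_twelve_eq]
  simp only [eval_add, eval_sub, eval_pow, eval_X, eval_one]
  rw [Nat.cast_add, Nat.cast_sub (Nat.pow_le_pow_right hq (by norm_num))]
  push_cast
  ring

theorem eval_cyclotomic_three_nat (q : ℕ) : (cyclotomic 3 ℤ).eval (q : ℤ) = ((q ^ 2 + q + 1 : ℕ) : ℤ) := by
  rw [cyclotomic_three]; simp

/-- a prime divisor of `Φ₁₂(q)` -/
theorem exists_prime_twelve {q : ℕ} (hq : 2 ≤ q) : ∃ r, r.Prime ∧ r ∣ q ^ 4 - q ^ 2 + 1 ∧ 13 ≤ r ∧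
    orderOf (q : ZMod r) = 12 ∧ ¬ r ∣ q := by
  have h4 : q ^ 2 * 2 ≤ q ^ 4 := by
    have : 2 ≤ q ^ 2 := by nlinarith
    calc q ^ 2 * 2 ≤ q ^ 2 * q ^ 2 := Nat.mul_le_mul_left _ this
      _ = q ^ 4 := by ring
  have hne : q ^ 4 - q ^ 2 + 1 ≠ 1 := by
    have : 0 < q ^ 2 := by positivity
    omega
  obtain ⟨r, hr, hrΦ⟩ := Nat.exists_prime_and_dvd hne
  haveI := Fact.mk hr
  have hmod : ∀ m, (m = 2 ∨ m = 3) → ¬ m ∣ q ^ 4 - q ^ 2 + 1 := by
    intro m hm hdvd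
    have h := (ZMod.natCast_eq_zero_iff (q ^ 4 - q ^ 2 + 1) m).2 hdvd
    rw [Nat.cast_add, Nat.cast_sub (by omega)] at h
    push_cast at h
    rcases hm with rfl | rfl
    · exact absurd h ((by decide : ∀ a : ZMod 2, a ^ 4 - a ^ 2 + 1 ≠ 0) _)
    · exact absurd h ((by decide : ∀ a : ZMod 3, a ^ 4 - a ^ 2 + 1 ≠ 0) _)
  have hr2 : r ≠ 2 := fun h => hmod 2 (Or.inl rfl) (h ▸ hrΦ)
  have hr3 : r ≠ 3 := fun h => hmod 3 (Or.inr rfl) (h ▸ hrΦ)
  haveI : NeZero ((12 : ℕ) : ZMod r) := ⟨fun h => by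
    have hd := (ZMod.natCast_eq_zero_iff _ r).1 h
    rcases hr.dvd_mul.1 (show r ∣ 4 * 3 from hd) with h | h
    · exact hr2 ((Nat.prime_dvd_prime_iff_eq hr Nat.prime_two).1 (hr.dvd_of_dvd_pow (show r ∣ 2 ^ 2 from h)))
    · exact hr3 ((Nat.prime_dvd_prime_iff_eq hr Nat.prime_three).1 h)⟩
  have hroot : IsRoot (cyclotomic 12 (ZMod r)) (q : ZMod r) := by
    rw [← map_cyclotomic 12 (Int.castRingHom (ZMod r)), IsRoot,
      show (q : ZMod r) = (Int.castRingHom (ZMod r)) (q : ℤ) by simp, Polynomial.eval_map, Polynomial.eval₂_at_apply,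
      eval_cyclotomic_twelve (by omega)]
    rw [eq_intCast, Int.cast_natCast, ZMod.natCast_eq_zero_iff]
    exact hrΦ
  have hord : orderOf (q : ZMod r) = 12 := (isRoot_cyclotomic_iff.1 hroot).eq_orderOf.symm
  have hq0 : (q : ZMod r) ≠ 0 := fun h => by
    rw [h, orderOf_zero] at hord
    norm_num at hord
  have hdiv : 12 ∣ r - 1 := hord ▸ orderOf_dvd_of_pow_eq_one (ZMod.pow_card_sub_one_eq_one hq0)
  refine ⟨r, hr, hrΦ, ?_, hord, fun h => hq0 ((ZMod.natCast_eq_zero_iff _ r).2 h)⟩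
  obtain ⟨k, hk⟩ := hdiv
  have := hr.two_le
  rcases Nat.eq_zero_or_pos k with rfl | h <;> omega

end CfsgLib.ChevCent
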