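import Cfsg.Agent.Lib.ChevCent.EllipticTorus

/-!
# Characters killed by an integral matrix: cyclicity and number

`q - A` for a Weyl element `A` whose characteristic polynomial need not be irreducible.
-/

set_option autoImplicit false
set_option linter.unusedSectionVars false

namespace CfsgLib.ChevCent

open Cfsg.Lie CfsgLib.Chev Polynomial
open scoped Matrix

section
variable {n : Type*} [Fintype n] [DecidableEq n]

/-- the adjugate of `q - A` is non-zero modulo `l` when `q` is a simple root of the characteristic polynomial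
modulo `l`, or `l` divides its value only once -/
theorem adjugate_ne_zero_of_charpoly {A : Matrix n n ℤ} (hn : 2 ≤ Fintype.card n) {q : ℤ}
    (hq0 : A.charpoly.eval q ≠ 0) {l : ℕ} [Fact l.Prime] (hl : (l : ℤ) ∣ A.charpoly.eval q)
    (hs : ¬ (l : ℤ) ∣ (derivative A.charpoly).eval q ∨ ¬ (l : ℤ) ^ 2 ∣ A.charpoly.eval q) :
    ∃ i j, ¬ (l : ℤ) ∣ Matrix.adjugate (Matrix.scalar n q - A) i j := by
  classical
  by_contra hall
  push Not at hall
  set B := Matrix.scalar n q - A with hB
  generalize hΦdef : A.charpoly = Φ at hq0 hl hs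
  have hcp : A.charpoly = Φ := hΦdef
  have hdet : B.det = Φ.eval q := by rw [hB, ← Matrix.eval_charpoly, hcp]
  rcases hs with hs | hs
  swap
  · obtain ⟨C, hC⟩ : ∃ C : Matrix n n ℤ, Matrix.adjugate B = (l : ℤ) • C :=
      ⟨Matrix.of fun i j => Matrix.adjugate B i j / (l : ℤ), by
        ext i j; simp [Int.mul_ediv_cancel' (hall i j)]⟩
    have h1 := congrArg Matrix.det hC
    rw [Matrix.det_adjugate, Matrix.det_smul, hdet] at h1
    obtain ⟨m, hm⟩ := hl
    have hlm : ¬ (l : ℤ) ∣ m := fun ⟨k, hk⟩ => hs ⟨k, by rw [hm, hk]; ring⟩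
    have hlp : Prime (l : ℤ) := Nat.prime_iff_prime_int.1 (Fact.out : l.Prime)
    rw [hm, show Fintype.card n = Fintype.card n - 1 + 1 by omega, Nat.add_sub_cancel, mul_pow, pow_succ,
      mul_assoc] at h1
    have h2 := mul_left_cancel₀ (pow_ne_zero _ hlp.ne_zero) h1
    exact hlm (hlp.dvd_of_dvd_pow (h2 ▸ dvd_mul_right _ _))
  set c := Int.castRingHom (ZMod l)
  set B' := c.mapMatrix B
  have hdet0 : B'.det = 0 := by
    rw [show B'.det = c B.det from (RingHom.map_det c B).symm, hdet]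
    exact (ZMod.intCast_zmod_eq_zero_iff_dvd _ l).2 hl
  obtain ⟨v, hv, hBv⟩ := Matrix.exists_mulVec_eq_zero_iff.2 hdet0
  obtain ⟨G, hG⟩ : (X - C q) ∣ Φ - C (Φ.eval q) := by
    rw [dvd_iff_isRoot]; simp [IsRoot]
  have hGA : Polynomial.aeval A G = Matrix.adjugate B := by
    have h1 := congrArg (Polynomial.aeval A) hG
    rw [map_mul, map_sub, map_sub, aeval_C, aeval_C, aeval_X, ← hcp, Matrix.aeval_self_charpoly, zero_sub] at h1
    have h2 : B * Polynomial.aeval A G = Φ.eval q • (1 : Matrix n n ℤ) := by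
      have : (algebraMap ℤ (Matrix n n ℤ)) q - A = B := rfl
      rw [← this, ← Algebra.algebraMap_eq_smul_one, ← neg_sub, neg_mul, ← h1, neg_neg, hcp]
    have h3 := congrArg (fun M => Matrix.adjugate B * M) h2
    simp only [← Matrix.mul_assoc, Matrix.adjugate_mul, hdet, Matrix.smul_mul, Matrix.one_mul, Matrix.mul_smul,
      Matrix.mul_one] at h3
    exact smul_right_injective _ hq0 h3
  set A' := c.mapMatrix A
  have hAv : A' *ᵥ v = c q • v := by
    have : B' = c q • (1 : Matrix n n (ZMod l)) - A' := by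
      ext i j
      simp only [B', A', hB, RingHom.mapMatrix_apply, Matrix.map_apply, Matrix.sub_apply, Matrix.scalar_apply,
        Matrix.diagonal_apply, Matrix.smul_apply, Matrix.one_apply, smul_eq_mul, map_sub]
      split <;> simp
    rw [this, Matrix.sub_mulVec, Matrix.smul_mulVec, Matrix.one_mulVec, sub_eq_zero] at hBv
    exact hBv.symm
  have hev : ∀ p : ℤ[X], (c.mapMatrix (Polynomial.aeval A p)) *ᵥ v = c (p.eval q) • v := by
    intro p
    induction p using Polynomial.induction_on' with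
    | add a b ha hb => rw [map_add, map_add, Matrix.add_mulVec, ha, hb, eval_add, map_add, add_smul]
    | monomial k a =>
      have hk : ∀ k : ℕ, (A' ^ k) *ᵥ v = (c q) ^ k • v := by
        intro k
        induction k with
        | zero => simp
        | succ k ih => rw [pow_succ, ← Matrix.mulVec_mulVec, hAv, Matrix.mulVec_smul, ih, smul_smul, pow_succ']
      have hs : c.mapMatrix (algebraMap ℤ (Matrix n n ℤ) a) = c a • (1 : Matrix n n (ZMod l)) := by
        ext i j
        simp only [RingHom.mapMatrix_apply, Matrix.map_apply, Matrix.algebraMap_matrix_apply, Matrix.smul_apply,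
          Matrix.one_apply, smul_eq_mul, Algebra.algebraMap_self, RingHom.id_apply]
        split <;> simp
      rw [Polynomial.aeval_monomial, map_mul, map_pow, eval_monomial, map_mul, map_pow, hs,
        ← Matrix.mulVec_mulVec, hk k, Matrix.smul_mulVec, Matrix.one_mulVec, smul_smul]
  have hG0 : c (G.eval q) = 0 := by
    have h := hev G
    rw [hGA, show c.mapMatrix (Matrix.adjugate B) = 0 from
      Matrix.ext fun i j => (ZMod.intCast_zmod_eq_zero_iff_dvd _ l).2 (hall i j), Matrix.zero_mulVec] at h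
    exact (smul_eq_zero.1 h.symm).resolve_right hv
  have hderiv : G.eval q = (derivative Φ).eval q := by
    have h := congrArg (fun p => (derivative p).eval q) hG
    simpa using h.symm
  refine hs ((ZMod.intCast_zmod_eq_zero_iff_dvd _ l).1 ?_)
  rw [← hderiv]
  exact hG0

/-- a divisor of `X ^ d - 1` has simple roots modulo a prime not dividing `d` -/
theorem not_dvd_derivative_of_dvd {f : ℤ[X]} {d : ℕ} (hd : 0 < d) (hf : f ∣ X ^ d - 1) {q : ℤ} {l : ℕ}
    [Fact l.Prime] (hl : (l : ℤ) ∣ f.eval q) (hld : ¬ l ∣ d) : ¬ (l : ℤ) ∣ (derivative f).eval q := by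
  intro h
  obtain ⟨H, hH⟩ := hf
  have hlp : Prime (l : ℤ) := Nat.prime_iff_prime_int.1 (Fact.out : l.Prime)
  have h1 : (l : ℤ) ∣ q ^ d - 1 := by
    have := congrArg (fun p => p.eval q) hH
    simp only [eval_sub, eval_pow, eval_X, eval_one, eval_mul] at this
    rw [this]; exact dvd_mul_of_dvd_left hl _
  have h2 : (l : ℤ) ∣ (d : ℤ) * q ^ (d - 1) := by
    have := congrArg (fun p => (derivative p).eval q) hH
    simp only [derivative_mul, eval_add, eval_mul, derivative_sub, derivative_one, sub_zero, derivative_X_pow,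
      eval_C, eval_pow, eval_X] at this
    rw [this]; exact dvd_add (dvd_mul_of_dvd_left h _) (dvd_mul_of_dvd_left hl _)
  rcases hlp.dvd_mul.1 h2 with h | h
  · exact hld (Int.natCast_dvd_natCast.1 h)
  · have h3 : (l : ℤ) ∣ q ^ d := dvd_pow (hlp.dvd_of_dvd_pow h) hd.ne'
    exact hlp.not_unit (isUnit_of_dvd_one (by simpa using dvd_sub h3 h1))

end

section
variable {D : ChevalleyDatum} {E : Type*} [Field E]

/-- a character killed by `B` has exponent `det B` -/
theorem pow_det_eq_one {B : Matrix (Fin D.rank) (Fin D.rank) ℤ} {N : ℕ} (hdet : B.det = (N : ℤ))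
    {χ : Fin D.rank → Eˣ} (hχ : ∀ v, chi χ (B *ᵥ v) = 1) : χ ^ N = 1 := by
  funext j
  have h1 := hχ (B.adjugate *ᵥ Pi.single j 1)
  rw [Matrix.mulVec_mulVec, Matrix.mul_adjugate, Matrix.smul_mulVec, Matrix.one_mulVec, hdet, chi_smul,
    chi_single, zpow_one, zpow_natCast] at h1
  exact h1

/-- the characters killed by `B` form a cyclic group of order `det B` when some cofactor is prime to each prime
divisor of `det B` -/
theorem detKernel [Fintype E] {B : Matrix (Fin D.rank) (Fin D.rank) ℤ} {N : ℕ} (hN : 0 < N)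
    (hdet : B.det = (N : ℤ)) (hNQ : N ∣ Nat.card Eˣ)
    (hcof : ∀ l : ℕ, l.Prime → l ∣ N → ∃ i j, ¬ (l : ℤ) ∣ B.adjugate i j) (K : Subgroup (Fin D.rank → Eˣ))
    (hKB : ∀ χ, χ ∈ K ↔ ∀ v, chi χ (B *ᵥ v) = 1) : IsCyclic ↥K ∧ Nat.card ↥K = N := by
  classical
  have hexp : ∀ χ ∈ K, χ ^ N = 1 := fun χ hχ => pow_det_eq_one hdet ((hKB χ).1 hχ)
  have hcyc : IsCyclic ↥K := by
    refine isCyclic_of_prime_roots fun l hl => ?_
    haveI := Fact.mk hl
    by_cases hlΦ : l ∣ N
    swap
    · rw [show (powMonoidHom l : ↥K →* ↥K).ker = ⊥ from (Subgroup.eq_bot_iff_forall _).2 fun a ha =>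
        eq_of_pow_coprime (m := N) ha (Subtype.ext (hexp a.1 a.2)) (hl.coprime_iff_not_dvd.2 hlΦ),
        Subgroup.card_bot]
      exact hl.one_le
    obtain ⟨i, j, hij⟩ := hcof l hl hlΦ
    let f : ↥(powMonoidHom l : ↥K →* ↥K).ker → ↥(powMonoidHom l : Eˣ →* Eˣ).ker := fun a =>
      ⟨a.1.1 j, congrFun (congrArg Subtype.val (show a.1 ^ l = 1 from a.2)) j⟩
    have hf : Function.Injective f := by
      intro a b e
      let χ : Fin D.rank → Eˣ := (a.1 / b.1 : ↥K).1
      have hχK : χ ∈ K := (a.1 / b.1 : ↥K).2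
      have hχj : χ j = 1 := div_eq_one.2 (congrArg Subtype.val e)
      have hχl : χ ^ l = 1 := by
        show ((a.1 / b.1 : ↥K) : Fin D.rank → Eˣ) ^ l = 1
        rw [← SubmonoidClass.coe_pow, div_pow, show a.1 ^ l = 1 from a.2, show b.1 ^ l = 1 from b.2, div_one,
          OneMemClass.coe_one]
      suffices hχ : χ = 1 from Subtype.ext (div_eq_one.1 (Subtype.ext hχ))
      obtain ⟨ζ, hζ⟩ := exists_prime_orderOf_dvd_card' l (hlΦ.trans hNQ)
      have hpow : ∀ u : Eˣ, u ^ l = 1 → ∃ n : ℤ, ζ ^ n = u := by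
        intro u hu
        have h1 : u ∈ (powMonoidHom l : Eˣ →* Eˣ).ker := hu
        have h2 : Subgroup.zpowers ζ = (powMonoidHom l : Eˣ →* Eˣ).ker := by
          refine Subgroup.eq_of_le_of_card_ge (Subgroup.zpowers_le.2 ?_) ?_
          · show ζ ^ l = 1
            rw [← hζ, pow_orderOf_eq_one]
          · rw [Nat.card_zpowers, hζ, IsCyclic.card_powMonoidHom_ker, Nat.gcd_comm,
              Nat.gcd_eq_left (hlΦ.trans hNQ)]
        exact Subgroup.mem_zpowers_iff.1 (h2 ▸ h1)
      choose w hw using fun k => hpow (χ k) (congrFun hχl k)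
      have hχw : χ = fun k => ζ ^ w k := funext fun k => (hw k).symm
      let w' : Fin D.rank → ZMod l := fun k => (w k : ZMod l)
      have hw0 : w' ᵥ* (Int.castRingHom (ZMod l)).mapMatrix B = 0 := by
        funext k
        have h1 := (hKB χ).1 hχK (Pi.single k 1)
        rw [hχw, chi_zpow_vec, ← orderOf_dvd_iff_zpow_eq_one, hζ, Matrix.mulVec_single_one] at h1
        have h2 := (ZMod.intCast_zmod_eq_zero_iff_dvd _ l).2 h1
        simp only [dotProduct, Int.cast_sum, Int.cast_mul] at h2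
        exact h2
      have hwj : w' j = 0 := by
        rw [show w' j = (w j : ZMod l) from rfl, ZMod.intCast_zmod_eq_zero_iff_dvd, ← hζ,
          orderOf_dvd_iff_zpow_eq_one, hw, hχj]
      have h3 := eq_zero_of_vecMul (i := i) (j := j) (by
        rw [← RingHom.map_adjugate]
        exact fun h => hij ((ZMod.intCast_zmod_eq_zero_iff_dvd _ l).1 h)) hw0 hwj
      funext k
      rw [← hw k, Pi.one_apply, ← orderOf_dvd_iff_zpow_eq_one, hζ]
      exact (ZMod.intCast_zmod_eq_zero_iff_dvd _ l).1 (congrFun h3 k)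
    exact (Nat.card_le_card_of_injective f hf).trans (by
      rw [IsCyclic.card_powMonoidHom_ker]; exact Nat.gcd_le_right _ hl.pos)
  refine ⟨hcyc, ?_⟩
  obtain ⟨g, hg⟩ := hcyc.exists_generator
  have hdvd : Nat.card ↥K ∣ N := by
    rw [← orderOf_eq_card_of_forall_mem_zpowers hg]
    exact orderOf_dvd_of_pow_eq_one (Subtype.ext (hexp g.1 g.2))
  by_contra hne
  obtain ⟨c, hc'⟩ := hdvd
  have hc1 : c ≠ 1 := fun h => hne (by rw [hc', h, mul_one])
  obtain ⟨l, hl, hlc⟩ := Nat.exists_prime_and_dvd hc1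
  have hlΦ : l ∣ N := hc' ▸ dvd_mul_of_dvd_right hlc _
  obtain ⟨i, j, hij⟩ := hcof l hl hlΦ
  obtain ⟨γ, hγ⟩ := IsCyclic.exists_generator (α := Eˣ)
  obtain ⟨b, hb⟩ := hNQ
  set z := γ ^ b
  have hz : orderOf z = N := by
    have hb0 : 0 < b := Nat.pos_of_ne_zero fun h => (Nat.card_pos (α := Eˣ)).ne' (by rw [hb, h, mul_zero])
    rw [orderOf_pow, orderOf_eq_card_of_forall_mem_zpowers hγ, hb, Nat.gcd_eq_right (dvd_mul_left b N),
      Nat.mul_div_cancel _ hb0]
  let χ : Fin D.rank → Eˣ := fun k => z ^ B.adjugate i k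
  have hχK : χ ∈ K := (hKB χ).2 fun v => by
    show chi (fun k => z ^ B.adjugate i k) (B *ᵥ v) = 1
    rw [chi_zpow_vec, ← orderOf_dvd_iff_zpow_eq_one, hz]
    have h1 : (B.adjugate i) ⬝ᵥ (B *ᵥ v) = (B.adjugate *ᵥ (B *ᵥ v)) i := rfl
    rw [h1, Matrix.mulVec_mulVec, Matrix.adjugate_mul, Matrix.smul_mulVec, Matrix.one_mulVec, hdet]
    exact ⟨v i, rfl⟩
  obtain ⟨c', rfl⟩ := hlc
  have h1 : (⟨χ, hχK⟩ : ↥K) ^ (Nat.card ↥K * c') = 1 := by rw [pow_mul, pow_card_eq_one', one_pow]
  have h2 := congrFun (congrArg Subtype.val h1) j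
  simp only [SubmonoidClass.coe_pow, OneMemClass.coe_one, Pi.pow_apply, Pi.one_apply, χ] at h2
  rw [← zpow_natCast, ← zpow_mul, ← orderOf_dvd_iff_zpow_eq_one, hz,
    show (N : ℤ) = (l : ℤ) * ((Nat.card ↥K * c' : ℕ) : ℤ) by rw [hc']; push_cast; ring] at h2
  refine hij (Int.dvd_of_mul_dvd_mul_right ?_ h2)
  intro h0
  have h0' : Nat.card ↥K * c' = 0 := by exact_mod_cast h0
  rcases mul_eq_zero.1 h0' with h | h
  · exact Nat.card_pos.ne' h
  · rw [h, mul_zero, mul_zero] at hc'; omega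

end

end CfsgLib.ChevCent
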