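import Cfsg.Agent.Lib.ChevCent.EllipticTorus
import Cfsg.Agent.Lib.Chev.OrderCases
import Cfsg.Agent.Lib.Fold.E6

/-!
# A regular element of E6 from the elliptic torus of F4

An element of F4(q) of prime order `r` dividing `Φ₁₂(q)` is regular; the fixed points of the diagram symmetry carry
it into E6(q), where it stays regular.
-/

set_option autoImplicit false
set_option linter.unusedSectionVars false

namespace CfsgLib.ChevCent

open Cfsg.Lie CfsgLib.Chev CfsgLib.ChevField Polynomial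
open scoped Matrix

section
variable {D : ChevalleyDatum} {T : Tabs} {F E : Type*} [Field F] [Field E]
variable (hc : Checked D T) (hcomm : CommOne D T)
include hc hcomm

/-- a torus element of prime order raised to the power `q` by the Galois action is regular, `φ(d)` being the rank -/
theorem regular_of_twisted [Fintype E] {d q r : ℕ} [Fact r.Prime] (hd : 0 < d) (hdeg : Nat.totient d = D.rank)
    (hr2 : r ≠ 2) (hco : Nat.Coprime q r) (hord : orderOf (q : ZMod r) = d)
    (hW : ¬ r ∣ Nat.card ↥(weylGrp hc)) {x : Fin D.rank → Eˣ} (hxd : torus D T E x ∈ D.diagonalSubgroup E)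
    (hxr : x ^ r = 1) (hx1 : x ≠ 1) {c : GL D.Idx E} (hcG : c ∈ D.group E)
    (hcx : c * torus D T E x * c⁻¹ = torus D T E (x ^ q)) :
    ∀ s, s < D.nroots → chi x (rv D T s) ≠ 1 := by
  classical
  have hr := (Fact.out : r.Prime)
  obtain ⟨L, hLA, -⟩ := twist_weyl hc hcomm (q := q) (m := r) hco {x}
    (by rintro _ rfl; exact hxd) (by rintro _ rfl; exact hxr) hcG (by rintro _ rfl; exact hcx)
  set π₀ := permOf hc L.reverse
  have hπ₀ : π₀ ∈ weylGrp hc := ⟨_, rfl⟩
  have hact : permAct hc π₀ x = x ^ q := by rw [permAct_permOf, List.reverse_reverse, hLA x rfl]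
  set A := permMat hc π₀
  have hAx : ∀ v, chi x (A *ᵥ v) = chi x v ^ q := fun v => by rw [chi_permMat, hact, chi_pow']
  have hev : ∀ p : ℤ[X], aeval A p = 0 → ((p.eval (q : ℤ) : ℤ) : ZMod r) = 0 := by
    intro p hp
    have hgen : ∀ (p : ℤ[X]) v, chi x (aeval A p *ᵥ v) = chi x v ^ (p.eval (q : ℤ)) := by
      intro p
      induction p using Polynomial.induction_on' with
      | add a b ha hb => intro v; rw [map_add, Matrix.add_mulVec, chi_add, ha, hb, eval_add, zpow_add]
      | monomial i a =>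
        have hi : ∀ i v, chi x (A ^ i *ᵥ v) = chi x v ^ q ^ i := by
          intro i
          induction i with
          | zero => intro v; simp
          | succ i ih => intro v; rw [pow_succ, ← Matrix.mulVec_mulVec, ih, hAx, ← pow_mul, ← pow_succ']
        intro v
        rw [aeval_monomial, Algebra.algebraMap_eq_smul_one, smul_mul_assoc, one_mul, Matrix.smul_mulVec, chi_smul,
          hi, eval_monomial, ← zpow_natCast, ← zpow_mul]
        congr 1
        push_cast; ring
    obtain ⟨j, hj⟩ : ∃ j, x j ≠ 1 := by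
      by_contra hh; push Not at hh; exact hx1 (funext hh)
    have h1 := hgen p (Pi.single j 1)
    rw [hp, Matrix.zero_mulVec, chi_zero, chi_single, zpow_one] at h1
    rw [ZMod.intCast_zmod_eq_zero_iff_dvd]
    have h2 : orderOf (x j) = r := orderOf_eq_prime (congrFun hxr j) hj
    rw [← h2]
    exact orderOf_dvd_iff_zpow_eq_one.2 h1.symm
  have hcp : A.charpoly = cyclotomic d ℤ := by
    refine charpoly_eq_cyclotomic (N := orderOf π₀) (r := r) (q := (q : ℤ)) ?_ ?_ ?_ ?_ hev
    · rw [← permMat_pow hc hπ₀, pow_orderOf_eq_one, permMat_one]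
    · intro h
      refine hW (h.trans ?_)
      rw [← Nat.card_zpowers]
      exact Subgroup.card_dvd_of_le (Subgroup.zpowers_le.2 hπ₀)
    · rw [Int.cast_natCast, hord]
    · rw [hdeg, Fintype.card_fin]
  exact fun s hs => regular_of_eigen hc hπ₀ hd hcp hr2 hW hxr hx1 hact hs

end

namespace E6

open CfsgLib.Twisted CfsgLib.Fold

local notation "OK" => Fold.E6.data_ok

theorem fold_cm : ∀ (k : Fin chevF4.rank) (j : Fin chevE6.rank),
    ∑ i : Fin chevE6.rank, (if Fold.E6.data.fNodeN i.val = k.val then cm chevE6 i j else 0) =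
      cm chevF4 k ⟨Fold.E6.data.fNodeN j.val % 4, Nat.mod_lt _ (by decide)⟩ := by decide +kernel

theorem fold_node_one : ∃ k : Fin chevF4.rank,
    Fold.E6.data.fNodeN 1 = k.val ∧ rv chevF4 F4.tabs (chevF4.simple k.val) = Pi.single k 1 :=
  ⟨⟨Fold.E6.data.fNodeN 1, by decide +kernel⟩, rfl, rv_simple F4.checked _⟩

/-- a regular element of order `r` of E6 fixed by the diagram symmetry -/
theorem exists_fold_element {F E : Type*} [Field F] [Fintype F] [Field E] [Fintype E] (ι : F →+* E) (σ : E →+* E)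
    (hσι : ∀ a, σ (ι a) = ι a) {q : ℕ} (hσ : ∀ a, σ a = a ^ q) {r : ℕ} [Fact r.Prime] (hr2 : r ≠ 2)
    (hrq : Nat.Coprime q r) (hord : orderOf (q : ZMod r) = 12) (hrW : ¬ r ∣ 1152)
    (hrQ : ¬ r ∣ Fintype.card E) (hrE : r ∣ Fintype.card E - 1) (hrG : r ∣ Nat.card ↥(chevF4.group F)) :
    ∃ y ∈ chevE6.group F, ∃ g ∈ chevE6.group E, ∃ x : Fin chevE6.rank → Eˣ,
      x ^ r = 1 ∧ torus chevE6 E6.tabs E x ∈ chevE6.diagonalSubgroup E ∧
      glMap chevE6 ι y = g⁻¹ * torus chevE6 E6.tabs E x * g ∧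
      (∀ s, s < chevE6.nroots → chi x (rv chevE6 E6.tabs s) ≠ 1) ∧
      ∀ s, s < chevE6.nroots →
        chi x (rv chevE6 E6.tabs (Twisted.E6.sym.img s)) = chi x (rv chevE6 E6.tabs s) := by
  classical
  have hr := (Fact.out : r.Prime)
  have hc₀ : Checked chevF4 F4.tabs := F4.checked
  have hcomm₀ : CommOne chevF4 F4.tabs := commOne_of_commCheck F4.checked F4.comm_ok F4.short_ok
  have P := Fold.E6.sym_data
  set M : Fin chevF4.rank → Fin chevF4.rank → ℤ :=
    (![![2, 3, 4, 2], ![3, 6, 8, 4], ![2, 4, 6, 3], ![1, 2, 3, 2]] : Fin 4 → Fin 4 → ℤ)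
  have hM : CartanInv chevF4 M := by unfold CfsgLib.ChevField.CartanInv; decide +kernel
  have hN : ∀ i j, ∑ k, M i k * cm chevF4 k j = if i = j then ((1 : ℕ) : ℤ) else 0 := fun i j => by
    rw [hM i j, Nat.cast_one]
  set J : List (Fin chevF4.rank) :=
    [(⟨0, by decide⟩ : Fin chevF4.rank), (⟨1, by decide⟩ : Fin chevF4.rank), (⟨2, by decide⟩ : Fin chevF4.rank),
      (⟨3, by decide⟩ : Fin chevF4.rank)] with hJ_def
  have hJ : ∀ i, i ∈ J := by rw [hJ_def]; decide
  have hW : ¬ r ∣ wsum hc₀ J 1 := by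
    rw [hJ_def, wsum_F4 hc₀, show polyEval [1, 1, 1, 1, 2, 2, 2, 2, 2, 2, 2, 2, 1, 1, 1, 1] 1 *
      polyEval [1, 1, 1, 2, 1, 1, 1] 1 * polyEval [1, 1, 1] 1 * polyEval [1, 1] 1 = 1152 by decide +kernel]
    exact hrW
  have hW' : ¬ r ∣ Nat.card ↥(weylGrp hc₀) := by rw [card_weylGrp hc₀ hJ]; exact hW
  have hQ0 : Fintype.card E - 1 ≠ 0 := by have := Fintype.one_lt_card (α := E); omega
  have hk := hr.factorization_pos_of_dvd hQ0 hrE
  have he := Nat.not_dvd_ordCompl hr hQ0
  have hke := (Nat.mul_div_cancel' (Nat.ordProj_dvd (Fintype.card E - 1) r)).symm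
  obtain ⟨y₀, hy₀⟩ := exists_prime_orderOf_dvd_card' r hrG
  have hy₀r : y₀ ^ r = 1 := by rw [← hy₀, pow_orderOf_eq_one]
  obtain ⟨g, hg, x, hxr, hxd, hgx⟩ := exists_torus_conj hc₀ hcomm₀ ι hke he hk hrQ hN hr.not_dvd_one hJ hW y₀.2
    (by rw [← SubmonoidClass.coe_pow, hy₀r, OneMemClass.coe_one])
  have hx1 : x ≠ 1 := by
    intro h
    rw [h, map_one, mul_one, inv_mul_cancel] at hgx
    have h1 : (y₀ : GL chevF4.Idx F) = 1 := glMap_injective ι (hgx.trans (map_one _).symm)
    rw [show y₀ = 1 from Subtype.ext h1, orderOf_one] at hy₀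
    exact hr.ne_one hy₀.symm
  have hcx : glMap chevF4 σ g * g⁻¹ * torus chevF4 F4.tabs E x * (glMap chevF4 σ g * g⁻¹)⁻¹ =
      torus chevF4 F4.tabs E (x ^ q) := by
    have h1 : glMap chevF4 σ (glMap chevF4 ι (y₀ : GL chevF4.Idx F)) = glMap chevF4 ι (y₀ : GL chevF4.Idx F) := by
      ext i j; exact hσι _
    have h2 : glMap chevF4 σ (torus chevF4 F4.tabs E x) = torus chevF4 F4.tabs E (x ^ q) := by
      rw [glMap_torus]
      congr 1
      funext j
      exact Units.ext (hσ _)
    rw [hgx, map_mul, map_mul, map_inv, h2] at h1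
    calc glMap chevF4 σ g * g⁻¹ * torus chevF4 F4.tabs E x * (glMap chevF4 σ g * g⁻¹)⁻¹
        = glMap chevF4 σ g * (g⁻¹ * torus chevF4 F4.tabs E x * g) * (glMap chevF4 σ g)⁻¹ := by group
      _ = _ := by rw [← h1]; group
  have hreg₀ := regular_of_twisted hc₀ hcomm₀ (d := 12) (by norm_num) (by decide +kernel) hr2 hrq hord hW' hxd hxr
    hx1 (mul_mem (glMap_group hc₀ σ hg) (inv_mem hg)) hcx
  -- into E6
  obtain ⟨Y, hY⟩ := Fold.restr_surjective P hc₀ OK y₀
  obtain ⟨G, hG⟩ := Fold.restr_surjective P hc₀ OK (F := E) ⟨g, hg⟩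
  have eY : Twines Fold.E6.data (Y : GL chevE6.Idx F) (y₀ : GL chevF4.Idx F) := hY ▸ twines_restr P hc₀ OK Y
  have eG : Twines Fold.E6.data (G : GL chevE6.Idx E) g := by
    have := twines_restr P hc₀ OK G
    rwa [hG] at this
  set X : Fin chevE6.rank → Eˣ := fun j => x (fNode OK j) with hXdef
  have hchi : ∀ s, s < chevE6.nroots →
      chi X (rv chevE6 E6.tabs s) = chi x (rv chevF4 F4.tabs (Fold.E6.data.fRoot s)) :=
    fun s hs => chi_fold_root OK P.hc hc₀ x hs
  obtain ⟨c, hcx'⟩ := hPar_surjective hM (F := E) x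
  have hXpar : hPar chevE6 E (fun i => c (fNode OK i)) = X := by
    funext j
    rw [hXdef]
    show ∏ i, c (fNode OK i) ^ cm chevE6 i j = x (fNode OK j)
    rw [← hcx']
    show _ = ∏ k, c k ^ cm chevF4 k (fNode OK j)
    rw [← Finset.prod_fiberwise Finset.univ (fNode OK) (fun i => c (fNode OK i) ^ cm chevE6 i j)]
    refine Finset.prod_congr rfl fun k _ => ?_
    rw [Finset.prod_congr rfl (g := fun i => c k ^ cm chevE6 i j) (fun i hi => by
      rw [(Finset.mem_filter.1 hi).2]), prod_zpow_sum]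
    congr 1
    rw [Finset.sum_filter, show fNode OK j = ⟨Fold.E6.data.fNodeN j.val % 4, Nat.mod_lt _ (by decide)⟩ from
      Fin.ext (Nat.mod_eq_of_lt (fNode OK j).2).symm, ← fold_cm k j]
    exact Finset.sum_congr rfl fun i _ => if_congr Fin.ext_iff rfl rfl
  have hXd : torus chevE6 E6.tabs E X ∈ chevE6.diagonalSubgroup E := (mem_diagonal P.hc).2 ⟨_, by rw [hXpar]⟩
  have hXT : torus chevE6 E6.tabs E X ∈ twistGrp P.sym (RingEquiv.refl E) := by
    rw [← Fold.group_inf_fixed P (exists_ker_two P.hc P.sym _ Fold.E6.tau_two Twisted.E6.ker_cube)]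
    refine ⟨diagonal_le_group P.hc hXd, mem_fixedSub.2 ?_⟩
    rw [← hXpar, twistSigma_torus P.hc P.sym]
    congr 2
  have hYι : glMap chevE6 ι (Y : GL chevE6.Idx F) ∈ twistGrp P.sym (RingEquiv.refl E) := by
    suffices hle : (twistGrp P.sym (RingEquiv.refl F)).map (glMap chevE6 ι) ≤ twistGrp P.sym (RingEquiv.refl E) from
      hle ⟨_, Y.2, rfl⟩
    rw [twistGrp, MonoidHom.map_closure, Subgroup.closure_le]
    rintro _ ⟨_, ⟨i, hi, s, hs, t, -, rfl⟩, rfl⟩
    have hsn : s < chevE6.nroots := by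
      rcases hs with rfl | rfl
      · exact simple_lt P.hc hi
      · exact neg_lt P.hc (simple_lt P.hc hi)
    have e : glMap chevE6 ι (orbX P.sym (RingEquiv.refl F) s t) = orbX P.sym (RingEquiv.refl E) s (ι t) := by
      rw [orbX_eq_prod P.hc P.sym _ hsn, orbX_eq_prod P.hc P.sym _ hsn, map_list_prod, List.map_map]
      refine congrArg List.prod (List.map_congr_left fun k _ => ?_)
      simp only [Function.comp_apply, refl_iter]
      rw [glMap_elX P.hc ι (TwistSym.imgIter_lt P.sym hsn k), map_mul, map_intCast]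
    rw [e]
    exact Subgroup.subset_closure ⟨i, hi, s, hs, ι t, isPar_refl _ _, rfl⟩
  have eYι : Twines Fold.E6.data (glMap chevE6 ι (Y : GL chevE6.Idx F)) (glMap chevF4 ι (y₀ : GL chevF4.Idx F)) := by
    have h1 := congrArg (fun m : Matrix chevE6.Idx chevF4.Idx F => m.map ι) eY
    have h2 : (embF Fold.E6.data F).map ι = embF Fold.E6.data E := by
      ext i j; simp [embF]
    simp only [Matrix.map_mul, h2] at h1
    exact h1
  have eX := (eG.inv.mul (twines_torus OK P.hc hc₀ (F := E) x)).mul eG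
  rw [← hgx] at eX
  have e1 := (Twines.mul eYι eX.inv)
  rw [mul_inv_cancel] at e1
  have hdiff := restr_ker P hc₀ OK hcomm₀ (mul_mem hYι (inv_mem
    (mul_mem (mul_mem (inv_mem G.2) hXT) G.2))) e1
  refine ⟨Y, twistGrp_le_group P Y.2, G, twistGrp_le_group P G.2, X, ?_, hXd, mul_inv_eq_one.1 hdiff, ?_, ?_⟩
  · funext j
    exact congrFun hxr (fNode OK j)
  · intro s hs
    rw [hchi s hs]
    exact hreg₀ _ (root_spec OK P.hc hc₀ hs).1
  · intro s hs
    rw [hchi _ (TwistSym.img_lt P.sym hs), hchi s hs, (root_spec OK P.hc hc₀ hs).2.2.1]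

end E6

end CfsgLib.ChevCent
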