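import Cfsg.Agent.Lib.ChevCent.WeylMatrix
import Cfsg.Agent.Lib.Fold.E6Data
import Mathlib.RingTheory.Polynomial.Cyclotomic.Basic

/-!
# Weyl elements of E6 of order twelve commuting with the diagram symmetry

On the two coordinates anti-symmetric under the symmetry such an element turns the six non-zero values by a
rotation of order three, so its characteristic polynomial is `Φ₁₂ Φ₃`.
-/

set_option autoImplicit false
set_option linter.unusedSectionVars false

namespace CfsgLib.ChevCent.E6

open Cfsg.Lie CfsgLib.Chev Polynomial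
open scoped Matrix

/-- the node with the given number -/
abbrev nd (i : ℕ) (h : i < chevE6.rank := by decide) : Fin chevE6.rank := ⟨i, h⟩

/-- the anti-symmetric coordinates -/
def antiP (v : Fin chevE6.rank → ℤ) : ℤ × ℤ := (v (nd 0) - v (nd 5), v (nd 2) - v (nd 4))

/-- the non-zero anti-symmetric values of roots -/
def vals : List (ℤ × ℤ) := [(1, 0), (0, 1), (1, 1), (-1, 0), (0, -1), (-1, -1)]

/-- the linear map with the given images of the two basis vectors -/
def lin (u w p : ℤ × ℤ) : ℤ × ℤ := (p.1 * u.1 + p.2 * w.1, p.1 * u.2 + p.2 * w.2)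

/-- the fibre of the anti-symmetric coordinates -/
noncomputable def fibre (p : ℤ × ℤ) : Finset (Fin chevE6.nroots) :=
  Finset.univ.filter fun s => antiP (rv chevE6 E6.tabs s.val) = p

theorem fibre_cases : ∀ s : Fin chevE6.nroots,
    antiP (rv chevE6 E6.tabs s.val) = (0, 0) ∨ antiP (rv chevE6 E6.tabs s.val) ∈ vals := by decide +kernel

theorem fibre_card : ∀ p ∈ vals, (fibre p).card = 8 := by decide +kernel

theorem fibre_zero_card : (fibre (0, 0)).card = 24 := by decide +kernel

/-- the diagram symmetry on nodes -/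
def tNode (i : Fin chevE6.rank) : Fin chevE6.rank :=
  if i = nd 0 then nd 5 else if i = nd 2 then nd 4 else if i = nd 4 then nd 2 else if i = nd 5 then nd 0 else i

theorem tNode_val : ∀ i : Fin chevE6.rank, Twisted.E6.sym.node i.val = (tNode i).val := by decide +kernel

theorem tNode_eqs : tNode (nd 0) = nd 5 ∧ tNode (nd 1) = nd 1 ∧ tNode (nd 2) = nd 4 ∧ tNode (nd 3) = nd 3 ∧
    tNode (nd 4) = nd 2 ∧ tNode (nd 5) = nd 0 := by decide +kernel

theorem rv_img : ∀ (s : Fin chevE6.nroots) (i : Fin chevE6.rank),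
    rv chevE6 E6.tabs (Twisted.E6.sym.img s.val) i =
      rv chevE6 E6.tabs s.val (tNode i) := by decide +kernel

theorem lin_cases : ∀ u ∈ vals, ∀ w ∈ vals, (∀ p ∈ vals, lin u w p ∈ vals) →
    (∀ p ∈ vals, lin u w p ≠ p ∧ lin u w (lin u w p) ≠ p) →
    ((2 * u.1 + w.1 - 2) % 3 = 0 ∧ (2 * u.2 + w.2 - 1) % 3 = 0) →
    u.1 + w.2 = -1 ∧ u.1 * w.2 - u.2 * w.1 = 1 := by decide +kernel

/-- three times the fundamental weight of the first node -/
def omegaVec : Fin chevE6.rank → ℤ := fun i => [4, 3, 5, 6, 4, 2].getD i.val 0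

theorem omegaVec_cm : ∀ i : Fin chevE6.rank, (3 : ℤ) ∣ ∑ j, cm chevE6 i j * omegaVec j := by decide +kernel

theorem refls_omegaVec (L : List (Fin chevE6.rank)) (i : Fin chevE6.rank) :
    (3 : ℤ) ∣ refls chevE6 L omegaVec i - omegaVec i := by
  induction L generalizing i with
  | nil => simp [refls]
  | cons j L ih =>
    show (3 : ℤ) ∣ Chev.refl chevE6 j (refls chevE6 L omegaVec) i - omegaVec i
    simp only [Chev.refl, Pi.sub_apply]
    rw [sub_right_comm]
    refine dvd_sub (ih i) ?_
    rcases eq_or_ne i j with rfl | hne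
    · rw [Pi.single_eq_same]
      have e : ∑ k, cm chevE6 i k * refls chevE6 L omegaVec k =
          ∑ k, cm chevE6 i k * omegaVec k + ∑ k, cm chevE6 i k * (refls chevE6 L omegaVec k - omegaVec k) := by
        rw [← Finset.sum_add_distrib]
        exact Finset.sum_congr rfl fun k _ => by ring
      rw [e]
      exact dvd_add (omegaVec_cm i) (Finset.dvd_sum fun k _ => dvd_mul_of_dvd_right (ih k) _)
    · rw [Pi.single_eq_of_ne hne]; exact dvd_zero _

/-- a free action of a cyclic group of order twelve on an invariant set -/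
theorem twelve_dvd {n : ℕ} {π : Equiv.Perm (Fin n)} (h12 : π ^ 12 = 1)
    (hfree : ∀ s, ∀ j < 12, 0 < j → (π ^ j) s ≠ s) (S : Finset (Fin n)) (hS : ∀ s ∈ S, π s ∈ S) : 12 ∣ S.card := by
  classical
  have hmod : ∀ j, π ^ j = π ^ (j % 12) := fun j => pow_eq_pow_mod j h12
  induction S using Finset.strongInduction with
  | _ S ih =>
    rcases S.eq_empty_or_nonempty with rfl | ⟨a, ha⟩
    · simp
    set O := (Finset.range 12).image fun j => (π ^ j) a
    have hO : O.card = 12 := by
      rw [Finset.card_image_of_injOn, Finset.card_range]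
      intro i hi j hj e
      simp only [Finset.coe_range, Set.mem_Iio] at hi hj
      have key : ∀ i j : ℕ, i ≤ j → j < 12 → (π ^ i) a = (π ^ j) a → i = j := by
        intro i j hij hj e
        by_contra hne
        refine hfree ((π ^ i) a) (j - i) (by omega) (by omega) ?_
        rw [← Equiv.Perm.mul_apply, ← pow_add, Nat.sub_add_cancel hij]
        exact e.symm
      rcases le_total i j with h | h
      · exact key i j h hj e
      · exact (key j i h hi e.symm).symm
    have hOS : O ⊆ S := by
      intro x hx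
      obtain ⟨j, -, rfl⟩ := Finset.mem_image.1 hx
      clear hx
      induction j with
      | zero => simpa using ha
      | succ j ih' => rw [pow_succ', Equiv.Perm.mul_apply]; exact hS _ ih'
    have hlt : S \ O ⊂ S := by
      refine Finset.sdiff_ssubset hOS ?_
      exact Finset.card_pos.1 (by rw [hO]; norm_num)
    have hstep := ih (S \ O) hlt fun s hs => by
      obtain ⟨hsS, hsO⟩ := Finset.mem_sdiff.1 hs
      refine Finset.mem_sdiff.2 ⟨hS s hsS, fun h => hsO ?_⟩
      obtain ⟨j, -, e⟩ := Finset.mem_image.1 h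
      refine Finset.mem_image.2 ⟨(11 + j) % 12, Finset.mem_range.2 (Nat.mod_lt _ (by norm_num)), ?_⟩
      rw [← hmod, pow_add, Equiv.Perm.mul_apply, e, ← Equiv.Perm.mul_apply, ← pow_succ, h12,
        Equiv.Perm.one_apply]
    rw [← Finset.card_sdiff_add_card_eq_card hOS, hO]
    exact dvd_add hstep dvd_rfl

/-- the anti-symmetric coordinates as a matrix -/
def pMat : Matrix (Fin 2) (Fin chevE6.rank) ℤ :=
  Matrix.of fun a j => ([[1, 0, 0, 0, 0, -1], [0, 0, 1, 0, -1, 0]].getD a.val []).getD j.val 0

/-- sections of the anti-symmetric coordinates -/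
def gMat : Matrix (Fin chevE6.rank) (Fin 2) ℤ :=
  Matrix.of fun j a => ([[1, 0, 0, 0, 0, 0], [0, 0, 1, 0, 0, 0]].getD a.val []).getD j.val 0

/-- the symmetric vectors -/
def emMat : Matrix (Fin chevE6.rank) (Fin 4) ℤ :=
  Matrix.of fun j a => ([[0, 1, 0, 0, 0, 0], [0, 0, 0, 1, 0, 0], [0, 0, 1, 0, 1, 0], [1, 0, 0, 0, 0, 1]].getD
    a.val []).getD j.val 0

/-- coordinates of the symmetric part -/
def qMat : Matrix (Fin 4) (Fin chevE6.rank) ℤ :=
  Matrix.of fun a j => ([[0, 1, 0, 0, 0, 0], [0, 0, 0, 1, 0, 0], [0, 0, 0, 0, 1, 0], [0, 0, 0, 0, 0, 1]].getD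
    a.val []).getD j.val 0

theorem qMat_emMat : qMat * emMat = 1 := by decide +kernel

theorem sections : gMat * pMat + emMat * qMat = 1 := by decide +kernel

theorem pMat_apply (v : Fin chevE6.rank → ℤ) : (pMat *ᵥ v) 0 = (antiP v).1 ∧ (pMat *ᵥ v) 1 = (antiP v).2 := by
  have e : ∀ f : Fin chevE6.rank → ℤ, ∑ i, f i = f (nd 0) + f (nd 1) + f (nd 2) + f (nd 3) + f (nd 4) + f (nd 5) :=
    fun f => Fin.sum_univ_six f
  constructor <;>
    simp only [Matrix.mulVec, dotProduct, e, pMat, Matrix.of_apply, antiP, nd] <;>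
    simp <;> ring

local notation "hc₆" => CfsgLib.Chev.E6.checked

theorem permMat_permOf_mulVec (L : List (Fin chevE6.rank)) (v : Fin chevE6.rank → ℤ) :
    permMat hc₆ (permOf hc₆ L) *ᵥ v = refls chevE6 L v := by
  let φ : (Fin chevE6.rank → ℤ) →+ (Fin chevE6.rank → ℤ) := AddMonoidHom.mk' (refls chevE6 L) (refls_add L)
  have e : v = ∑ i, v i • (Pi.single i 1 : Fin chevE6.rank → ℤ) := by
    funext j
    simp [Finset.sum_apply, Pi.single_apply]
  show _ = φ v
  conv_rhs => rw [e, map_sum]
  funext i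
  simp only [Matrix.mulVec, dotProduct, permMat, Matrix.of_apply, Finset.sum_apply, map_zsmul, Pi.smul_apply,
    smul_eq_mul]
  refine Finset.sum_congr rfl fun j _ => ?_
  rw [mul_comm]
  congr 1
  show rv chevE6 E6.tabs (sigs chevE6 E6.tabs L (chevE6.simple j.val)) i = refls chevE6 L (Pi.single j 1) i
  rw [rv_sigs hc₆ L (simple_lt hc₆ j.2), rv_simple hc₆]

theorem symm_block (A : Matrix (Fin chevE6.rank) (Fin chevE6.rank) ℤ)
    (hA : ∀ i j, A i (tNode j) = A (tNode i) j) : pMat * A * emMat = 0 := by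
  have hsum : ∀ f : Fin chevE6.rank → ℤ,
      ∑ i, f i = f (nd 0) + f (nd 1) + f (nd 2) + f (nd 3) + f (nd 4) + f (nd 5) := fun f => Fin.sum_univ_six f
  obtain ⟨t0, t1, t2, t3, t4, t5⟩ := tNode_eqs
  have h01 := hA (nd 0) (nd 1)
  have h03 := hA (nd 0) (nd 3)
  have h21 := hA (nd 2) (nd 1)
  have h23 := hA (nd 2) (nd 3)
  have h02 := hA (nd 0) (nd 2)
  have h04 := hA (nd 0) (nd 4)
  have h00 := hA (nd 0) (nd 0)
  have h05 := hA (nd 0) (nd 5)
  have h22 := hA (nd 2) (nd 2)
  have h24 := hA (nd 2) (nd 4)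
  have h20 := hA (nd 2) (nd 0)
  have h25 := hA (nd 2) (nd 5)
  simp only [t0, t1, t2, t3, t4, t5] at h01 h03 h21 h23 h02 h04 h00 h05 h22 h24 h20 h25
  ext a b
  simp only [Matrix.mul_apply, hsum, pMat, emMat, Matrix.of_apply, Matrix.zero_apply]
  fin_cases a <;> fin_cases b <;> simp [nd] at * <;> linarith

/-- the characteristic polynomial in an adapted basis -/
theorem block_charpoly_aux {n a b : ℕ} (hn : a + b = n) (A : Matrix (Fin n) (Fin n) ℤ) (P : Matrix (Fin a) (Fin n) ℤ)
    (Q : Matrix (Fin b) (Fin n) ℤ) (G : Matrix (Fin n) (Fin a) ℤ) (Em : Matrix (Fin n) (Fin b) ℤ)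
    (hsec : G * P + Em * Q = 1) (hPE : P * A * Em = 0) :
    A.charpoly = (P * A * G).charpoly * (Q * A * Em).charpoly := by
  have hGP : Matrix.fromCols G Em * Matrix.fromRows P Q = 1 := by
    rw [Matrix.fromCols_mul_fromRows, hsec]
  have h1 := Matrix.charpoly_mul_comm' (Matrix.fromRows P Q) (A * Matrix.fromCols G Em)
  rw [Matrix.mul_assoc A, hGP, Matrix.mul_one, ← Matrix.mul_assoc, Matrix.fromRows_mul,
    Matrix.fromRows_mul_fromCols, hPE, Matrix.charpoly_fromBlocks_zero₁₂,
    Fintype.card_sum, Fintype.card_fin, Fintype.card_fin, Fintype.card_fin, hn] at h1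
  exact (mul_left_cancel₀ (pow_ne_zero _ X_ne_zero) h1).symm

theorem block_charpoly (A : Matrix (Fin chevE6.rank) (Fin chevE6.rank) ℤ) (hPE : pMat * A * emMat = 0) :
    A.charpoly = (pMat * A * gMat).charpoly * (qMat * A * emMat).charpoly :=
  block_charpoly_aux (by decide +kernel) A pMat qMat gMat emMat sections hPE

theorem mul_pMat_gMat (A : Matrix (Fin chevE6.rank) (Fin chevE6.rank) ℤ) (hPE : pMat * A * emMat = 0) :
    pMat * A = pMat * A * gMat * pMat ∧ A * emMat = emMat * (qMat * A * emMat) := by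
  constructor
  · calc pMat * A = pMat * A * (gMat * pMat + emMat * qMat) := by rw [sections, Matrix.mul_one]
      _ = pMat * A * gMat * pMat + pMat * A * emMat * qMat := by rw [Matrix.mul_add]; simp only [Matrix.mul_assoc]
      _ = _ := by rw [hPE, Matrix.zero_mul, add_zero]
  · calc A * emMat = (gMat * pMat + emMat * qMat) * (A * emMat) := by rw [sections, Matrix.one_mul]
      _ = gMat * (pMat * A * emMat) + emMat * (qMat * A * emMat) := by
        rw [Matrix.add_mul]; simp only [Matrix.mul_assoc]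
      _ = _ := by rw [hPE, Matrix.mul_zero, zero_add]

/-- the characteristic polynomial of a Weyl element of order twelve commuting with the symmetry -/
theorem charpoly_eq {π : Equiv.Perm (Fin chevE6.nroots)} (hπ : π ∈ weylGrp hc₆)
    (hsym : ∀ (s : Fin chevE6.nroots) (h : Twisted.E6.sym.img s.val < chevE6.nroots),
      (π ⟨Twisted.E6.sym.img s.val, h⟩).val = Twisted.E6.sym.img (π s).val)
    (h12 : π ^ 12 = 1) (hfree : ∀ s, ∀ j < 12, 0 < j → (π ^ j) s ≠ s)
    {F : Type*} [Field F] {r q : ℕ} [Fact r.Prime] (hr : ¬ r ∣ 12) (hord : orderOf (q : ZMod r) = 12)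
    {x : Fin chevE6.rank → Fˣ} (hxr : x ^ r = 1) (hx1 : x (nd 1) ≠ 1)
    (hx : ∀ v, chi x (permMat hc₆ π *ᵥ v) = chi x v ^ q) :
    (permMat hc₆ π).charpoly = cyclotomic 12 ℤ * cyclotomic 3 ℤ := by
  classical
  set A := permMat hc₆ π with hA
  have hT := Twisted.E6.sym_test
  have hnode : ∀ i j : Fin chevE6.rank, A i (tNode j) = A (tNode i) j := by
    intro i j
    have hj := simple_lt hc₆ j.2
    have e : chevE6.simple (tNode j).val = Twisted.E6.sym.img (chevE6.simple j.val) := by
      rw [(Twisted.TwistSym.simple_spec hT j.2).1, tNode_val]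
    show rv chevE6 E6.tabs (π ⟨chevE6.simple (tNode j).val, _⟩).val i =
      rv chevE6 E6.tabs (π ⟨chevE6.simple j.val, hj⟩).val _
    rw [← rv_img (π ⟨chevE6.simple j.val, hj⟩) i, ← hsym ⟨chevE6.simple j.val, hj⟩
      (Twisted.TwistSym.img_lt hT hj)]
    congr 3
    exact Fin.ext e
  have hPE : pMat * A * emMat = 0 := symm_block A hnode
  set M := pMat * A * gMat with hM
  set B := qMat * A * emMat with hB
  obtain ⟨hPA, hAE⟩ := mul_pMat_gMat A hPE
  -- the action on the anti-symmetric values
  set u : ℤ × ℤ := (M 0 0, M 1 0)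
  set w : ℤ × ℤ := (M 0 1, M 1 1)
  have hlin : ∀ v, antiP (A *ᵥ v) = lin u w (antiP v) := by
    intro v
    have h1 : pMat *ᵥ (A *ᵥ v) = M *ᵥ (pMat *ᵥ v) := by
      rw [Matrix.mulVec_mulVec, Matrix.mulVec_mulVec, hPA]
    have h2 : ∀ a, (M *ᵥ (pMat *ᵥ v)) a = M a 0 * (antiP v).1 + M a 1 * (antiP v).2 := fun a => by
      simp [Matrix.mulVec, dotProduct, ← (pMat_apply v).1, ← (pMat_apply v).2, Fin.sum_univ_two]
    refine Prod.ext ?_ ?_
    · rw [← (pMat_apply _).1, h1, h2]; simp only [lin, u, w]; ring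
    · rw [← (pMat_apply _).2, h1, h2]; simp only [lin, u, w]; ring
  have hfib : ∀ (p : ℤ × ℤ) (s : Fin chevE6.nroots), s ∈ fibre p → π s ∈ fibre (lin u w p) := by
    intro p s hs
    simp only [fibre, Finset.mem_filter, Finset.mem_univ, true_and] at hs ⊢
    rw [← permMat_mulVec hc₆ hπ, ← hA, hlin, hs]
  have hzero : lin u w (0, 0) = (0, 0) := by simp [lin]
  have hvals : ∀ p ∈ vals, lin u w p ∈ vals := by
    intro p hp
    have hne : lin u w p ≠ (0, 0) := by
      intro h0
      have hsub : (fibre p ∪ fibre (0, 0)).image π ⊆ fibre (0, 0) := by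
        intro x hx
        obtain ⟨s, hs, rfl⟩ := Finset.mem_image.1 hx
        rcases Finset.mem_union.1 hs with h | h
        · exact h0 ▸ hfib p s h
        · exact hzero ▸ hfib _ s h
      have hcard := Finset.card_le_card hsub
      rw [Finset.card_image_of_injective _ π.injective, Finset.card_union_of_disjoint, fibre_card p hp,
        fibre_zero_card] at hcard
      · omega
      · refine Finset.disjoint_left.2 fun s h1 h2 => ?_
        simp only [fibre, Finset.mem_filter, Finset.mem_univ, true_and] at h1 h2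
        rw [h1] at h2
        subst h2
        revert hp
        decide
    obtain ⟨s, hs⟩ := Finset.card_pos.1 (show 0 < (fibre p).card by rw [fibre_card p hp]; norm_num)
    have h := hfib p s hs
    simp only [fibre, Finset.mem_filter, Finset.mem_univ, true_and] at h
    rcases fibre_cases (π s) with h' | h'
    · exact absurd (h.symm.trans h') hne
    · exact h ▸ h'
  have hmove : ∀ p ∈ vals, lin u w p ≠ p ∧ lin u w (lin u w p) ≠ p := by
    intro p hp
    have h1 : lin u w p ≠ p := by
      intro e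
      have := twelve_dvd h12 hfree (fibre p) fun s hs => by
        have h := hfib p s hs
        rwa [e] at h
      rw [fibre_card p hp] at this
      norm_num at this
    refine ⟨h1, fun e => ?_⟩
    have := twelve_dvd h12 hfree (fibre p ∪ fibre (lin u w p)) fun s hs => by
      rcases Finset.mem_union.1 hs with h | h
      · exact Finset.mem_union_right _ (hfib p s h)
      · refine Finset.mem_union_left _ ?_
        have := hfib _ s h
        rwa [e] at this
    rw [Finset.card_union_of_disjoint, fibre_card p hp, fibre_card _ (hvals p hp)] at this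
    · norm_num at this
    · refine Finset.disjoint_left.2 fun s ha hb => h1 ?_
      simp only [fibre, Finset.mem_filter, Finset.mem_univ, true_and] at ha hb
      rw [← hb, ← ha]
  have hmod : (2 * u.1 + w.1 - 2) % 3 = 0 ∧ (2 * u.2 + w.2 - 1) % 3 = 0 := by
    obtain ⟨L, hL⟩ := id hπ
    have h := hlin omegaVec
    rw [hA, hL, permMat_permOf_mulVec, show antiP omegaVec = (2, 1) from by decide +kernel] at h
    have d := refls_omegaVec L
    have e1 := congrArg Prod.fst h
    have e2 := congrArg Prod.snd h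
    simp only [antiP, lin] at e1 e2
    have d0 := d (nd 0)
    have d5 := d (nd 5)
    have d2 := d (nd 2)
    have d4 := d (nd 4)
    rw [show omegaVec (nd 0) = 4 from rfl] at d0
    rw [show omegaVec (nd 5) = 2 from rfl] at d5
    rw [show omegaVec (nd 2) = 5 from rfl] at d2
    rw [show omegaVec (nd 4) = 4 from rfl] at d4
    omega
  have hu : u ∈ vals := by
    have := hvals (1, 0) (by simp [vals])
    simpa [lin] using this
  have hw : w ∈ vals := by
    have := hvals (0, 1) (by simp [vals])
    simpa [lin] using this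
  obtain ⟨htr, hdet⟩ := lin_cases u hu w hw hvals hmove hmod
  have hcM : M.charpoly = cyclotomic 3 ℤ := by
    rw [Matrix.charpoly_fin_two, cyclotomic_three, Matrix.trace_fin_two, Matrix.det_fin_two]
    rw [show M 0 0 + M 1 1 = -1 from htr,
      show M 0 0 * M 1 1 - M 0 1 * M 1 0 = 1 by rw [← hdet]; simp only [u, w]; ring, map_neg, map_one]
    ring
  -- the symmetric part
  have hApow : ∀ i, A ^ i * emMat = emMat * B ^ i := by
    intro i
    induction i with
    | zero => simp
    | succ i ih => rw [pow_succ, Matrix.mul_assoc, hAE, ← Matrix.mul_assoc, ih, Matrix.mul_assoc, ← pow_succ]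
  have hB12 : B ^ 12 = 1 := by
    have h1 := congrArg (qMat * ·) (hApow 12)
    simp only [hA, ← permMat_pow hc₆ hπ, h12, permMat_one, Matrix.one_mul, ← Matrix.mul_assoc, qMat_emMat] at h1
    exact h1.symm
  have hgen : ∀ (p : ℤ[X]) v, chi x (aeval A p *ᵥ v) = chi x v ^ (p.eval (q : ℤ)) := by
    intro p
    induction p using Polynomial.induction_on' with
    | add a b ha hb => intro v; rw [map_add, Matrix.add_mulVec, chi_add, ha, hb, eval_add, zpow_add]
    | monomial i a =>
      have hi : ∀ i v, chi x (A ^ i *ᵥ v) = chi x v ^ q ^ i := by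
        intro i
        induction i with
        | zero => intro v; simp
        | succ i ih => intro v; rw [pow_succ, ← Matrix.mulVec_mulVec, ih, hx, ← pow_mul, ← pow_succ']
      intro v
      rw [aeval_monomial, Algebra.algebraMap_eq_smul_one, smul_mul_assoc, one_mul, Matrix.smul_mulVec, chi_smul,
        hi, eval_monomial, ← zpow_natCast, ← zpow_mul]
      exact congrArg (fun e : ℤ => chi x v ^ e) (by push_cast; ring)
  have hpAE : ∀ p : ℤ[X], aeval A p * emMat = emMat * aeval B p := by
    intro p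
    induction p using Polynomial.induction_on' with
    | add a b ha hb => rw [map_add, map_add, Matrix.add_mul, Matrix.mul_add, ha, hb]
    | monomial i a =>
      rw [aeval_monomial, aeval_monomial, Algebra.algebraMap_eq_smul_one, Algebra.algebraMap_eq_smul_one,
        smul_mul_assoc, smul_mul_assoc, one_mul, one_mul, Matrix.smul_mul, Matrix.mul_smul, hApow]
  have hcB : B.charpoly = cyclotomic 12 ℤ := by
    refine charpoly_eq_cyclotomic (N := 12) (r := r) (q := (q : ℤ)) hB12 hr (by rw [Int.cast_natCast, hord])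
      (by rw [Fintype.card_fin]; decide) fun p hp => ?_
    have h1 := hgen p (emMat *ᵥ Pi.single 0 1)
    rw [Matrix.mulVec_mulVec, hpAE, hp, Matrix.mul_zero, Matrix.zero_mulVec, chi_zero,
      show (emMat *ᵥ Pi.single 0 1 : Fin chevE6.rank → ℤ) = Pi.single (nd 1) 1 by decide +kernel,
      chi_single, zpow_one] at h1
    rw [ZMod.intCast_zmod_eq_zero_iff_dvd]
    have h2 : orderOf (x (nd 1)) = r := orderOf_eq_prime (congrFun hxr (nd 1)) hx1
    rw [← h2]
    exact orderOf_dvd_iff_zpow_eq_one.2 h1.symm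
  rw [block_charpoly A hPE, ← hM, ← hB, hcM, hcB, mul_comm]

end CfsgLib.ChevCent.E6
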