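import Cfsg.Agent.Lib.ChevCent.MaxTorus
import Cfsg.Agent.Lib.ChevCent.E6Fold
import Cfsg.Agent.Lib.ChevCent.E6Weyl
import Cfsg.Agent.Lib.ChevCent.CycTwelve
import Cfsg.Agent.Lib.Steinberg.CenterData

/-!
# The cyclic self-centralising torus of E6(q) of order `Φ₁₂(q) Φ₃(q) / (3, q - 1)`
-/

set_option autoImplicit false
set_option linter.unusedSectionVars false

namespace CfsgLib.ChevCent

open Cfsg.Lie CfsgLib.Chev CfsgLib.ChevField Polynomial
open scoped Matrix

/-- the product of two cyclotomic polynomials of order dividing `d` divides `X ^ d - 1` -/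
theorem cyclotomic_mul_dvd {a b d : ℕ} (hd : 0 < d) (ha : a ∣ d) (hb : b ∣ d) (hab : a ≠ b) :
    cyclotomic a ℤ * cyclotomic b ℤ ∣ X ^ d - 1 := by
  rw [← prod_cyclotomic_eq_X_pow_sub_one hd, ← Finset.prod_pair (f := fun i => cyclotomic i ℤ) hab]
  refine Finset.prod_dvd_prod_of_subset _ _ _ fun i hi => ?_
  simp only [Finset.mem_insert, Finset.mem_singleton] at hi
  rcases hi with rfl | rfl
  · exact Nat.mem_divisors.2 ⟨ha, hd.ne'⟩
  · exact Nat.mem_divisors.2 ⟨hb, hd.ne'⟩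

/-- in a field of order `q ^ (12 * d)` the elements of exponent dividing `q ^ 12 - 1` are `d`-th powers -/
theorem exists_root_of_pow {E : Type*} [Field E] [Fintype E] {q d N : ℕ} (hd : d.Prime)
    (hE : Fintype.card E = q ^ (12 * d)) (hq : 2 ≤ q) (hN : N ∣ q ^ 12 - 1) (hq12 : q ^ 12 ≡ 1 [MOD d] ∨ d ∣ q)
    {u : Eˣ} (hu : u ^ N = 1) : ∃ v : Eˣ, v ^ d = u := by
  classical
  have hcard : Nat.card Eˣ = q ^ (12 * d) - 1 := by rw [Nat.card_units, Nat.card_eq_fintype_card, hE]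
  rcases hq12 with h | h
  · have hdvd : d * (q ^ 12 - 1) ∣ Nat.card Eˣ := by
      rw [hcard, pow_mul]
      have hx1 : 1 ≤ q ^ 12 := Nat.one_le_pow _ _ (by omega)
      have hg := geom_sum_mul_of_one_le hx1 d
      rw [← hg]
      refine Nat.mul_dvd_mul_right ?_ _
      rw [← ZMod.natCast_eq_zero_iff]
      have hx : ((q ^ 12 : ℕ) : ZMod d) = ((1 : ℕ) : ZMod d) := (ZMod.natCast_eq_natCast_iff _ _ _).2 h
      rw [Nat.cast_sum]
      rw [Finset.sum_congr rfl (g := fun _ => (1 : ZMod d)) fun i _ => by rw [Nat.cast_pow, hx, Nat.cast_one, one_pow]]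
      simp
    obtain ⟨m, hm⟩ := hdvd
    obtain ⟨n, hn⟩ := hN
    obtain ⟨γ, hγ⟩ := IsCyclic.exists_generator (α := Eˣ)
    obtain ⟨k, rfl⟩ := Submonoid.mem_powers_iff _ _ |>.1 (mem_powers_iff_mem_zpowers.2 (hγ u))
    have h1 : Nat.card Eˣ ∣ k * N := by
      rw [← orderOf_eq_card_of_forall_mem_zpowers hγ]
      exact orderOf_dvd_of_pow_eq_one (by rw [pow_mul, hu])
    rw [hm, hn, show d * (N * n) * m = (d * n * m) * N by ring] at h1
    have hN0 : 0 < N := Nat.pos_of_ne_zero fun h0 => by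
      rw [h0, zero_mul] at hn
      have : 1 < q ^ 12 := Nat.one_lt_pow (by norm_num) (by omega)
      omega
    obtain ⟨t, ht⟩ := Dvd.dvd.trans (dvd_mul_of_dvd_left (dvd_mul_right d n) m)
      (Nat.dvd_of_mul_dvd_mul_right hN0 h1)
    exact ⟨γ ^ t, by rw [← pow_mul, ht, mul_comm]⟩
  · have hco : (Nat.card Eˣ).Coprime d := by
      refine ((hd.coprime_iff_not_dvd).2 fun hh => ?_).symm
      rw [hcard] at hh
      have h2 : d ∣ q ^ (12 * d) := dvd_pow h (by have := hd.pos; omega)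
      have hx1 : 1 ≤ q ^ (12 * d) := Nat.one_le_pow _ _ (by omega)
      exact hd.not_dvd_one (by
        have := Nat.dvd_sub h2 hh
        rwa [show q ^ (12 * d) - (q ^ (12 * d) - 1) = 1 by omega] at this)
    exact ⟨(powCoprime hco).symm u, (powCoprime hco).apply_symm_apply u⟩

namespace E6

theorem simple_img_node : ∀ j : Fin chevE6.rank,
    chevE6.simple j.val = Twisted.E6.sym.img (chevE6.simple (Twisted.preNode Twisted.E6.sym_test j).val) := by
  decide +kernel

theorem rv_node_sum : ∀ j : Fin chevE6.rank,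
    rv chevE6 E6.tabs (chevE6.simple j.val) = Pi.single j 1 := fun j => rv_simple E6.checked j

theorem adj_ok : ∀ i j : Fin chevE6.rank,
    ∑ k, (![![4, 3, 5, 6, 4, 2], ![3, 6, 6, 9, 6, 3], ![5, 6, 10, 12, 8, 4], ![6, 9, 12, 18, 12, 6],
      ![4, 6, 8, 12, 10, 5], ![2, 3, 4, 6, 5, 4]] : Fin 6 → Fin 6 → ℤ) i k * cm chevE6 k j =
      if i = j then ((3 : ℕ) : ℤ) else 0 := by decide +kernel

theorem up_cartan : ∀ i l : Fin chevE6.rank,
    cm chevE7 (upNode Steinberg.embOkE6.1 l) (upNode Steinberg.embOkE6.1 i) = cm chevE6 l i := by decide +kernel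

/-- a right inverse of the first six rows of the Cartan matrix of E7 -/
def upInv : Fin chevE7.rank → Fin chevE6.rank → ℤ := fun j k =>
  (([[2, 1, 3, 2, 2, 2], [2, 2, 4, 3, 3, 3], [3, 2, 6, 4, 4, 4], [4, 3, 8, 6, 6, 6], [3, 2, 6, 4, 5, 5],
    [2, 1, 4, 2, 3, 4], [1, 0, 2, 0, 1, 2]] : List (List ℤ)).getD j.val []).getD k.val 0

theorem upInv_ok : ∀ i k : Fin chevE6.rank,
    ∑ j, cm chevE7 (upNode Steinberg.embOkE6.1 i) j * upInv j k = if i = k then 1 else 0 := by decide +kernel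

/-- a prime of at least thirteen does not divide the order of the Weyl group -/
theorem not_dvd_weyl {r : ℕ} (hr : r.Prime) (hr13 : 13 ≤ r) : ¬ r ∣ Nat.card ↥(weylGrp E6.checked) := by
  have hc : Checked chevE6 E6.tabs := E6.checked
  have hbig : ∀ b : ℕ, 0 < b → b ≤ 12 → ¬ r ∣ b := fun b hb hb' h => by
    have := Nat.le_of_dvd hb h; omega
  rw [card_weylGrp hc (J := [(⟨0, by decide⟩ : Fin chevE6.rank), (⟨2, by decide⟩ : Fin chevE6.rank),
    (⟨3, by decide⟩ : Fin chevE6.rank), (⟨1, by decide⟩ : Fin chevE6.rank), (⟨4, by decide⟩ : Fin chevE6.rank),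
    (⟨5, by decide⟩ : Fin chevE6.rank)]) (by decide), wsum_E6 hc,
    show polyEval [1, 1, 1, 1, 2, 2, 2, 2, 3, 2, 2, 2, 2, 1, 1, 1, 1] 1 *
      polyEval [1, 1, 1, 2, 2, 2, 2, 2, 1, 1, 1] 1 * polyEval [1, 1, 1, 1, 1] 1 * polyEval [1, 1, 1, 1] 1 *
      polyEval [1, 1, 1] 1 * polyEval [1, 1] 1 = 2 ^ 7 * 3 ^ 4 * 5 by decide +kernel]
  intro h
  rcases hr.dvd_mul.1 h with h | h
  · rcases hr.dvd_mul.1 h with h | h <;> exact hbig _ (by norm_num) (by norm_num) (hr.dvd_of_dvd_pow h)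
  · exact hbig _ (by norm_num) (by norm_num) h

/-- a twisted regular torus element of E6 whose Weyl element has characteristic polynomial `Φ₁₂ Φ₃` -/
theorem twist_data {F E : Type*} [Field F] [Fintype F] [Field E] [Fintype E] (ι : F →+* E) (σ : E →+* E)
    (hσι : ∀ a, σ (ι a) = ι a) {q : ℕ} (hF : Fintype.card F = q) (hσ : ∀ a, σ a = a ^ q) {e : ℕ}
    (hE : Fintype.card E = q ^ (12 * e)) {r : ℕ} [Fact r.Prime] (hrΦ : r ∣ q ^ 4 - q ^ 2 + 1) (hr13 : 13 ≤ r)
    (hord : orderOf (q : ZMod r) = 12) (hrq : ¬ r ∣ q) :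
    ∃ g ∈ chevE6.group E, ∃ (L : List (Fin chevE6.rank)) (a x : Fin chevE6.rank → Eˣ),
      x ^ r = 1 ∧ torus chevE6 E6.tabs E x ∈ chevE6.diagonalSubgroup E ∧
      (∀ s, s < chevE6.nroots → chi x (rv chevE6 E6.tabs s) ≠ 1) ∧
      (∀ j : Fin chevE6.rank, x (Twisted.preNode Twisted.E6.sym_test j) = x j) ∧ reflChars L x = x ^ q ∧
      glMap chevE6 σ g * g⁻¹ = torus chevE6 E6.tabs E (hPar chevE6 E a) * nProd chevE6 E L ∧
      (permMat E6.checked (permOf E6.checked L.reverse)).charpoly = cyclotomic 12 ℤ * cyclotomic 3 ℤ := by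
  classical
  have hc : Checked chevE6 E6.tabs := E6.checked
  have hcomm : CommOne chevE6 E6.tabs := Twisted.E6.comm_one
  have hq : 2 ≤ q := hF ▸ Fintype.one_lt_card
  have hr := (Fact.out : r.Prime)
  have hq12 : 1 ≤ q ^ 12 := Nat.one_le_pow _ _ (by omega)
  have hr12 : r ∣ q ^ 12 - 1 := by
    rw [← ZMod.natCast_eq_zero_iff, Nat.cast_sub hq12, Nat.cast_pow, Nat.cast_one, ← hord, pow_orderOf_eq_one, sub_self]
  have hQ : q ^ 12 - 1 ∣ Nat.card Eˣ := by
    rw [Nat.card_units, Nat.card_eq_fintype_card, hE, pow_mul]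
    simpa using Nat.sub_dvd_pow_sub_pow (q ^ 12) 1 e
  have hrco : Nat.Coprime q r := (hr.coprime_iff_not_dvd.2 hrq).symm
  have hbig : ∀ b : ℕ, 0 < b → b ≤ 12 → ¬ r ∣ b := fun b hb hb' h => by
    have := Nat.le_of_dvd hb h; omega
  obtain ⟨y, hy, g, hg, x, hxr, hxd, hgx, hreg, hxτ⟩ := exists_fold_element ι σ hσι hσ (r := r) (by omega) hrco hord
    (by
      rw [show (1152 : ℕ) = 2 ^ 7 * 3 ^ 2 by norm_num]
      intro h
      rcases hr.dvd_mul.1 h with h | h <;> exact hbig _ (by norm_num) (by norm_num) (hr.dvd_of_dvd_pow h))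
    (by rw [hE]; exact fun h => hrq (hr.dvd_of_dvd_pow h))
    (by
      have := hr12.trans hQ
      rwa [Nat.card_units, Nat.card_eq_fintype_card] at this)
    (by rw [card_group_F4 hF]; exact dvd_mul_of_dvd_right hr12 _)
  have hW := not_dvd_weyl hr hr13
  have hσt : ∀ χ : Fin chevE6.rank → Eˣ,
      glMap chevE6 σ (torus chevE6 E6.tabs E χ) = torus chevE6 E6.tabs E (χ ^ q) := fun χ => by
    rw [glMap_torus]
    congr 1
    funext j
    exact Units.ext (hσ _)
  have hcx : glMap chevE6 σ g * g⁻¹ * torus chevE6 E6.tabs E x * (glMap chevE6 σ g * g⁻¹)⁻¹ =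
      torus chevE6 E6.tabs E (x ^ q) := by
    have h1 : glMap chevE6 σ (glMap chevE6 ι y) = glMap chevE6 ι y := by ext i j; exact hσι _
    rw [hgx, map_mul, map_mul, map_inv, hσt] at h1
    calc glMap chevE6 σ g * g⁻¹ * torus chevE6 E6.tabs E x * (glMap chevE6 σ g * g⁻¹)⁻¹
        = glMap chevE6 σ g * (g⁻¹ * torus chevE6 E6.tabs E x * g) * (glMap chevE6 σ g)⁻¹ := by group
      _ = _ := by rw [← h1]; group
  obtain ⟨L, a, hLx, hL⟩ := exists_twist_form hc hcomm hrco hxd hxr hreg hW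
    (mul_mem (glMap_group hc σ hg) (inv_mem hg)) hcx
  set π := permOf hc L.reverse with hπdef
  have hπ : π ∈ weylGrp hc := ⟨_, rfl⟩
  have hact : ∀ χ : Fin chevE6.rank → Eˣ, permAct hc π χ = reflChars L χ := fun χ => by
    rw [permAct_permOf, List.reverse_reverse]
  set A := permMat hc π
  have hAx : ∀ v, chi x (A *ᵥ v) = chi x v ^ q := fun v => by rw [chi_permMat, hact, hLx, chi_pow']
  have hstab : ∀ π' ∈ stabW hc x, π' = 1 := fun π' h => stab_regular hc hW hxr hreg h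
  have hApow : ∀ j v, chi x (A ^ j *ᵥ v) = chi x v ^ q ^ j := by
    intro j
    induction j with
    | zero => intro v; simp
    | succ j ih => intro v; rw [pow_succ, ← Matrix.mulVec_mulVec, ih, hAx, ← pow_mul, ← pow_succ']
  have hqr : (q : ZMod r) ^ 12 = 1 := by rw [← hord]; exact pow_orderOf_eq_one _
  have hxord : ∀ (u : Eˣ), u ^ r = 1 → u ≠ 1 → ∀ m n : ℕ, u ^ m = u ^ n → (m : ZMod r) = n := by
    intro u hu hu1 m n h
    rw [pow_eq_pow_iff_modEq, orderOf_eq_prime hu hu1] at h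
    exact (ZMod.natCast_eq_natCast_iff _ _ _).2 h
  have hpow : ∀ (u : Eˣ), u ^ r = 1 → u ^ q ^ 12 = u := by
    intro u hu
    have h2 : q ^ 12 % r = 1 := by
      have h3 : ((q ^ 12 : ℕ) : ZMod r) = ((1 : ℕ) : ZMod r) := by rw [Nat.cast_pow, Nat.cast_one, hqr]
      have h4 := (ZMod.natCast_eq_natCast_iff' _ _ _).1 h3
      rwa [Nat.one_mod_eq_one.2 hr.ne_one] at h4
    rw [pow_eq_pow_mod _ hu, h2, pow_one]
  have h12 : π ^ 12 = 1 := by
    refine hstab _ ⟨pow_mem hπ 12, funext fun j => ?_⟩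
    have h1 := hApow 12 (Pi.single j 1)
    rw [← permMat_pow hc hπ, chi_permMat, chi_single, zpow_one, chi_single, zpow_one] at h1
    rw [h1]
    exact hpow _ (congrFun hxr j)
  have hfree : ∀ s, ∀ j < 12, 0 < j → (π ^ j) s ≠ s := by
    intro s j hj hj0 e
    have h1 := hApow j (rv chevE6 E6.tabs s.val)
    rw [← permMat_pow hc hπ, permMat_mulVec hc (pow_mem hπ j), e] at h1
    have h2 := hxord _ (by rw [← chi_pow', hxr, chi_one]) (hreg s.val s.2) (q ^ j) 1 (by rw [← h1, pow_one])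
    rw [Nat.cast_pow, Nat.cast_one, ← orderOf_dvd_iff_pow_eq_one, hord] at h2
    have := Nat.le_of_dvd hj0 h2
    omega
  -- the Weyl element commutes with the symmetry
  have hxnode : ∀ j : Fin chevE6.rank, x (Twisted.preNode Twisted.E6.sym_test j) = x j := by
    intro j
    have h := hxτ _ (simple_lt hc (Twisted.preNode Twisted.E6.sym_test j).2)
    rw [← simple_img_node, rv_simple hc, rv_simple hc, chi_single, zpow_one, chi_single, zpow_one] at h
    exact h.symm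
  set π' := permOf hc (L.reverse.map (Twisted.imgNode Twisted.E6.sym_test)) with hπ'def
  have hπ'img : ∀ (s : Fin chevE6.nroots) (h : Twisted.E6.sym.img s.val < chevE6.nroots),
      (π' ⟨Twisted.E6.sym.img s.val, h⟩).val = Twisted.E6.sym.img (π s).val := fun s h =>
    Fold.sigs_map_img Fold.E6.sym_data L.reverse s.2
  have hππ : π' = π := by
    have hx' : permAct hc π' x = x ^ q := by
      funext j
      show chi x (rv chevE6 E6.tabs (π' ⟨chevE6.simple j.val, _⟩).val) = x j ^ q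
      have hp := simple_lt hc (Twisted.preNode Twisted.E6.sym_test j).2
      have e1 : (π' ⟨chevE6.simple j.val, simple_lt hc j.2⟩).val =
          Twisted.E6.sym.img (π ⟨_, hp⟩).val := by
        rw [← hπ'img ⟨_, hp⟩ (Twisted.TwistSym.img_lt Twisted.E6.sym_test hp)]
        congr 2
        exact Fin.ext (simple_img_node j)
      rw [e1, hxτ _ (π ⟨_, hp⟩).2, ← permMat_single hc π, hAx, chi_single, zpow_one, hxnode]
    have hπ' : π' ∈ weylGrp hc := ⟨_, rfl⟩
    have h1 : π' * π⁻¹ ∈ stabW hc x := ⟨mul_mem hπ' (inv_mem hπ), by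
      rw [permAct_mul hc hπ', hx', ← hLx, ← hact, ← permAct_mul hc hπ, mul_inv_cancel, permAct_one]⟩
    exact mul_inv_eq_one.1 (hstab _ h1)
  have hcp : A.charpoly = cyclotomic 12 ℤ * cyclotomic 3 ℤ := by
    refine charpoly_eq hπ (fun s h => ?_) h12 hfree (hbig 12 (by norm_num) le_rfl) hord hxr ?_ hAx
    · rw [← hπ'img s h, hππ]
    · have h := hreg _ (simple_lt hc (nd 1).2)
      rwa [rv_simple hc, chi_single, zpow_one] at h
  exact ⟨g, hg, L, a, x, hxr, hxd, hreg, hxnode, hLx, hL, hcp⟩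

/-- the cyclic self-centralising subgroup -/
theorem exists_cyclic {F : Type*} [Field F] [Fintype F] {q : ℕ} (hF : Fintype.card F = q) :
    ∃ H : Subgroup ↥(chevE6.group F), IsCyclic ↥H ∧
      Nat.card ↥H = (q ^ 4 - q ^ 2 + 1) * (q ^ 2 + q + 1) / Nat.gcd 3 (q - 1) ∧
      Subgroup.centralizer (H : Set ↥(chevE6.group F)) = H := by
  classical
  have hc : Checked chevE6 E6.tabs := E6.checked
  have hcomm : CommOne chevE6 E6.tabs := Twisted.E6.comm_one
  have hq : 2 ≤ q := hF ▸ Fintype.one_lt_card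
  obtain ⟨r, hr, hrΦ, hr13, hord, hrq⟩ := exists_prime_twelve hq
  haveI := Fact.mk hr
  obtain ⟨E, iE, iF, ι, σ, hfix, hσ, hE⟩ := exists_extension F (d := 12 * 3) (by norm_num)
  rw [hF] at hσ hE
  have hσι : ∀ a, σ (ι a) = ι a := fun a => (hfix _).2 ⟨a, rfl⟩
  have hq12 : 1 ≤ q ^ 12 := Nat.one_le_pow _ _ (by omega)
  set N := (q ^ 4 - q ^ 2 + 1) * (q ^ 2 + q + 1) with hNdef
  have hN0 : 0 < N := by positivity
  have hfeval : (cyclotomic 12 ℤ * cyclotomic 3 ℤ).eval (q : ℤ) = (N : ℤ) := by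
    rw [eval_mul, eval_cyclotomic_twelve (by omega), eval_cyclotomic_three_nat, hNdef, Nat.cast_mul]
  have hdvd := cyclotomic_mul_dvd (a := 12) (b := 3) (d := 12) (by norm_num) dvd_rfl (by norm_num) (by norm_num)
  have hNq : N ∣ q ^ 12 - 1 := by
    have h1 := eval_dvd (x := (q : ℤ)) hdvd
    simp only [hfeval, eval_sub, eval_pow, eval_X, eval_one] at h1
    rw [show (q : ℤ) ^ 12 - 1 = ((q ^ 12 - 1 : ℕ) : ℤ) by rw [Nat.cast_sub hq12]; push_cast; ring] at h1
    exact_mod_cast h1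
  have hQ : q ^ 12 - 1 ∣ Nat.card Eˣ := by
    rw [Nat.card_units, Nat.card_eq_fintype_card, hE, pow_mul]
    simpa using Nat.sub_dvd_pow_sub_pow (q ^ 12) 1 3
  have hr12 : r ∣ q ^ 12 - 1 := (dvd_mul_of_dvd_left hrΦ _).trans hNq
  have hrco : Nat.Coprime q r := (hr.coprime_iff_not_dvd.2 hrq).symm
  have hbig : ∀ b : ℕ, 0 < b → b ≤ 12 → ¬ r ∣ b := fun b hb hb' h => by
    have := Nat.le_of_dvd hb h; omega
  obtain ⟨g, hg, L, a, x, hxr, hxd, hreg, -, hLx, hL, hcp⟩ :=
    twist_data ι σ hσι hF hσ (e := 3) hE hrΦ hr13 hord hrq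
  have hW := not_dvd_weyl hr hr13
  set π := permOf hc L.reverse with hπdef
  have hact : ∀ χ : Fin chevE6.rank → Eˣ, permAct hc π χ = reflChars L χ := fun χ => by
    rw [permAct_permOf, List.reverse_reverse]
  set A := permMat hc π
  -- the twisted characters
  set B := Matrix.scalar (Fin chevE6.rank) (q : ℤ) - A with hB
  have hdet : B.det = (N : ℤ) := by rw [hB, ← Matrix.eval_charpoly, hcp, hfeval]
  have hNodd : ¬ 2 ∣ N ∧ ¬ 9 ∣ N := by
    constructor
    · intro h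
      have h2 := (ZMod.natCast_eq_zero_iff N 2).2 h
      rw [hNdef, Nat.cast_mul, Nat.cast_add, Nat.cast_sub (Nat.pow_le_pow_right (by omega) (by norm_num))] at h2
      push_cast at h2
      exact absurd h2 ((by decide : ∀ a : ZMod 2, (a ^ 4 - a ^ 2 + 1) * (a ^ 2 + a + 1) ≠ 0) _)
    · intro h
      have h2 := (ZMod.natCast_eq_zero_iff N 9).2 h
      rw [hNdef, Nat.cast_mul, Nat.cast_add, Nat.cast_sub (Nat.pow_le_pow_right (by omega) (by norm_num))] at h2
      push_cast at h2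
      exact absurd h2 ((by decide : ∀ a : ZMod 9, (a ^ 4 - a ^ 2 + 1) * (a ^ 2 + a + 1) ≠ 0) _)
  have hcofA : ∀ M : Matrix (Fin chevE6.rank) (Fin chevE6.rank) ℤ, M.charpoly = cyclotomic 12 ℤ * cyclotomic 3 ℤ →
      ∀ l : ℕ, l.Prime → l ∣ N →
        ∃ i j, ¬ (l : ℤ) ∣ (Matrix.scalar (Fin chevE6.rank) (q : ℤ) - M).adjugate i j := by
    intro M hM l hl hlN
    haveI := Fact.mk hl
    have hlev : (l : ℤ) ∣ M.charpoly.eval (q : ℤ) := by rw [hM, hfeval]; exact_mod_cast hlN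
    refine adjugate_ne_zero_of_charpoly (by rw [Fintype.card_fin]; decide)
      (by rw [hM, hfeval]; exact_mod_cast hN0.ne') hlev ?_
    by_cases h : l ∣ 12
    · right
      rw [hM, hfeval]
      intro h2
      have h3 : l ^ 2 ∣ N := by exact_mod_cast h2
      rcases hl.dvd_mul.1 (show l ∣ 4 * 3 from h) with h | h
      · rw [(Nat.prime_dvd_prime_iff_eq hl Nat.prime_two).1 (hl.dvd_of_dvd_pow (show l ∣ 2 ^ 2 from h))] at hlN
        exact hNodd.1 hlN
      · rw [(Nat.prime_dvd_prime_iff_eq hl Nat.prime_three).1 h] at h3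
        exact hNodd.2 h3
    · left
      rw [hM] at hlev ⊢
      exact not_dvd_derivative_of_dvd (by norm_num) hdvd hlev h
  let K : Subgroup (Fin chevE6.rank → Eˣ) := MonoidHom.eqLocus (permAct hc π) (powMonoidHom q)
  have hK : ∀ χ, χ ∈ K ↔ reflChars L χ = χ ^ q := fun χ => by
    show permAct hc π χ = _ ↔ _
    rw [hact]; rfl
  obtain ⟨hKc, hKcard⟩ := detKernel hN0 hdet (hNq.trans hQ) (hcofA A hcp) K fun χ => by
    rw [hK, fixedChar_iff hc]
  have hxK : x ∈ K := (hK x).2 hLx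
  have hx3 : ∀ s, s < chevE6.nroots → chi (x ^ 3) (rv chevE6 E6.tabs s) ≠ 1 := fun s hs h => by
    rw [chi_pow'] at h
    exact hreg s hs (eq_of_pow_coprime h (by rw [← chi_pow', hxr, chi_one])
      ((hr.coprime_iff_not_dvd.2 (hbig 3 (by norm_num) (by norm_num))).symm))
  have hgcd : Nat.gcd 3 N = Nat.gcd 3 (q - 1) := by
    have hN3 : (3 ∣ N) ↔ 3 ∣ q - 1 := by
      rw [← ZMod.natCast_eq_zero_iff, ← ZMod.natCast_eq_zero_iff, Nat.cast_sub (by omega : 1 ≤ q), hNdef,
        Nat.cast_mul, Nat.cast_add, Nat.cast_sub (Nat.pow_le_pow_right (by omega) (by norm_num))]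
      push_cast
      exact (by decide : ∀ a : ZMod 3, (a ^ 4 - a ^ 2 + 1) * (a ^ 2 + a + 1) = 0 ↔ a - 1 = 0) _
    by_cases h : 3 ∣ N
    · rw [Nat.gcd_eq_left h, Nat.gcd_eq_left (hN3.1 h)]
    · rw [(Nat.prime_three.coprime_iff_not_dvd.2 h).gcd_eq_one,
        (Nat.prime_three.coprime_iff_not_dvd.2 fun h' => h (hN3.2 h')).gcd_eq_one]
  refine (exists_max_torus hc hcomm ι σ hfix hσ hg hL (dd := 3) Nat.prime_three adj_ok hN0 K hK hKc
    hKcard ?_ ?_ (fun s hs => ⟨x, hxK, hx3 s hs⟩)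
    (fun π' hπ' hfix' => stab_regular hc hW (by rw [← pow_mul, mul_comm, pow_mul, hxr, one_pow]) hx3
      ⟨hπ', hfix' x hxK⟩)).elim fun H hH => ⟨H, hH.1, by rw [hH.2.1, hgcd], hH.2.2⟩
  · intro χ hχ j
    refine exists_root_of_pow Nat.prime_three hE hq hNq ?_ ?_
    · rcases Nat.coprime_or_dvd_of_prime Nat.prime_three q with h | h
      · left
        have h1 : q ^ 2 ≡ 1 [MOD 3] := Nat.ModEq.pow_totient (Nat.Coprime.symm h)
        have := h1.pow 6
        rwa [← pow_mul, one_pow] at this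
      · exact Or.inr h
    · have := congrArg (fun z : ↥K => (z : Fin chevE6.rank → Eˣ) j) (pow_card_eq_one' (x := (⟨χ, hχ⟩ : ↥K)))
      rw [hKcard] at this
      simpa using this
  · intro h3N
    have h3q : 3 ∣ q - 1 := by
      have := Nat.gcd_eq_left h3N
      rw [hgcd] at this
      exact this ▸ Nat.gcd_dvd_right 3 (q - 1)
    obtain ⟨z, hz⟩ := exists_prime_orderOf_dvd_card' (G := Eˣ) 3 (h3N.trans (hNq.trans hQ))
    obtain ⟨T', S'⟩ := Steinberg.exists_setup (D := chevE7) (by simp)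
    have hz3 : z ^ 3 = 1 := hz ▸ pow_orderOf_eq_one z
    refine exists_not_descent hc hcomm Steinberg.hasWitE6 S' Steinberg.shortE6 Steinberg.shortE7 Steinberg.embOkE6
      up_cartan upInv_ok ι σ hσι hσ hg hL Nat.prime_three adj_ok hN0 (hNq.trans hQ) hdet (hcofA _ ?_) K hK hKcard
      (c₀ := fun k => z ^ Steinberg.centerE6.w.getD k.val 0)
      (Steinberg.hPar_rootOfUnity Steinberg.centerOkE6 hz3) ?_ ?_
    · rw [charpoly_of_intertwine (det_cmMat_ne_zero (by norm_num) adj_ok).1 (wMat_intertwine hc L.reverse)]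
      exact hcp
    · have hzq : z ^ q = z := by
        obtain ⟨k, hk⟩ := h3q
        rw [show q = 3 * k + 1 by omega, pow_succ, pow_mul, hz3, one_pow, one_mul]
      funext k
      show (z ^ Steinberg.centerE6.w.getD k.val 0) ^ q = z ^ Steinberg.centerE6.w.getD k.val 0
      rw [← zpow_natCast, ← zpow_mul, mul_comm, zpow_mul, zpow_natCast, hzq]
    · intro h
      have h0 := congrFun h (nd 0)
      rw [show Steinberg.centerE6.w.getD (nd 0).val 0 = 1 from rfl, zpow_one] at h0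
      rw [show z = 1 from h0, orderOf_one] at hz
      norm_num at hz

end E6

end CfsgLib.ChevCent
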