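import Cfsg.Agent.Lib.ChevCent.WeightLift
import Cfsg.Agent.Lib.ChevCent.E6Weyl
import Cfsg.Agent.Lib.Chev.Gen.ChkE7
import Cfsg.Agent.Lib.Chev.Gen.ChkE8

/-!
# The three orthogonal roots of E7 killed by a twisted element of E6 of order twelve
-/

set_option autoImplicit false
set_option linter.unusedSectionVars false

namespace CfsgLib.ChevCent.E7

open Cfsg.Lie CfsgLib.Chev

/-- the rank comparison of E6 and E7 -/
theorem rank_le : chevE6.rank ≤ chevE7.rank := by decide +kernel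

/-- the three orthogonal roots outside E6 -/
def zRoot : Fin 3 → Fin chevE7.nroots :=
  ![⟨92, by decide +kernel⟩, ⟨111, by decide +kernel⟩, ⟨107, by decide +kernel⟩]

/-- their negatives -/
def zNeg : Fin 3 → Fin chevE7.nroots :=
  ![⟨33, by decide +kernel⟩, ⟨14, by decide +kernel⟩, ⟨18, by decide +kernel⟩]

theorem zNeg_eq : ∀ k, (zNeg k).val = chevE7.neg (zRoot k).val := by decide +kernel

/-- the columns of the three roots -/
def emMat : Matrix (Fin chevE7.rank) (Fin 3) ℤ :=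
  Matrix.of fun j a => ([[0, 1, 1, 2, 2, 2, 1], [1, 1, 2, 2, 1, 1, 1], [1, 1, 1, 2, 2, 1, 1]].getD a.val []).getD
    j.val 0

/-- coordinates along the three roots -/
def qMat : Matrix (Fin 3) (Fin chevE7.rank) ℤ :=
  Matrix.of fun a j => ([[-1, 1, 0, 0, 0, 0, 0], [0, -1, 1, 0, 0, 0, 0], [1, 1, -1, 0, 0, 0, 0]].getD a.val []).getD
    j.val 0

/-- coordinates modulo the three roots -/
def pMat : Matrix (Fin 4) (Fin chevE7.rank) ℤ :=
  Matrix.of fun a j => ([[0, -2, 0, 1, 0, 0, 0], [0, -3, 1, 0, 1, 0, 0], [1, -2, 0, 0, 0, 1, 0],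
    [0, -1, 0, 0, 0, 0, 1]].getD a.val []).getD j.val 0

/-- a section of the coordinates modulo the three roots -/
def gMat : Matrix (Fin chevE7.rank) (Fin 4) ℤ :=
  Matrix.of fun j a => ([[0, 0, 0, 1, 0, 0, 0], [0, 0, 0, 0, 1, 0, 0], [0, 0, 0, 0, 0, 1, 0],
    [0, 0, 0, 0, 0, 0, 1]].getD a.val []).getD j.val 0

theorem sections : gMat * pMat + emMat * qMat = 1 := by decide +kernel

theorem pMat_gMat : pMat * gMat = 1 := by decide +kernel

theorem pMat_emMat : pMat * emMat = 0 := by decide +kernel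

theorem qMat_emMat : qMat * emMat = 1 := by decide +kernel

theorem emMat_col : ∀ (k : Fin 3) (j : Fin chevE7.rank),
    emMat j k = rv chevE7 E7.tabs (zRoot k).val j ∧ rv chevE7 E7.tabs (zNeg k).val j = -emMat j k := by
  decide +kernel

theorem zRoot_antisym : ∀ (k : Fin 3) (i : Fin chevE6.rank),
    resC rank_le (rv chevE7 E7.tabs (zRoot k).val) i +
      resC rank_le (rv chevE7 E7.tabs (zRoot k).val) (E6.tNode i) = 0 := by decide +kernel

theorem zRoot_weight : ∀ (k : Fin 3), resC rank_le (rv chevE7 E7.tabs (zRoot k).val) ≠ 0 := by decide +kernel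

theorem zRoot_last : ∀ (k : Fin 3), rv chevE7 E7.tabs (zRoot k).val ⟨6, by decide⟩ = 1 := by decide +kernel

theorem zNeg_last : ∀ (k : Fin 3), rv chevE7 E7.tabs (zNeg k).val ⟨6, by decide⟩ = -1 := by decide +kernel

theorem not_zRoot : ∀ s : Fin chevE7.nroots, (∃ k, zRoot k = s) ∨ (∃ k, zNeg k = s) ∨
    ∃ s' : Fin chevE6.nroots, ∀ i : Fin chevE6.rank,
      resC rank_le (rv chevE7 E7.tabs s.val) i + resC rank_le (rv chevE7 E7.tabs s.val) (E6.tNode i) =
        ∑ j, cm chevE6 i j * (rv chevE6 E6.tabs s'.val j + rv chevE6 E6.tabs s'.val (E6.tNode j)) := by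
  decide +kernel

theorem orth : ∀ a b : Fin 3, a ≠ b →
    ∀ r ∈ [(zRoot a).val, (zNeg a).val], ∀ s ∈ [(zRoot b).val, (zNeg b).val],
      s ≠ r ∧ s ≠ chevE7.neg r ∧ chevE7.commTerms r s = [] := by decide +kernel

theorem derangement : ∀ f : Fin 3 → Fin 3, Function.Injective f → (∀ k, f k ≠ k) →
    ((f 0 = 1 ∧ f (f 0) = 2) ∨ (f 0 = 2 ∧ f (f 0) = 1)) ∧ f (f (f 0)) = 0 := by decide +kernel

theorem tNode_eq : ∀ j : Fin chevE6.rank, E6.tNode j = Twisted.preNode Twisted.E6.sym_test j := by decide +kernel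

theorem tNode_invol : ∀ j : Fin chevE6.rank, E6.tNode (E6.tNode j) = j := by decide +kernel

theorem adjE6_symm : ∀ i k : Fin chevE6.rank,
    (![![4, 3, 5, 6, 4, 2], ![3, 6, 6, 9, 6, 3], ![5, 6, 10, 12, 8, 4], ![6, 9, 12, 18, 12, 6],
      ![4, 6, 8, 12, 10, 5], ![2, 3, 4, 6, 5, 4]] : Fin 6 → Fin 6 → ℤ) (E6.tNode k) (E6.tNode i) =
    (![![4, 3, 5, 6, 4, 2], ![3, 6, 6, 9, 6, 3], ![5, 6, 10, 12, 8, 4], ![6, 9, 12, 18, 12, 6],
      ![4, 6, 8, 12, 10, 5], ![2, 3, 4, 6, 5, 4]] : Fin 6 → Fin 6 → ℤ) k i := by decide +kernel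

theorem adj_ok : ∀ i j : Fin chevE7.rank,
    ∑ k, (![![4, 4, 6, 8, 6, 4, 2], ![4, 7, 8, 12, 9, 6, 3], ![6, 8, 12, 16, 12, 8, 4], ![8, 12, 16, 24, 18, 12, 6],
      ![6, 9, 12, 18, 15, 10, 5], ![4, 6, 8, 12, 10, 8, 4], ![2, 3, 4, 6, 5, 4, 3]] : Fin 7 → Fin 7 → ℤ) i k *
        cm chevE7 k j =
      if i = j then ((2 : ℕ) : ℤ) else 0 := by decide +kernel

theorem rank_le_eight : chevE7.rank ≤ chevE8.rank := by decide +kernel

theorem up_cartan : ∀ i l : Fin chevE7.rank,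
    cm chevE8 (upNode rank_le_eight l) (upNode rank_le_eight i) = cm chevE7 l i := by decide +kernel

/-- a right inverse of the first seven rows of the Cartan matrix of E8 -/
def upInv : Fin chevE8.rank → Fin chevE7.rank → ℤ := fun j k =>
  (([[2, 3, 3, 4, 4, 2, 2], [2, 5, 4, 6, 6, 3, 3], [3, 6, 6, 8, 8, 4, 4], [4, 9, 8, 12, 12, 6, 6],
    [3, 7, 6, 9, 10, 5, 5], [2, 5, 4, 6, 7, 4, 4], [1, 3, 2, 3, 4, 2, 3], [0, 1, 0, 0, 1, 0, 1]] :
      List (List ℤ)).getD j.val []).getD k.val 0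

theorem upInv_ok : ∀ i k : Fin chevE7.rank,
    ∑ j, cm chevE8 (upNode rank_le_eight i) j * upInv j k = if i = k then 1 else 0 := by decide +kernel

end CfsgLib.ChevCent.E7
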