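import Cfsg.Agent.Lib.ChevCent.E7Data
import Cfsg.Agent.Lib.ChevCent.DetKernel
import Cfsg.Agent.Lib.ChevCent.CycTwelve

/-!
# A Weyl element of E7 turning three orthogonal roots with a sign: characteristic polynomial and cofactors
-/

set_option autoImplicit false
set_option linter.unusedSectionVars false

namespace CfsgLib.ChevCent

open Cfsg.Lie CfsgLib.Chev Polynomial
open scoped Matrix

/-- evaluation of a polynomial in a matrix on an eigencharacter -/
theorem chi_aeval {D : ChevalleyDatum} {E : Type*} [Field E] {χ : Fin D.rank → Eˣ}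
    {A : Matrix (Fin D.rank) (Fin D.rank) ℤ} {q : ℕ} (hA : ∀ v, chi χ (A *ᵥ v) = chi χ v ^ q) (p : ℤ[X])
    (v : Fin D.rank → ℤ) : chi χ (aeval A p *ᵥ v) = chi χ v ^ (p.eval (q : ℤ)) := by
  induction p using Polynomial.induction_on' generalizing v with
  | add a b ha hb => rw [map_add, Matrix.add_mulVec, chi_add, ha, hb, eval_add, zpow_add]
  | monomial i a =>
    have hi : ∀ i v, chi χ (A ^ i *ᵥ v) = chi χ v ^ q ^ i := by
      intro i
      induction i with
      | zero => intro v; simp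
      | succ i ih => intro v; rw [pow_succ, ← Matrix.mulVec_mulVec, ih, hA, ← pow_mul, ← pow_succ']
    rw [aeval_monomial, Algebra.algebraMap_eq_smul_one, smul_mul_assoc, one_mul, Matrix.smul_mulVec, chi_smul,
      hi, eval_monomial, ← zpow_natCast, ← zpow_mul]
    exact congrArg (fun e : ℤ => chi χ v ^ e) (by push_cast; ring)

/-- a singular matrix with vanishing adjugate has a left kernel vector orthogonal to any given vector -/
theorem exists_left_kernel {n K : Type*} [Fintype n] [DecidableEq n] [Field K] {B : Matrix n n K} (hdet : B.det = 0)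
    (hadj : B.adjugate = 0) (w : n → K) : ∃ v, v ≠ 0 ∧ v ᵥ* B = 0 ∧ v ⬝ᵥ w = 0 := by
  classical
  obtain ⟨u, hu, hBu⟩ := Matrix.exists_mulVec_eq_zero_iff.2 hdet
  obtain ⟨j, hj⟩ : ∃ j, u j ≠ 0 := by
    by_contra h; push Not at h; exact hu (funext h)
  have h0 : (B.updateCol j w).det = 0 := by
    rw [← Matrix.cramer_apply, Matrix.cramer_eq_adjugate_mulVec, hadj, Matrix.zero_mulVec]; rfl
  obtain ⟨v, hv, hvB⟩ := Matrix.exists_vecMul_eq_zero_iff.2 h0
  have hk : ∀ k, k ≠ j → (v ᵥ* B) k = 0 := by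
    intro k hk
    have := congrFun hvB k
    simp only [Matrix.vecMul, dotProduct, Matrix.updateCol_ne hk, Pi.zero_apply] at this ⊢
    exact this
  refine ⟨v, hv, funext fun k => ?_, ?_⟩
  · by_cases hkj : k = j
    · subst hkj
      have h1 : (v ᵥ* B) ⬝ᵥ u = 0 := by rw [← Matrix.dotProduct_mulVec, hBu, dotProduct_zero]
      rw [dotProduct, Finset.sum_eq_single k (fun a _ ha => by rw [hk a ha, zero_mul]) (by simp)] at h1
      exact (mul_eq_zero.1 h1).resolve_right hj
    · exact hk k hkj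
  · have := congrFun hvB j
    simp only [Matrix.vecMul, dotProduct, Matrix.updateCol_self, Pi.zero_apply] at this ⊢
    exact this

namespace E7

/-- the images of the three roots, in the two orientations -/
def FlipImage (A : Matrix (Fin chevE7.rank) (Fin chevE7.rank) ℤ) (k1 k2 : Fin 3) : Prop :=
  ((k1 = 1 ∧ k2 = 2) ∨ (k1 = 2 ∧ k2 = 1)) ∧
    A *ᵥ (fun j => emMat j k1) = (fun j => emMat j 0) ∧ A *ᵥ (fun j => emMat j k2) = (fun j => emMat j k1) ∧
    A *ᵥ (fun j => emMat j 0) = -(fun j => emMat j k2)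

theorem flip_block {A : Matrix (Fin chevE7.rank) (Fin chevE7.rank) ℤ} {k1 k2 : Fin 3} (h : FlipImage A k1 k2) :
    pMat * A * emMat = 0 ∧ (qMat * A * emMat).charpoly = X ^ 3 + 1 := by
  obtain ⟨hk, h1, h2, h0⟩ := h
  have hcol : ∀ k : Fin 3, (A * emMat) *ᵥ Pi.single k 1 = A *ᵥ fun j => emMat j k := fun k => by
    rw [← Matrix.mulVec_mulVec, Matrix.mulVec_single_one]; rfl
  rcases hk with ⟨rfl, rfl⟩ | ⟨rfl, rfl⟩
  · have hAE : A * emMat = emMat * !![0, 1, 0; 0, 0, 1; -1, 0, 0] := by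
      refine Matrix.ext_of_mulVec_single fun k => ?_
      fin_cases k <;> rw [hcol] <;>
        simp only [Fin.zero_eta, Fin.mk_one, Fin.reduceFinMk, h0, h1, h2, ← Matrix.mulVec_mulVec] <;>
        decide +kernel
    refine ⟨by rw [Matrix.mul_assoc, hAE, ← Matrix.mul_assoc, pMat_emMat, Matrix.zero_mul], ?_⟩
    rw [Matrix.mul_assoc, hAE, ← Matrix.mul_assoc, qMat_emMat, Matrix.one_mul, Matrix.charpoly, Matrix.det_fin_three]
    simp [Matrix.charmatrix_apply]
    ring
  · have hAE : A * emMat = emMat * !![0, 0, 1; -1, 0, 0; 0, 1, 0] := by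
      refine Matrix.ext_of_mulVec_single fun k => ?_
      fin_cases k <;> rw [hcol] <;>
        simp only [Fin.zero_eta, Fin.mk_one, Fin.reduceFinMk, h0, h1, h2, ← Matrix.mulVec_mulVec] <;>
        decide +kernel
    refine ⟨by rw [Matrix.mul_assoc, hAE, ← Matrix.mul_assoc, pMat_emMat, Matrix.zero_mul], ?_⟩
    rw [Matrix.mul_assoc, hAE, ← Matrix.mul_assoc, qMat_emMat, Matrix.one_mul, Matrix.charpoly, Matrix.det_fin_three]
    simp [Matrix.charmatrix_apply]
    ring

/-- the quotient block -/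
theorem mul_pMat {A : Matrix (Fin chevE7.rank) (Fin chevE7.rank) ℤ} (hPE : pMat * A * emMat = 0) :
    pMat * A = pMat * A * gMat * pMat := by
  calc pMat * A = pMat * A * (gMat * pMat + emMat * qMat) := by rw [sections, Matrix.mul_one]
    _ = pMat * A * gMat * pMat + pMat * A * emMat * qMat := by rw [Matrix.mul_add]; simp only [Matrix.mul_assoc]
    _ = _ := by rw [hPE, Matrix.zero_mul, add_zero]

theorem aeval_pMat {A : Matrix (Fin chevE7.rank) (Fin chevE7.rank) ℤ} (hPE : pMat * A * emMat = 0) (p : ℤ[X]) :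
    pMat * aeval A p = aeval (pMat * A * gMat) p * pMat := by
  induction p using Polynomial.induction_on' with
  | add a b ha hb => rw [map_add, map_add, Matrix.mul_add, Matrix.add_mul, ha, hb]
  | monomial i a =>
    have hi : pMat * A ^ i = (pMat * A * gMat) ^ i * pMat := by
      induction i with
      | zero => simp
      | succ i ih =>
        calc pMat * A ^ (i + 1) = pMat * A ^ i * A := by rw [pow_succ, Matrix.mul_assoc]
          _ = (pMat * A * gMat) ^ i * (pMat * A) := by rw [ih, Matrix.mul_assoc]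
          _ = (pMat * A * gMat) ^ i * (pMat * A * gMat * pMat) := congrArg _ (mul_pMat hPE)
          _ = _ := by rw [← Matrix.mul_assoc, ← pow_succ]
    rw [aeval_monomial, aeval_monomial, Algebra.algebraMap_eq_smul_one, Algebra.algebraMap_eq_smul_one,
      smul_mul_assoc, smul_mul_assoc, one_mul, one_mul, Matrix.mul_smul, Matrix.smul_mul, hi]

theorem chi_emMat {E : Type*} [Field E] {χ : Fin chevE7.rank → Eˣ} (hk : ∀ k : Fin 3, chi χ (fun j => emMat j k) = 1)
    (w : Fin 3 → ℤ) : chi χ (emMat *ᵥ w) = 1 := by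
  have e : emMat *ᵥ w = ∑ k, w k • (fun j => emMat j k) := by
    funext j
    simp [Matrix.mulVec, dotProduct, Finset.sum_apply, mul_comm]
  rw [e, chi_sum]
  exact Finset.prod_eq_one fun k _ => by rw [chi_smul, hk, one_zpow]

theorem block_charpoly_aux {n a b : ℕ} (hn : a + b = n) (A : Matrix (Fin n) (Fin n) ℤ) (P : Matrix (Fin a) (Fin n) ℤ)
    (Q : Matrix (Fin b) (Fin n) ℤ) (G : Matrix (Fin n) (Fin a) ℤ) (Em : Matrix (Fin n) (Fin b) ℤ)
    (hsec : G * P + Em * Q = 1) (hPE : P * A * Em = 0) :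
    A.charpoly = (P * A * G).charpoly * (Q * A * Em).charpoly :=
  E6.block_charpoly_aux hn A P Q G Em hsec hPE

/-- the characteristic polynomial -/
theorem charpoly_eq {A : Matrix (Fin chevE7.rank) (Fin chevE7.rank) ℤ} {k1 k2 : Fin 3} (h : FlipImage A k1 k2)
    {n : ℕ} (hAn : A ^ n = 1) {E : Type*} [Field E] {r q : ℕ} [Fact r.Prime] (hrn : ¬ r ∣ n)
    (hord : orderOf (q : ZMod r) = 12) {x : Fin chevE7.rank → Eˣ} (hxr : x ^ r = 1) {v₀ : Fin chevE7.rank → ℤ}
    (hv₀ : chi x v₀ ≠ 1) (hk : ∀ k : Fin 3, chi x (fun j => emMat j k) = 1)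
    (hx : ∀ v, chi x (A *ᵥ v) = chi x v ^ q) :
    (pMat * A * gMat).charpoly = cyclotomic 12 ℤ ∧ A.charpoly = cyclotomic 12 ℤ * (X ^ 3 + 1) := by
  obtain ⟨hPE, hB⟩ := flip_block h
  have hM : (pMat * A * gMat).charpoly = cyclotomic 12 ℤ := by
    refine charpoly_eq_cyclotomic (N := n) (r := r) (q := (q : ℤ)) ?_ hrn (by rw [Int.cast_natCast, hord])
      (by rw [Fintype.card_fin]; decide) fun p hp => ?_
    · have h1 := aeval_pMat hPE (X ^ n)
      rw [aeval_X_pow, aeval_X_pow, hAn, Matrix.mul_one] at h1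
      have h2 := congrArg (· * gMat) h1
      simp only [Matrix.mul_assoc, pMat_gMat, Matrix.mul_one] at h2
      rw [Matrix.mul_assoc]
      exact h2.symm
    · have h1 := chi_aeval hx p v₀
      have h2 : aeval A p *ᵥ v₀ = emMat *ᵥ (qMat *ᵥ (aeval A p *ᵥ v₀)) := by
        have h3 : pMat *ᵥ (aeval A p *ᵥ v₀) = 0 := by
          rw [Matrix.mulVec_mulVec, aeval_pMat hPE, hp, Matrix.zero_mul, Matrix.zero_mulVec]
        calc aeval A p *ᵥ v₀ = (gMat * pMat + emMat * qMat) *ᵥ (aeval A p *ᵥ v₀) := by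
              rw [sections, Matrix.one_mulVec]
          _ = _ := by rw [Matrix.add_mulVec, ← Matrix.mulVec_mulVec, ← Matrix.mulVec_mulVec, h3,
              Matrix.mulVec_zero, zero_add]
      rw [h2, chi_emMat hk] at h1
      rw [ZMod.intCast_zmod_eq_zero_iff_dvd]
      have h4 : orderOf (chi x v₀) = r := orderOf_eq_prime (by rw [← chi_pow', hxr, chi_one]) hv₀
      rw [← h4]
      exact orderOf_dvd_iff_zpow_eq_one.2 h1.symm
  exact ⟨hM, by rw [block_charpoly_aux (by decide +kernel) A pMat qMat gMat emMat sections hPE, hM, hB]⟩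

/-- the cofactors modulo three -/
theorem cof_three {A : Matrix (Fin chevE7.rank) (Fin chevE7.rank) ℤ} {k1 k2 : Fin 3} (h : FlipImage A k1 k2)
    (hM : (pMat * A * gMat).charpoly = cyclotomic 12 ℤ) {q : ℕ} (hq : (q : ZMod 3) ≠ 0)
    (h12 : ((((cyclotomic 12 ℤ).eval (q : ℤ)) : ℤ) : ZMod 3) ≠ 0)
    (hdet : (((Matrix.scalar (Fin chevE7.rank) (q : ℤ) - A).det : ℤ) : ZMod 3) = 0) :
    ∃ i j, ¬ (3 : ℤ) ∣ (Matrix.scalar (Fin chevE7.rank) (q : ℤ) - A).adjugate i j := by
  by_contra hall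
  push Not at hall
  obtain ⟨hPE, -⟩ := flip_block h
  obtain ⟨hk, h1, h2, h0⟩ := h
  haveI : Fact (Nat.Prime 3) := ⟨Nat.prime_three⟩
  set c : ℤ →+* ZMod 3 := Int.castRingHom (ZMod 3)
  set B := Matrix.scalar (Fin chevE7.rank) (q : ℤ) - A with hB
  have hadj : (c.mapMatrix B).adjugate = 0 := by
    rw [← RingHom.map_adjugate]
    refine Matrix.ext fun i j => ?_
    exact (ZMod.intCast_zmod_eq_zero_iff_dvd _ 3).2 (hall i j)
  have hdet' : (c.mapMatrix B).det = 0 := by rw [← RingHom.map_det]; exact hdet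
  obtain ⟨v, hv, hvB, hvw⟩ := exists_left_kernel hdet' hadj (fun j => c (emMat j k2))
  have hrel : ∀ w : Fin chevE7.rank → ℤ,
      (q : ZMod 3) * (v ⬝ᵥ fun j => c (w j)) = v ⬝ᵥ fun j => c ((A *ᵥ w) j) := by
    intro w
    have e : (v ᵥ* c.mapMatrix B) ⬝ᵥ (fun j => c (w j)) = 0 := by rw [hvB, zero_dotProduct]
    rw [← Matrix.dotProduct_mulVec] at e
    have e2 : c.mapMatrix B *ᵥ (fun j => c (w j)) =
        (q : ZMod 3) • (fun j => c (w j)) - fun j => c ((A *ᵥ w) j) := by
      funext i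
      rw [RingHom.mapMatrix_apply, Pi.sub_apply, Pi.smul_apply, smul_eq_mul,
        show (B.map c *ᵥ fun j => c (w j)) i = c ((B *ᵥ w) i) from (RingHom.map_mulVec c B w i).symm,
        hB, Matrix.sub_mulVec, Pi.sub_apply, map_sub, Matrix.scalar_apply, Matrix.mulVec_diagonal, map_mul]
      simp [c]
    rw [e2, dotProduct_sub, dotProduct_smul, sub_eq_zero, smul_eq_mul] at e
    exact e
  have e0 : v ⬝ᵥ (fun j => c (emMat j 0)) = 0 := by
    have := hrel fun j => emMat j 0
    rw [h0] at this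
    simp only [Pi.neg_apply, map_neg] at this
    rw [show (v ⬝ᵥ fun j => -c (emMat j k2)) = -(v ⬝ᵥ fun j => c (emMat j k2)) from dotProduct_neg _ _, hvw,
      neg_zero] at this
    exact (mul_eq_zero.1 this).resolve_left hq
  have e1 : v ⬝ᵥ (fun j => c (emMat j k1)) = 0 := by
    have := hrel fun j => emMat j k1
    rw [h1, e0] at this
    exact (mul_eq_zero.1 this).resolve_left hq
  have hvEm : v ᵥ* emMat.map c = 0 := by
    funext k
    show v ⬝ᵥ (fun j => c (emMat j k)) = 0
    rcases hk with ⟨rfl, rfl⟩ | ⟨rfl, rfl⟩ <;> fin_cases k <;> assumption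
  set u := v ᵥ* gMat.map c with hudef
  have hvu : v = u ᵥ* pMat.map c := by
    rw [hudef, Matrix.vecMul_vecMul, ← Matrix.map_mul]
    calc v = v ᵥ* (gMat * pMat + emMat * qMat).map c := by
          rw [sections, Matrix.map_one _ (map_zero c) (map_one c), Matrix.vecMul_one]
      _ = _ := by
          rw [Matrix.map_add _ (map_add c), Matrix.vecMul_add, Matrix.map_mul (L := emMat), ← Matrix.vecMul_vecMul,
            hvEm, Matrix.zero_vecMul, add_zero]
  have hu0 : u ᵥ* (Matrix.scalar (Fin 4) (q : ℤ) - pMat * A * gMat).map c = 0 := by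
    have e : Matrix.scalar (Fin 4) (q : ℤ) - pMat * A * gMat = pMat * B * gMat := by
      rw [hB, Matrix.mul_sub, Matrix.sub_mul]
      congr 1
      rw [Matrix.scalar_apply, Matrix.scalar_apply, ← Matrix.smul_one_eq_diagonal, ← Matrix.smul_one_eq_diagonal,
        Matrix.mul_smul, Matrix.mul_one, Matrix.smul_mul, pMat_gMat]
    rw [e, Matrix.map_mul, Matrix.map_mul, ← Matrix.vecMul_vecMul, ← Matrix.vecMul_vecMul, ← hvu,
      show B.map c = c.mapMatrix B from rfl, hvB, Matrix.zero_vecMul]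
  have hu : u = 0 := by
    by_contra hne
    have h3 := Matrix.exists_vecMul_eq_zero_iff.1 ⟨u, hne, hu0⟩
    rw [show (Matrix.scalar (Fin 4) (q : ℤ) - pMat * A * gMat).map c =
      c.mapMatrix (Matrix.scalar (Fin 4) (q : ℤ) - pMat * A * gMat) from rfl, ← RingHom.map_det,
      ← Matrix.eval_charpoly, hM] at h3
    exact h12 h3
  exact hv (by rw [hvu, hu, Matrix.zero_vecMul])

end E7

end CfsgLib.ChevCent
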