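import Cfsg.Agent.Lib.ChevCent.MaxTorus
import Cfsg.Agent.Lib.ChevSL2.Hom

/-!
# Twisting a maximal torus by a reflection

A Lang conjugator whose Weyl element permutes three orthogonal roots cyclically is changed, inside the three
rank one subgroups, into one whose Weyl element also reflects in the first of them.
-/

set_option autoImplicit false
set_option linter.unusedSectionVars false

namespace CfsgLib.ChevCent

open Cfsg.Lie CfsgLib.Chev CfsgLib.ChevField
open scoped MatrixGroups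

variable {D : ChevalleyDatum} {T : Tabs} {E : Type*} [Field E]

/-- `C` carries the root pair of `b` to that of `b'`, scaling by `k` -/
def Scales (D : ChevalleyDatum) (C : GL D.Idx E) (b b' : ℕ) (k : Eˣ) : Prop :=
  ∀ t : E, C * elX D E b t * C⁻¹ = elX D E b' ((k : E) * t) ∧
    C * elX D E (D.neg b) t * C⁻¹ = elX D E (D.neg b') ((k : E)⁻¹ * t)

/-- the group of a root pair -/
def pairSub (D : ChevalleyDatum) (E : Type*) [Field E] (b : ℕ) : Subgroup (GL D.Idx E) :=
  Subgroup.closure {g | ∃ t, g = elX D E b t ∨ g = elX D E (D.neg b) t}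

theorem Scales.comp {C C' : GL D.Idx E} {b b' b'' : ℕ} {k k' : Eˣ} (h : Scales D C b b' k)
    (h' : Scales D C' b' b'' k') : Scales D (C' * C) b b'' (k' * k) := by
  intro t
  constructor
  · rw [show C' * C * elX D E b t * (C' * C)⁻¹ = C' * (C * elX D E b t * C⁻¹) * C'⁻¹ by group, (h t).1, (h' _).1,
      Units.val_mul, mul_assoc]
  · rw [show C' * C * elX D E (D.neg b) t * (C' * C)⁻¹ = C' * (C * elX D E (D.neg b) t * C⁻¹) * C'⁻¹ by group,
      (h t).2, (h' _).2, Units.val_mul, mul_inv, mul_assoc]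

theorem Scales.conj_mem {C : GL D.Idx E} {b b' : ℕ} {k : Eˣ} (h : Scales D C b b' k) {g : GL D.Idx E}
    (hg : g ∈ pairSub D E b) : C * g * C⁻¹ ∈ pairSub D E b' := by
  have hle : pairSub D E b ≤ (pairSub D E b').comap (MulAut.conj C).toMonoidHom := by
    rw [pairSub, Subgroup.closure_le]
    rintro x ⟨t, rfl | rfl⟩
    · show C * _ * C⁻¹ ∈ pairSub D E b'
      rw [(h t).1]; exact Subgroup.subset_closure ⟨_, Or.inl rfl⟩
    · show C * _ * C⁻¹ ∈ pairSub D E b'
      rw [(h t).2]; exact Subgroup.subset_closure ⟨_, Or.inr rfl⟩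
  exact hle hg

section
variable (hc : Checked D T)
include hc

theorem Scales.unique {C : GL D.Idx E} {b b' b'' : ℕ} {k k' : Eˣ} (hb' : b' < D.nroots) (hb'' : b'' < D.nroots)
    (h : Scales D C b b' k) (h' : Scales D C b b'' k') : b' = b'' ∧ k = k' := by
  have e := (h 1).1.symm.trans (h' 1).1
  rw [mul_one, mul_one] at e
  have e1 := elX_root_unique hc hb' hb'' k.ne_zero e
  subst e1
  refine ⟨rfl, ?_⟩
  by_contra hne
  have h2 : elX D E b' ((k : E) + -(k' : E)) = 1 := by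
    rw [← elX_add hc E hb', e, elX_add hc E hb', add_neg_cancel, elX_zero hc E hb']
  have hneg : b' ≠ D.neg b' := by
    rw [neg_eq hc hb']
    have := nroots_eq_two_mul hc
    omega
  have h3 : elX D E b' ((k : E) + -(k' : E)) = elX D E (D.neg b') 0 := by
    rw [h2, elX_zero hc E (neg_lt hc hb')]
  exact hneg (elX_root_unique hc hb' (neg_lt hc hb') (fun h0 => hne (Units.ext (add_neg_eq_zero.1 h0))) h3)

theorem scales_form (L : List (Fin D.rank)) (χ : Fin D.rank → Eˣ) {b : ℕ} (hb : b < D.nroots) :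
    ∃ k, Scales D (torus D T E χ * nProd D E L) b (sigs D T L b) k := by
  obtain ⟨c, hc1, hcc⟩ := nProd_conj_elX_pair hc (F := E) L hb
  have hb' := sigs_lt hc L hb
  refine ⟨chi χ (rv D T (sigs D T L b)) * c, fun t => ⟨?_, ?_⟩⟩
  · rw [show torus D T E χ * nProd D E L * elX D E b t * (torus D T E χ * nProd D E L)⁻¹ =
      torus D T E χ * (nProd D E L * elX D E b t * (nProd D E L)⁻¹) * (torus D T E χ)⁻¹ by group, (hcc t).1,
      torus_conj_elX hc χ hb', Units.val_mul, mul_assoc]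
  · rw [show torus D T E χ * nProd D E L * elX D E (D.neg b) t * (torus D T E χ * nProd D E L)⁻¹ =
      torus D T E χ * (nProd D E L * elX D E (D.neg b) t * (nProd D E L)⁻¹) * (torus D T E χ)⁻¹ by group, (hcc t).2,
      torus_conj_elX hc χ (neg_lt hc hb'), rv_neg hc hb', chi_neg, Units.val_mul, mul_inv, mul_assoc,
      Units.val_inv_eq_inv_val]
    congr 2
    rcases hc1 with h | h <;> simp [h]

theorem scales_map (τ : E ≃+* E) {C : GL D.Idx E} {b b' : ℕ} (hb : b < D.nroots) (hb' : b' < D.nroots) {k : Eˣ}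
    (h : Scales D C b b' k) : Scales D (glMap D τ.toRingHom C) b b' (Units.map τ.toRingHom.toMonoidHom k) := by
  intro t
  obtain ⟨s, rfl⟩ := τ.surjective t
  constructor
  · rw [show elX D E b (τ s) = glMap D τ.toRingHom (elX D E b s) from (glMap_elX hc τ.toRingHom hb s).symm, ← map_inv,
      ← map_mul, ← map_mul, (h s).1, glMap_elX hc τ.toRingHom hb', map_mul]
    rfl
  · rw [show elX D E (D.neg b) (τ s) = glMap D τ.toRingHom (elX D E (D.neg b) s) from
        (glMap_elX hc τ.toRingHom (neg_lt hc hb) s).symm, ← map_inv,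
      ← map_mul, ← map_mul, (h s).2, glMap_elX hc τ.toRingHom (neg_lt hc hb'), map_mul, map_inv₀]
    rfl

theorem glMap_pairSub (f : E →+* E) {b : ℕ} (hb : b < D.nroots) {g : GL D.Idx E} (hg : g ∈ pairSub D E b) :
    glMap D f g ∈ pairSub D E b := by
  have hle : pairSub D E b ≤ (pairSub D E b).comap (glMap D f) := by
    rw [pairSub, Subgroup.closure_le]
    rintro x ⟨t, rfl | rfl⟩
    · show glMap D f _ ∈ pairSub D E b
      rw [glMap_elX hc f hb]; exact Subgroup.subset_closure ⟨_, Or.inl rfl⟩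
    · show glMap D f _ ∈ pairSub D E b
      rw [glMap_elX hc f (neg_lt hc hb)]; exact Subgroup.subset_closure ⟨_, Or.inr rfl⟩
  exact hle hg

theorem pairSub_le_group {b : ℕ} (hb : b < D.nroots) : pairSub D E b ≤ D.group E := by
  rw [pairSub, Subgroup.closure_le]
  rintro x ⟨t, rfl | rfl⟩
  · exact elX_mem_group hc hb t
  · exact elX_mem_group hc (neg_lt hc hb) t

theorem elN_mem_monomial_unit {r : ℕ} (hr : r < D.nroots) (t : Eˣ) :
    elN D E r (t : E) ∈ D.monomialSubgroup E := by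
  have h := elN_mul_inv hc hr (F := E) t 1
  rw [div_one, Units.val_one] at h
  rw [show elN D E r (t : E) = torus D T E (corChar D T r t) * elN D E r 1 by rw [← h, inv_mul_cancel_right]]
  exact mul_mem (diagonal_le_monomial hc (torus_corChar_mem hc t)) (elN_mem_monomial hc hr)

end

theorem exists_pow_eq_of_pow_eq_one [Fintype E] {a S : ℕ} (h : Nat.card Eˣ = a * S) {u : Eˣ} (hu : u ^ S = 1) :
    ∃ v : Eˣ, v ^ a = u := by
  obtain ⟨γ, hγ⟩ := IsCyclic.exists_generator (α := Eˣ)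
  obtain ⟨k, rfl⟩ := Submonoid.mem_powers_iff _ _ |>.1 (mem_powers_iff_mem_zpowers.2 (hγ u))
  have h1 : a * S ∣ k * S := by
    rw [← h, ← orderOf_eq_card_of_forall_mem_zpowers hγ]
    exact orderOf_dvd_of_pow_eq_one (by rw [pow_mul, hu])
  have hS : 0 < S := Nat.pos_of_ne_zero fun h0 => by
    rw [h0, mul_zero] at h; exact (Nat.card_pos (α := Eˣ)).ne' h
  obtain ⟨m, hm⟩ := Nat.dvd_of_mul_dvd_mul_right hS h1
  exact ⟨γ ^ m, by rw [← pow_mul, hm, mul_comm]⟩

/-- a special matrix turned by the Frobenius map into a Weyl matrix times its scaling -/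
theorem exists_lang_matrix [Fintype E] {q : ℕ} (hq : 2 ≤ q) (τ : E →+* E) (hτ : ∀ a, τ a = a ^ q ^ 3)
    (hE : Fintype.card E = q ^ 24) {μ : Eˣ} (hμ : μ ^ ((q ^ 24 - 1) / (q ^ 3 - 1)) = 1) :
    ∃ (a b c d : E) (s : Eˣ), a * d - b * c = 1 ∧ τ a = (s : E) * c / (μ : E) ∧ τ b = (s : E) * d ∧
      τ c = -a / (s : E) ∧ τ d = -((μ : E) * b) / (s : E) := by
  classical
  obtain ⟨p, hp_def⟩ : ∃ p, p = q ^ 3 := ⟨_, rfl⟩
  rw [← hp_def] at hμ
  simp only [← hp_def] at hτ
  have hp : 2 ≤ p := hp_def ▸ le_trans hq (Nat.le_self_pow (by norm_num) q)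
  have hp8 : q ^ 24 = p ^ 8 := by rw [hp_def, ← pow_mul]
  have hcard : Nat.card Eˣ = p ^ 8 - 1 := by rw [Nat.card_units, Nat.card_eq_fintype_card, hE, hp8]
  rw [hp8] at hμ
  have hd1 : p - 1 ∣ p ^ 8 - 1 := by simpa using Nat.sub_dvd_pow_sub_pow p 1 8
  have hd2 : p ^ 2 - 1 ∣ p ^ 8 - 1 := by
    have := Nat.sub_dvd_pow_sub_pow (p ^ 2) 1 4
    rwa [one_pow, ← pow_mul] at this
  obtain ⟨u, hu⟩ := exists_pow_eq_of_pow_eq_one (a := p - 1) (by rw [hcard]; exact (Nat.mul_div_cancel' hd1).symm) hμ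
  -- an element of order `p² - 1`
  obtain ⟨γ, hγ⟩ := IsCyclic.exists_generator (α := Eˣ)
  obtain ⟨e, he⟩ := hd2
  have hp2 : 4 ≤ p ^ 2 := by nlinarith
  have hp8' : 1 < p ^ 8 := Nat.one_lt_pow (by norm_num) (by omega)
  have he0 : 0 < e := Nat.pos_of_ne_zero fun h0 => by rw [h0, mul_zero] at he; omega
  set θ := γ ^ e with hθdef
  have hθo : orderOf θ = p ^ 2 - 1 := by
    rw [hθdef, orderOf_pow, orderOf_eq_card_of_forall_mem_zpowers hγ, hcard, he,
      Nat.gcd_eq_right (dvd_mul_left e _), Nat.mul_div_cancel _ he0]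
  have hθ2 : τ (τ (θ : E)) = θ := by
    rw [hτ, hτ, ← Units.val_pow_eq_pow_val, ← Units.val_pow_eq_pow_val, ← pow_mul, ← sq,
      show p ^ 2 = p ^ 2 - 1 + 1 by omega, pow_succ, ← hθo, pow_orderOf_eq_one, one_mul]
  have hδ0 : τ (θ : E) - θ ≠ 0 := by
    rw [sub_ne_zero, hτ, ← Units.val_pow_eq_pow_val]
    intro h
    have h1 : θ ^ p = θ ^ 1 := by rw [pow_one]; exact Units.ext h
    rw [pow_eq_pow_iff_modEq, hθo] at h1
    have hlt : p < p ^ 2 - 1 := by
      have : p * 2 ≤ p ^ 2 := by rw [sq]; exact Nat.mul_le_mul_left p hp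
      omega
    have := h1.eq_of_lt_of_lt hlt (by omega)
    omega
  set δ := Units.mk0 _ hδ0 with hδdef
  have hδτ : δ ^ p = -δ := by
    refine Units.ext ?_
    rw [Units.val_pow_eq_pow_val, Units.val_neg, ← hτ, hδdef, Units.val_mk0, map_sub, hθ2]
    ring
  have hδ1 : δ ^ (p - 1) = -1 := by
    have h : δ ^ (p - 1) * δ = δ ^ p := by rw [← pow_succ, Nat.sub_add_cancel (by omega : 1 ≤ p)]
    rw [hδτ, neg_eq_neg_one_mul δ] at h
    exact mul_right_cancel h
  -- a square root of a norm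
  have hS : p ^ 8 - 1 = (p + 1) * ((p - 1) * (p ^ 6 + p ^ 4 + p ^ 2 + 1)) := by
    zify [show 1 ≤ p ^ 8 by omega, show 1 ≤ p by omega]; ring
  obtain ⟨α, hα⟩ := exists_pow_eq_of_pow_eq_one (a := p + 1) (u := δ⁻¹) (by rw [hcard, hS]) (by
    rw [inv_pow, inv_eq_one, pow_mul, hδ1]
    rcases Nat.even_or_odd p with hev | hodd
    · have h2 : (2 : E) = 0 := by
        obtain ⟨k, hk⟩ := hev
        obtain ⟨ρ, hρ⟩ := CharP.exists E
        haveI := hρ
        obtain ⟨f, hρp, hf⟩ := FiniteField.card E ρ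
        have h2ρ : 2 ∣ ρ ^ (f : ℕ) := by rw [← hf, hE, hp8]; exact dvd_pow ⟨k, by omega⟩ (by norm_num)
        have e2 := (Nat.prime_dvd_prime_iff_eq Nat.prime_two hρp).1 (Nat.prime_two.dvd_of_dvd_pow h2ρ)
        rw [show (2 : E) = ((2 : ℕ) : E) by norm_num, e2, CharP.cast_eq_zero]
      rw [show (-1 : Eˣ) = 1 from Units.ext (by
        rw [Units.val_neg, Units.val_one]; linear_combination (-1 : E) * h2), one_pow]
    · refine Even.neg_one_pow ?_
      rw [Nat.even_add', Nat.odd_add]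
      simp [Nat.even_add, Nat.odd_add, hodd, Nat.even_pow, Nat.odd_pow_iff, Nat.not_even_iff_odd.2 hodd])
  have hαττ : τ (τ (α : E)) = -(α : E) := by
    rw [hτ, hτ, ← Units.val_pow_eq_pow_val, ← Units.val_pow_eq_pow_val, ← pow_mul, ← Units.val_neg]
    congr 1
    have h : α ^ (p * p) = (α ^ (p + 1)) ^ (p - 1) * α := by
      rw [← pow_mul, ← pow_succ]
      congr 1
      zify [show 1 ≤ p by omega]; ring
    rw [h, hα, inv_pow, hδ1, inv_neg, inv_one, ← neg_eq_neg_one_mul α]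
  have hμu : τ (u : E) = (μ : E) * u := by
    rw [hτ, ← Units.val_pow_eq_pow_val, ← Units.val_mul, ← hu, ← pow_succ, Nat.sub_add_cancel (by omega : 1 ≤ p)]
  have hαδ : (α : E) * τ α * (τ (θ : E) - θ) = 1 := by
    rw [hτ (α : E), ← pow_succ', ← Units.val_pow_eq_pow_val, hα, show τ (θ : E) - θ = (δ : E) from rfl,
      ← Units.val_mul, inv_mul_cancel, Units.val_one]
  have hu0 : (u : E) ≠ 0 := u.ne_zero
  have hμ0 : (μ : E) ≠ 0 := μ.ne_zero
  refine ⟨α, u * α * θ, τ α / u, τ α * τ θ, μ * u, ?_, ?_, ?_, ?_, ?_⟩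
  · rw [← hαδ]; field_simp
  · rw [Units.val_mul]; field_simp
  · rw [map_mul, map_mul, hμu, Units.val_mul]; ring
  · rw [map_div₀, hαττ, hμu, Units.val_mul]
  · rw [map_mul, hαττ, hθ2, Units.val_mul]; field_simp

/-- scaling the off-diagonal entries -/
noncomputable def scaleMat (μ : Eˣ) (M : Matrix (Fin 2) (Fin 2) E) : Matrix (Fin 2) (Fin 2) E :=
  !![M 0 0, (μ : E) * M 0 1; M 1 0 * (μ : E)⁻¹, M 1 1]

theorem scaleMat_mul (μ : Eˣ) (M N : Matrix (Fin 2) (Fin 2) E) :
    scaleMat μ (M * N) = scaleMat μ M * scaleMat μ N := by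
  have h := mul_inv_cancel₀ μ.ne_zero
  refine Matrix.ext fun i j => ?_
  fin_cases i <;> fin_cases j <;> simp [scaleMat, Matrix.mul_apply, Fin.sum_univ_two]
  · linear_combination -(M 0 1 * N 1 0) * h
  · ring
  · ring
  · linear_combination -(M 1 0 * N 0 1) * h

theorem det_scaleMat (μ : Eˣ) (M : Matrix (Fin 2) (Fin 2) E) : (scaleMat μ M).det = M.det := by
  rw [scaleMat, Matrix.det_fin_two_of, Matrix.det_fin_two]
  linear_combination -(M 0 1 * M 1 0) * (mul_inv_cancel₀ μ.ne_zero)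

/-- conjugation of SL(2) by `diag(μ, 1)` -/
noncomputable def scaleHom (μ : Eˣ) : SL(2, E) →* SL(2, E) :=
  MonoidHom.mk' (fun M => (⟨scaleMat μ M.1, (det_scaleMat μ M.1).trans M.2⟩ : SL(2, E)))
    fun M N => Subtype.ext (scaleMat_mul μ M.1 N.1)

theorem coe_scaleHom (μ : Eˣ) (M : SL(2, E)) : ((scaleHom μ M : SL(2, E)) : Matrix (Fin 2) (Fin 2) E) =
    !![M.1 0 0, (μ : E) * M.1 0 1; M.1 1 0 * (μ : E)⁻¹, M.1 1 1] := rfl

theorem scaleHom_img (μ : Eˣ) (b : Bool) (t : E) :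
    scaleHom μ (SteinbergTwo.img E (b, t)) =
      SteinbergTwo.img E (b, if b then (μ : E) * t else (μ : E)⁻¹ * t) := by
  apply Subtype.ext
  rw [coe_scaleHom, SteinbergTwo.coe_img, SteinbergTwo.coe_img]
  cases b <;> simp [mul_comm]

theorem map_img (f : E →+* E) (b : Bool) (t : E) :
    Matrix.SpecialLinearGroup.map f (SteinbergTwo.img E (b, t)) = SteinbergTwo.img E (b, f t) := by
  apply Subtype.ext
  show (SteinbergTwo.img E (b, t) : Matrix (Fin 2) (Fin 2) E).map f = _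
  rw [SteinbergTwo.coe_img, SteinbergTwo.coe_img]
  cases b <;> refine Matrix.ext fun i j => ?_ <;> fin_cases i <;> fin_cases j <;> simp

theorem lang_matrix_eq (f : E →+* E) (μ : Eˣ) {a b c d : E} {s : Eˣ} (hdet : a * d - b * c = 1)
    (ea : f a = (s : E) * c / (μ : E)) (eb : f b = (s : E) * d) (ec : f c = -a / (s : E))
    (ed : f d = -((μ : E) * b) / (s : E)) :
    ∃ N : SL(2, E), Matrix.SpecialLinearGroup.map f N =
      SteinbergTwo.wWord (fun b t => SteinbergTwo.img E (b, t)) true (s : E) * scaleHom μ N := by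
  obtain ⟨N, hN⟩ : ∃ N : SL(2, E), N.1 = !![a, b; c, d] :=
    ⟨⟨!![a, b; c, d], by rw [Matrix.det_fin_two_of]; exact hdet⟩, rfl⟩
  refine ⟨N, Subtype.ext ?_⟩
  rw [Matrix.SpecialLinearGroup.coe_mul, SteinbergTwo.img_wWord E true s.ne_zero, coe_scaleHom, hN]
  show N.1.map f = _
  rw [hN]
  refine Matrix.ext fun i j => ?_
  fin_cases i <;> fin_cases j <;>
    simp [Matrix.mul_apply, Fin.sum_univ_two, ea, eb, ec, ed] <;> field_simp

section
variable (hc : Checked D T) (hcomm : CommOne D T)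
include hc hcomm

/-- the twisted conjugator -/
theorem exists_flip [Fintype E] {q : ℕ} (hq : 2 ≤ q) (hE : Fintype.card E = q ^ 24) (σ : E →+* E)
    (hσ : ∀ a, σ a = a ^ q) {g : GL D.Idx E} (hg : g ∈ D.group E) {L : List (Fin D.rank)} {a : Fin D.rank → Eˣ}
    (hL : glMap D σ g * g⁻¹ = torus D T E (hPar D E a) * nProd D E L) {b0 b1 b2 : ℕ} (hb0 : b0 < D.nroots)
    (e1 : sigs D T L b0 = b1) (e2 : sigs D T L b1 = b2) (e3 : sigs D T L b2 = b0)
    (h01 : ∀ x ∈ pairSub D E b0, ∀ y ∈ pairSub D E b1, Commute x y)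
    (h02 : ∀ x ∈ pairSub D E b0, ∀ y ∈ pairSub D E b2, Commute x y)
    (h12 : ∀ x ∈ pairSub D E b1, ∀ y ∈ pairSub D E b2, Commute x y) :
    ∃ g₂ ∈ D.group E, ∃ (L₂ : List (Fin D.rank)) (a₂ : Fin D.rank → Eˣ) (s : Eˣ),
      glMap D σ g₂ * g₂⁻¹ = torus D T E (hPar D E a₂) * nProd D E L₂ ∧
      torus D T E (hPar D E a₂) * nProd D E L₂ =
        elN D E b0 (s : E) * (torus D T E (hPar D E a) * nProd D E L) := by
  classical
  have hb1 : b1 < D.nroots := e1 ▸ sigs_lt hc L hb0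
  have hb2 : b2 < D.nroots := e2 ▸ sigs_lt hc L hb1
  set C := torus D T E (hPar D E a) * nProd D E L with hC
  obtain ⟨k0, s0⟩ := scales_form hc L (hPar D E a) hb0
  obtain ⟨k1, s1⟩ := scales_form hc L (hPar D E a) hb1
  obtain ⟨k2, s2⟩ := scales_form hc L (hPar D E a) hb2
  rw [e1] at s0
  rw [e2] at s1
  rw [e3] at s2
  let σe : E ≃+* E := RingEquiv.ofBijective σ (Finite.injective_iff_bijective.1 σ.injective)
  have hσe : σe.toRingHom = σ := RingHom.ext fun x => rfl
  set σ' : E →+* E := σe.symm.toRingHom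
  have hσσ' : ∀ x : GL D.Idx E, glMap D σ (glMap D σ' x) = x := fun x => by
    ext i j
    show σ (σe.symm _) = _
    exact σe.apply_symm_apply _
  have hσ'σ : ∀ x : GL D.Idx E, glMap D σ' (glMap D σ x) = x := fun x => by
    ext i j
    show σe.symm (σe _) = _
    exact σe.symm_apply_apply _
  set C3 := glMap D σ (glMap D σ C) * glMap D σ C * C with hC3def
  have hsc : ∀ {b b' k}, b < D.nroots → b' < D.nroots → Scales D C b b' k →
      Scales D (glMap D σ C) b b' (Units.map σ.toMonoidHom k) := fun hb hb' h => by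
    have := scales_map hc σe hb hb' h
    rwa [hσe] at this
  have hsc2 : Scales D (glMap D σ (glMap D σ C)) b2 b0 (Units.map σ.toMonoidHom (Units.map σ.toMonoidHom k2)) := by
    have := scales_map hc σe hb2 hb0 (hsc hb2 hb0 s2)
    rwa [hσe] at this
  set μ := Units.map σ.toMonoidHom (Units.map σ.toMonoidHom k2) * (Units.map σ.toMonoidHom k1 * k0)
  have hμs : Scales D C3 b0 b0 μ := by
    have := (s0.comp (hsc hb1 hb2 s1)).comp hsc2
    rwa [← mul_assoc] at this
  set σ3 : E →+* E := σ.comp (σ.comp σ)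
  have hσ3 : ∀ x, σ3 x = x ^ q ^ 3 := fun x => by
    show σ (σ (σ x)) = _
    rw [hσ, hσ, hσ, ← pow_mul, ← pow_mul, pow_succ, pow_succ, pow_one, mul_assoc]
  have hgl3 : ∀ x : GL D.Idx E, glMap D σ3 x = glMap D σ (glMap D σ (glMap D σ x)) := fun x => by
    ext i j; rfl
  let σ3e : E ≃+* E := RingEquiv.ofBijective σ3 (Finite.injective_iff_bijective.1 σ3.injective)
  have hC3g : C3 = glMap D σ3 g * g⁻¹ := by
    rw [hC3def, ← hL, hgl3]; simp only [map_mul, map_inv]; group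
  -- the norm of the scaling is one
  have hnorm : ∀ j : ℕ, Scales D ((glMap D σ3)^[j] g * g⁻¹) b0 b0
      (μ ^ ∑ i ∈ Finset.range j, (q ^ 3) ^ i) := by
    intro j
    induction j with
    | zero => intro t; simp
    | succ j ih =>
      rw [Function.iterate_succ_apply', show glMap D σ3 ((glMap D σ3)^[j] g) * g⁻¹ =
        glMap D σ3 ((glMap D σ3)^[j] g * g⁻¹) * C3 by rw [map_mul, map_inv, hC3g]; group]
      have h1 := scales_map hc σ3e hb0 hb0 ih
      rw [show σ3e.toRingHom = σ3 from RingHom.ext fun x => rfl] at h1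
      have h2 := hμs.comp h1
      have hpow : Units.map σ3.toMonoidHom (μ ^ ∑ i ∈ Finset.range j, (q ^ 3) ^ i) * μ =
          μ ^ ∑ i ∈ Finset.range (j + 1), (q ^ 3) ^ i := by
        rw [geom_sum_succ, pow_add, pow_one, mul_comm (q ^ 3), pow_mul]
        congr 1
        exact Units.ext (hσ3 _)
      rwa [hpow] at h2
  have h8 : (glMap D σ3)^[8] g = g := by
    have hit : ∀ j, ∀ x : GL D.Idx E, ∀ i l, (((glMap D σ3)^[j] x : GL D.Idx E) : Matrix D.Idx D.Idx E) i l =
        ((x : Matrix D.Idx D.Idx E) i l) ^ (q ^ 3) ^ j := by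
      intro j
      induction j with
      | zero => intro x i l; simp
      | succ j ih =>
        intro x i l
        rw [Function.iterate_succ_apply', glMap_coe, Matrix.map_apply, hσ3, ih, ← pow_mul, ← pow_succ]
    ext i l
    rw [hit, ← pow_mul, show q ^ (3 * 8) = Fintype.card E by rw [hE], FiniteField.pow_card]
  have hμ1 : μ ^ ((q ^ 24 - 1) / (q ^ 3 - 1)) = 1 := by
    have h1 := hnorm 8
    rw [h8, mul_inv_cancel] at h1
    have h2 : Scales D (1 : GL D.Idx E) b0 b0 1 := fun t => by simp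
    have e : (q ^ 24 - 1) / (q ^ 3 - 1) = ∑ i ∈ Finset.range 8, (q ^ 3) ^ i := by
      rw [Nat.geomSum_eq (le_trans hq (Nat.le_self_pow (by norm_num) q)), ← pow_mul]
    rw [e]
    exact (h1.unique hc hb0 hb0 h2).2
  obtain ⟨a', b', c', d', s, hdet, ea, eb, ec, ed⟩ := exists_lang_matrix hq σ3 hσ3 hE hμ1
  -- the rank one group
  obtain ⟨φ, -, hφ⟩ := ChevSL2.exists_hom hc (F := E) hb0
  have hφmem : ∀ M, φ M ∈ pairSub D E b0 := by
    intro M
    have hle : (⊤ : Subgroup SL(2, E)) ≤ (pairSub D E b0).comap φ := by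
      rw [← ChevSL2.closure_img E, Subgroup.closure_le]
      rintro _ ⟨b, t, rfl⟩
      rw [SetLike.mem_coe, Subgroup.mem_comap, hφ]
      cases b
      · exact Subgroup.subset_closure ⟨t, Or.inr rfl⟩
      · exact Subgroup.subset_closure ⟨t, Or.inl rfl⟩
    exact hle (Subgroup.mem_top M)
  have hnat : ∀ M : SL(2, E), glMap D σ3 (φ M) = φ (Matrix.SpecialLinearGroup.map σ3 M) := by
    intro M
    have hle : (⊤ : Subgroup SL(2, E)) ≤
        ((glMap D σ3).comp φ).eqLocus (φ.comp (Matrix.SpecialLinearGroup.map σ3)) := by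
      rw [← ChevSL2.closure_img E, Subgroup.closure_le]
      rintro _ ⟨b, t, rfl⟩
      show glMap D σ3 (φ _) = φ (Matrix.SpecialLinearGroup.map σ3 _)
      have e := map_img σ3 b t
      rw [hφ, e, hφ]
      cases b
      · exact glMap_elX hc σ3 (neg_lt hc hb0) t
      · exact glMap_elX hc σ3 hb0 t
    exact hle (Subgroup.mem_top M)
  set ad := scaleHom μ with hadDef
  have hconj : ∀ M : SL(2, E), C3 * φ M * C3⁻¹ = φ (ad M) := by
    intro M
    have hle : (⊤ : Subgroup SL(2, E)) ≤ ((MulAut.conj C3).toMonoidHom.comp φ).eqLocus (φ.comp ad) := by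
      rw [← ChevSL2.closure_img E, Subgroup.closure_le]
      rintro _ ⟨b, t, rfl⟩
      show C3 * φ _ * C3⁻¹ = φ (ad _)
      have e := scaleHom_img μ b t
      rw [hφ, e, hφ]
      cases b
      · simpa [ChevSL2.rootPair] using (hμs t).2
      · simpa [ChevSL2.rootPair] using (hμs t).1
    exact hle (Subgroup.mem_top M)
  obtain ⟨N, hWN⟩ := lang_matrix_eq σ3 μ hdet ea eb ec ed
  set W : SL(2, E) := SteinbergTwo.wWord (fun b t => SteinbergTwo.img E (b, t)) true (s : E)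
  have hφW : φ W = elN D E b0 (s : E) := by
    simp [W, SteinbergTwo.wWord, map_mul, hφ, ChevSL2.rootPair, elN]
  set h0 := φ N with hh0def
  set h1 := glMap D σ' (C * h0 * C⁻¹) with hh1def
  set h2 := glMap D σ' (C * h1 * C⁻¹) with hh2def
  have m0 : h0 ∈ pairSub D E b0 := hφmem N
  have m1 : h1 ∈ pairSub D E b1 := glMap_pairSub hc σ' hb1 (s0.conj_mem m0)
  have m2 : h2 ∈ pairSub D E b2 := glMap_pairSub hc σ' hb2 (s1.conj_mem m1)
  set R := glMap D σ h0 * (C * h2 * C⁻¹)⁻¹ with hRdef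
  have hR2 : glMap D σ (glMap D σ R) = elN D E b0 (s : E) := by
    have e : glMap D σ (glMap D σ (C * h2 * C⁻¹)) = C3 * h0 * C3⁻¹ := by
      simp only [hh2def, hh1def, map_mul, map_inv, hσσ', hC3def]; group
    rw [hRdef, map_mul, map_mul, map_inv, map_inv, e, ← hgl3, hnat, hWN, map_mul, hconj, mul_inv_cancel_right, hφW]
  have hR : R = elN D E b0 (σ' (σ' (s : E))) := by
    have hmap : ∀ t : E, glMap D σ' (elN D E b0 t) = elN D E b0 (σ' t) := fun t => by
      simp only [elN, map_mul, glMap_elX hc σ' hb0, glMap_elX hc σ' (neg_lt hc hb0), map_neg, map_inv₀]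
    rw [← hσ'σ R, ← hσ'σ (glMap D σ R), hR2, hmap, hmap]
  set h := h0 * h1 * h2
  have hh : glMap D σ h * C * h⁻¹ = R * C := by
    have c0 : Commute (C * h2 * C⁻¹)⁻¹ (glMap D σ h1) :=
      h01 _ (inv_mem (s2.conj_mem m2)) _ (glMap_pairSub hc σ hb1 m1)
    have c1 : Commute (C * h2 * C⁻¹)⁻¹ (glMap D σ h2) :=
      h02 _ (inv_mem (s2.conj_mem m2)) _ (glMap_pairSub hc σ hb2 m2)
    have d1 : glMap D σ h1 = C * h0 * C⁻¹ := hσσ' _
    have d2 : glMap D σ h2 = C * h1 * C⁻¹ := hσσ' _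
    rw [show h = h0 * h1 * h2 from rfl]
    calc glMap D σ (h0 * h1 * h2) * C * (h0 * h1 * h2)⁻¹
        = glMap D σ h0 * (glMap D σ h1 * glMap D σ h2) * (C * h2 * C⁻¹)⁻¹ *
            ((C * h1 * C⁻¹)⁻¹ * (C * h0 * C⁻¹)⁻¹) * C := by rw [map_mul, map_mul]; group
      _ = glMap D σ h0 * ((C * h2 * C⁻¹)⁻¹ * (glMap D σ h1 * glMap D σ h2)) *
            ((C * h1 * C⁻¹)⁻¹ * (C * h0 * C⁻¹)⁻¹) * C := by
          rw [(c0.mul_right c1).eq]; group
      _ = R * C := by rw [← d1, ← d2, hRdef]; group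
  have hsub : h ∈ D.group E := mul_mem (mul_mem (pairSub_le_group hc hb0 m0) (pairSub_le_group hc hb1 m1))
    (pairSub_le_group hc hb2 m2)
  have hmon : R * C ∈ D.monomialSubgroup E := by
    refine mul_mem ?_ (mul_mem (diagonal_le_monomial hc ((mem_diagonal hc).2 ⟨a, rfl⟩)) (nProd_mem_monomial hc L))
    rw [hR]
    exact elN_mem_monomial_unit hc hb0 (Units.map σ'.toMonoidHom (Units.map σ'.toMonoidHom s))
  obtain ⟨h', hh', L₂, eL₂⟩ := monomial_cases hc hmon
  obtain ⟨a₂, rfl⟩ := (mem_diagonal hc).1 hh'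
  refine ⟨h * g, mul_mem hsub hg, L₂, a₂, Units.map σ'.toMonoidHom (Units.map σ'.toMonoidHom s), ?_, ?_⟩
  · rw [← eL₂, ← hh, map_mul, ← hL]; group
  · rw [← eL₂, hR]; rfl

end

end CfsgLib.ChevCent
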