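import Cfsg.Agent.Lib.ChevCent.E6Torus
import Cfsg.Agent.Lib.ChevCent.E7Weyl
import Cfsg.Agent.Lib.ChevCent.FlipTorus
import Cfsg.Agent.Lib.Steinberg.Short

/-!
# The twisted torus of E6 seen in E7, and its twist by a reflection
-/

set_option autoImplicit false
set_option linter.unusedSectionVars false

namespace CfsgLib.ChevCent.E7

open Cfsg.Lie CfsgLib.Chev CfsgLib.ChevField Polynomial
open scoped Matrix

/-- a symmetric character squares to the character at the symmetrised vector -/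
theorem chi_sq_symm {E : Type*} [Field E] {c : Fin chevE6.rank → Eˣ} (hc : ∀ j, c (E6.tNode j) = c j)
    (w : Fin chevE6.rank → ℤ) : chi c w ^ 2 = chi c fun i => w i + w (E6.tNode i) := by
  rw [show (fun i => w i + w (E6.tNode i)) = w + fun i => w (E6.tNode i) from rfl, chi_add, sq]
  congr 1
  let e : Equiv.Perm (Fin chevE6.rank) := Function.Involutive.toPerm E6.tNode tNode_invol
  show ∏ j, c j ^ w j = ∏ j, c j ^ w (E6.tNode j)
  rw [← Equiv.prod_comp e fun j => c j ^ w j]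
  exact Finset.prod_congr rfl fun j _ => by
    show c (E6.tNode j) ^ w (E6.tNode j) = _
    rw [hc]

theorem refls_last (L : List (Fin chevE6.rank)) (v : Fin chevE7.rank → ℤ) :
    refls chevE7 (L.map (upNode rank_le)) v ⟨6, by decide⟩ = v ⟨6, by decide⟩ := by
  induction L with
  | nil => rfl
  | cons i L ih =>
    show Chev.refl chevE7 (upNode rank_le i) (refls chevE7 (L.map (upNode rank_le)) v) _ = _
    have hne : (⟨6, by decide⟩ : Fin chevE7.rank) ≠ upNode rank_le i := fun e => by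
      have h := congrArg (fun z : Fin chevE7.rank => z.val) e
      have hi : i.val < 6 := i.2
      change 6 = i.val at h
      omega
    simp only [Chev.refl, Pi.sub_apply, Pi.single_eq_of_ne hne, sub_zero]
    exact ih

/-- the twisted torus of E6 inside E7 with its three orthogonal killed roots -/
theorem lift_data {F E : Type*} [Field F] [Fintype F] [Field E] [Fintype E] (ι : F →+* E) (σ : E →+* E)
    (hσι : ∀ a, σ (ι a) = ι a) {q : ℕ} (hF : Fintype.card F = q) (hσ : ∀ a, σ a = a ^ q)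
    (hE : Fintype.card E = q ^ (12 * 2)) {r : ℕ} [Fact r.Prime] (hrΦ : r ∣ q ^ 4 - q ^ 2 + 1) (hr13 : 13 ≤ r)
    (hord : orderOf (q : ZMod r) = 12) (hrq : ¬ r ∣ q) :
    ∃ g ∈ chevE7.group E, ∃ (L : List (Fin chevE7.rank)) (a x : Fin chevE7.rank → Eˣ) (k1 k2 : Fin 3),
      glMap chevE7 σ g * g⁻¹ = torus chevE7 E7.tabs E (hPar chevE7 E a) * nProd chevE7 E L ∧
      x ^ r = 1 ∧ torus chevE7 E7.tabs E x ∈ chevE7.diagonalSubgroup E ∧ reflChars L x = x ^ q ∧
      (∀ k, chi x (rv chevE7 E7.tabs (zRoot k).val) = 1) ∧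
      (∀ s : Fin chevE7.nroots, chi x (rv chevE7 E7.tabs s.val) = 1 → ∃ k, zRoot k = s ∨ zNeg k = s) ∧
      ((k1 = 1 ∧ k2 = 2) ∨ (k1 = 2 ∧ k2 = 1)) ∧
      sigs chevE7 E7.tabs L (zRoot 0).val = (zRoot k1).val ∧
      sigs chevE7 E7.tabs L (zRoot k1).val = (zRoot k2).val ∧
      sigs chevE7 E7.tabs L (zRoot k2).val = (zRoot 0).val := by
  classical
  have hc6 : Checked chevE6 E6.tabs := E6.checked
  have hc7 : Checked chevE7 E7.tabs := E7.checked
  have hr := (Fact.out : r.Prime)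
  obtain ⟨g6, hg6, L6, a6, x6, hxr, -, hreg, hxn, hLx, hL6, hcp⟩ :=
    E6.twist_data ι σ hσι hF hσ (e := 2) hE hrΦ hr13 hord hrq
  have S6 : Steinberg.Setup chevE6 E6.tabs := ⟨hc6, Twisted.E6.comm_one, Steinberg.hasWitE6⟩
  have S7 : Steinberg.Setup chevE7 E7.tabs :=
    ⟨hc7, commOne_of_commCheck E7.checked E7.comm_ok E7.short_ok, Steinberg.hasWitE7⟩
  obtain ⟨g, hg, a', hform⟩ := exists_lift_twist S6 S7 Steinberg.shortE6 Steinberg.shortE7 Steinberg.embOkE6 σ hg6 hL6
  have hxt : ∀ j, x6 (E6.tNode j) = x6 j := fun j => by rw [tNode_eq]; exact hxn j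
  -- the twisted parameter of the simply connected torus
  obtain ⟨e3, -, he3⟩ := Nat.exists_mul_mod_eq_one_of_coprime (n := 3) (k := r)
    ((Nat.coprime_primes Nat.prime_three hr).2 (by omega)) hr.one_lt
  set Nadj : Fin chevE6.rank → Fin chevE6.rank → ℤ := (![![4, 3, 5, 6, 4, 2], ![3, 6, 6, 9, 6, 3],
    ![5, 6, 10, 12, 8, 4], ![6, 9, 12, 18, 12, 6], ![4, 6, 8, 12, 10, 5], ![2, 3, 4, 6, 5, 4]] : Fin 6 → Fin 6 → ℤ)
    with hNadj
  set c : Fin chevE6.rank → Eˣ := fun i => ∏ k, (x6 k ^ e3) ^ Nadj k i with hcdef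
  have hcx : hPar chevE6 E c = x6 := by
    rw [hcdef, hPar_pow_of_adj hc6 (χ := fun k => x6 k ^ e3) E6.adj_ok]
    funext k
    show (x6 k ^ e3) ^ 3 = x6 k
    rw [← pow_mul, mul_comm, pow_eq_pow_mod _ (congrFun hxr k), he3, pow_one]
  have hcr : c ^ r = 1 := by
    funext i
    rw [Pi.pow_apply, hcdef, ← Finset.prod_pow, Pi.one_apply]
    exact Finset.prod_eq_one fun k _ => by
      rw [← zpow_natCast, ← zpow_mul, mul_comm, zpow_mul, zpow_natCast, ← pow_mul, mul_comm, pow_mul,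
        show x6 k ^ r = 1 from congrFun hxr k, one_pow, one_zpow]
  have hct : ∀ j, c (E6.tNode j) = c j := by
    intro i
    let e : Equiv.Perm (Fin chevE6.rank) := Function.Involutive.toPerm E6.tNode tNode_invol
    show ∏ k, (x6 k ^ e3) ^ Nadj k (E6.tNode i) = ∏ k, (x6 k ^ e3) ^ Nadj k i
    rw [← Equiv.prod_comp e fun k => (x6 k ^ e3) ^ Nadj k (E6.tNode i)]
    exact Finset.prod_congr rfl fun k _ => by
      show (x6 (E6.tNode k) ^ e3) ^ Nadj (E6.tNode k) (E6.tNode i) = _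
      rw [hxt, hNadj, adjE6_symm]
  have hctw : ∀ w, chi c (wRefls chevE6 L6.reverse w) = chi c w ^ q := by
    intro w
    set u : Fin chevE6.rank → ℤ := fun k => ∑ j, Nadj k j * w j
    have hu : cmMat chevE6 *ᵥ u = (3 : ℤ) • w := by
      have hadj : (cmMat chevE6) * Matrix.of Nadj = (3 : ℤ) • (1 : Matrix (Fin chevE6.rank) (Fin chevE6.rank) ℤ) := by
        rw [hNadj]; decide +kernel
      show cmMat chevE6 *ᵥ (Matrix.of Nadj *ᵥ w) = _
      rw [Matrix.mulVec_mulVec, hadj, Matrix.smul_mulVec, Matrix.one_mulVec]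
    have h3 : chi c (wRefls chevE6 L6.reverse ((3 : ℤ) • w)) = chi c ((3 : ℤ) • w) ^ q := by
      rw [← hu, wRefls_cmMat, chi_cmMat, chi_cmMat, hcx, ← chi_reflChars hc6, hLx, chi_pow']
    rw [← wMat_mulVec, Matrix.mulVec_smul, wMat_mulVec, chi_smul, chi_smul, ← zpow_natCast (chi c w ^ (3 : ℤ)),
      ← zpow_mul, mul_comm, zpow_mul, zpow_natCast] at h3
    refine mul_inv_eq_one.1 (eq_of_pow_coprime (n := 3) (m := r) ?_ ?_ ?_)
    · have h3' : (3 : ℤ) = ((3 : ℕ) : ℤ) := rfl
      rw [h3', zpow_natCast, zpow_natCast] at h3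
      rw [mul_pow, inv_pow, h3, mul_inv_cancel]
    · have hz : ∀ w, chi c w ^ r = 1 := fun w => by rw [← chi_pow', hcr, chi_one]
      rw [mul_pow, inv_pow, ← pow_mul, mul_comm q, pow_mul, hz, hz, one_pow, inv_one, mul_one]
    · exact (Nat.coprime_primes Nat.prime_three hr).2 (by omega)
  set x := upPar rank_le E c with hxdef
  have hchix : ∀ v, chi x v = chi c (resC rank_le v) := fun v => chi_upPar rank_le c v
  have hkill : ∀ k, chi x (rv chevE7 E7.tabs (zRoot k).val) = 1 := by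
    intro k
    rw [hchix]
    refine eq_of_pow_coprime (n := 2) (m := r) ?_ (by rw [← chi_pow', hcr, chi_one])
      ((Nat.coprime_primes Nat.prime_two hr).2 (by omega))
    rw [chi_sq_symm hct, show (fun i => resC rank_le (rv chevE7 E7.tabs (zRoot k).val) i +
      resC rank_le (rv chevE7 E7.tabs (zRoot k).val) (E6.tNode i)) = 0 from funext (zRoot_antisym k), chi_zero]
  have honly : ∀ s : Fin chevE7.nroots, chi x (rv chevE7 E7.tabs s.val) = 1 → ∃ k, zRoot k = s ∨ zNeg k = s := by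
    intro s hs
    rcases not_zRoot s with ⟨k, hk⟩ | ⟨k, hk⟩ | ⟨s', hs'⟩
    · exact ⟨k, Or.inl hk⟩
    · exact ⟨k, Or.inr hk⟩
    exfalso
    have h1 := chi_sq_symm hct (resC rank_le (rv chevE7 E7.tabs s.val))
    rw [← hchix, hs, one_pow, show (fun i => resC rank_le (rv chevE7 E7.tabs s.val) i +
        resC rank_le (rv chevE7 E7.tabs s.val) (E6.tNode i)) = cmMat chevE6 *ᵥ
          fun j => rv chevE6 E6.tabs s'.val j + rv chevE6 E6.tabs s'.val (E6.tNode j) from funext hs',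
      chi_cmMat, hcx, ← chi_sq_symm hxt] at h1
    refine hreg s'.val s'.2 (eq_of_pow_coprime h1.symm (by rw [← chi_pow', hxr, chi_one])
      ((Nat.coprime_primes Nat.prime_two hr).2 (by omega)))
  set L := L6.map (upNode rank_le) with hLdef
  have hres : ∀ (K : List (Fin chevE6.rank)) {s : ℕ}, s < chevE7.nroots →
      resC rank_le (rv chevE7 E7.tabs (sigs chevE7 E7.tabs (K.map (upNode rank_le)) s)) =
        wRefls chevE6 K (resC rank_le (rv chevE7 E7.tabs s)) := fun K s hs => by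
    rw [rv_sigs hc7 _ hs, resC_refls rank_le E6.up_cartan]
  have hrefl : reflChars L x = x ^ q := by
    refine chi_ext fun v => ?_
    rw [chi_reflChars hc7, hLdef, ← List.map_reverse, hchix, resC_refls rank_le E6.up_cartan, hctw, chi_pow', hchix]
  have hcoq : Nat.Coprime q r := (hr.coprime_iff_not_dvd.2 hrq).symm
  have hmap : ∀ k : Fin 3, ∃ k' : Fin 3, sigs chevE7 E7.tabs L (zRoot k).val = (zRoot k').val := by
    intro k
    have hs := sigs_lt hc7 L (zRoot k).2
    have h1 : chi x (rv chevE7 E7.tabs (sigs chevE7 E7.tabs L (zRoot k).val)) ^ q = 1 := by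
      rw [← chi_pow', ← hrefl, chi_reflChars hc7, rv_sigs hc7 L (zRoot k).2]
      have e : refls chevE7 L.reverse (refls chevE7 L (rv chevE7 E7.tabs (zRoot k).val)) =
          rv chevE7 E7.tabs (zRoot k).val := by
        rw [← rv_sigs hc7 L (zRoot k).2, ← rv_sigs hc7 _ (sigs_lt hc7 L (zRoot k).2), sigs_reverse hc7 L (zRoot k).2]
      rw [e, hkill]
    have h2 : chi x (rv chevE7 E7.tabs (sigs chevE7 E7.tabs L (zRoot k).val)) = 1 := by
      refine eq_of_pow_coprime h1 ?_ hcoq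
      rw [← chi_pow', hxdef, ← map_pow, hcr, map_one, chi_one]
    obtain ⟨k', hk' | hk'⟩ := honly ⟨_, hs⟩ h2
    · exact ⟨k', congrArg Fin.val hk'.symm⟩
    · exfalso
      have h6 : rv chevE7 E7.tabs (sigs chevE7 E7.tabs L (zRoot k).val) ⟨6, by decide⟩ = -1 := by
        rw [show sigs chevE7 E7.tabs L (zRoot k).val = (zNeg k').val from (congrArg Fin.val hk').symm]
        exact zNeg_last k'
      rw [rv_sigs hc7 L (zRoot k).2, hLdef, refls_last, zRoot_last] at h6
      norm_num at h6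
  choose f hf using hmap
  have hdet1 : (Matrix.scalar (Fin chevE6.rank) (1 : ℤ) - wMat chevE6 L6.reverse).det ≠ 0 := by
    rw [← Matrix.eval_charpoly,
      charpoly_of_intertwine (det_cmMat_ne_zero (by norm_num) E6.adj_ok).1 (wMat_intertwine hc6 L6.reverse), hcp,
      eval_mul, cyclotomic_twelve_eq, cyclotomic_three]
    simp
  have hfix : ∀ k, f k ≠ k := by
    intro k e
    have h1 := hf k
    rw [e] at h1
    have h2 : sigs chevE7 E7.tabs L.reverse (zRoot k).val = (zRoot k).val := by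
      conv_lhs => rw [← h1]
      exact sigs_reverse hc7 L (zRoot k).2
    rw [hLdef, ← List.map_reverse] at h2
    have h3 := hres L6.reverse (zRoot k).2
    rw [h2, ← wMat_mulVec] at h3
    refine hdet1 (Matrix.exists_mulVec_eq_zero_iff.1 ⟨_, zRoot_weight k, ?_⟩)
    rw [Matrix.sub_mulVec, map_one, Matrix.one_mulVec, ← h3, sub_self]
  have hinj : Function.Injective f := by
    intro k k' e
    have h1 : sigs chevE7 E7.tabs L (zRoot k).val = sigs chevE7 E7.tabs L (zRoot k').val := by rw [hf, hf, e]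
    have h2 := congrArg (sigs chevE7 E7.tabs L.reverse) h1
    rw [sigs_reverse hc7 L (zRoot k).2, sigs_reverse hc7 L (zRoot k').2] at h2
    exact (by decide +kernel : ∀ a b : Fin 3, (zRoot a).val = (zRoot b).val → a = b) k k' h2
  obtain ⟨hor, h0⟩ := derangement f hinj hfix
  refine ⟨g, hg, L, fun l => if h : l.val < chevE6.rank then a' ⟨l.val, h⟩ else 1, x, f 0, f (f 0), ?_, ?_,
    (mem_diagonal hc7).2 ⟨_, by rw [← upPar_eq_hPar rank_le c, hxdef]⟩, hrefl, hkill, honly, hor, hf 0, hf _, ?_⟩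
  · rw [hform, ← upPar_eq_hPar rank_le a']
  · rw [hxdef, ← map_pow, hcr, map_one]
  · rw [hf, h0]

/-- the commuting root pairs -/
theorem pair_commute {E : Type*} [Field E] {a b : Fin 3} (hab : a ≠ b) :
    ∀ x ∈ pairSub chevE7 E (zRoot a).val, ∀ y ∈ pairSub chevE7 E (zRoot b).val, Commute x y := by
  have hc7 : Checked chevE7 E7.tabs := E7.checked
  have hcomm : CommOne chevE7 E7.tabs := commOne_of_commCheck E7.checked E7.comm_ok E7.short_ok
  have key : ∀ r ∈ [(zRoot a).val, (zNeg a).val], ∀ s ∈ [(zRoot b).val, (zNeg b).val], ∀ t u : E,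
      Commute (elX chevE7 E r t) (elX chevE7 E s u) := by
    intro r hr s hs t u
    obtain ⟨h1, h2, h3⟩ := orth a b hab r hr s hs
    have hr' : r < chevE7.nroots := by
      simp only [List.mem_cons, List.not_mem_nil, or_false] at hr
      rcases hr with rfl | rfl
      · exact (zRoot a).2
      · exact (zNeg a).2
    have hs' : s < chevE7.nroots := by
      simp only [List.mem_cons, List.not_mem_nil, or_false] at hs
      rcases hs with rfl | rfl
      · exact (zRoot b).2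
      · exact (zNeg b).2
    have h := elX_comm hc7 hcomm hr' hs' h1 h2 t u
    rw [show chevE7.commWord E r s t u = [] by rw [ChevalleyDatum.commWord, h3]; rfl,
      show wordGL chevE7 E [] = 1 from rfl, mul_one] at h
    exact h.symm
  intro x hx y hy
  have hle : pairSub chevE7 E (zRoot a).val ≤
      Subgroup.centralizer (pairSub chevE7 E (zRoot b).val : Set (GL chevE7.Idx E)) := by
    rw [pairSub, Subgroup.closure_le]
    intro r hr
    rw [SetLike.mem_coe, Subgroup.mem_centralizer_iff]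
    intro s hs
    have hle2 : pairSub chevE7 E (zRoot b).val ≤ Subgroup.centralizer {r} := by
      rw [pairSub, Subgroup.closure_le]
      rintro s ⟨u, hu⟩
      rw [SetLike.mem_coe, Subgroup.mem_centralizer_singleton_iff]
      obtain ⟨t, ht⟩ := hr
      rw [← zNeg_eq] at ht hu
      rcases ht with rfl | rfl <;> rcases hu with rfl | rfl
      all_goals exact (key _ (by simp) _ (by simp) t u).symm
    exact (Subgroup.mem_centralizer_singleton_iff.1 (hle2 hs))
  exact ((Subgroup.mem_centralizer_iff.1 (hle hx)) y hy).symm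

/-- the twist by a reflection -/
theorem flip_data {F E : Type*} [Field F] [Fintype F] [Field E] [Fintype E] (ι : F →+* E) (σ : E →+* E)
    (hσι : ∀ a, σ (ι a) = ι a) {q : ℕ} (hF : Fintype.card F = q) (hσ : ∀ a, σ a = a ^ q)
    (hE : Fintype.card E = q ^ (12 * 2)) {r : ℕ} [Fact r.Prime] (hrΦ : r ∣ q ^ 4 - q ^ 2 + 1) (hr13 : 13 ≤ r)
    (hord : orderOf (q : ZMod r) = 12) (hrq : ¬ r ∣ q) :
    ∃ g ∈ chevE7.group E, ∃ (L : List (Fin chevE7.rank)) (a x : Fin chevE7.rank → Eˣ) (k1 k2 : Fin 3),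
      glMap chevE7 σ g * g⁻¹ = torus chevE7 E7.tabs E (hPar chevE7 E a) * nProd chevE7 E L ∧
      x ^ r = 1 ∧ reflChars L x = x ^ q ∧
      (∀ k, chi x (rv chevE7 E7.tabs (zRoot k).val) = 1) ∧
      (∀ s : Fin chevE7.nroots, chi x (rv chevE7 E7.tabs s.val) = 1 → ∃ k, zRoot k = s ∨ zNeg k = s) ∧
      FlipImage (permMat E7.checked (permOf E7.checked L.reverse)) k1 k2 := by
  classical
  have hc7 : Checked chevE7 E7.tabs := E7.checked
  have hcomm : CommOne chevE7 E7.tabs := commOne_of_commCheck E7.checked E7.comm_ok E7.short_ok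
  have hq : 2 ≤ q := hF ▸ Fintype.one_lt_card
  obtain ⟨g, hg, L, a, x, k1, k2, hL, hxr, hxd, hrefl, hkill, honly, hor, e1, e2, e3⟩ :=
    lift_data ι σ hσι hF hσ hE hrΦ hr13 hord hrq
  have h01 : (0 : Fin 3) ≠ k1 := by rcases hor with ⟨rfl, rfl⟩ | ⟨rfl, rfl⟩ <;> decide
  have h02 : (0 : Fin 3) ≠ k2 := by rcases hor with ⟨rfl, rfl⟩ | ⟨rfl, rfl⟩ <;> decide
  have h12 : k1 ≠ k2 := by rcases hor with ⟨rfl, rfl⟩ | ⟨rfl, rfl⟩ <;> decide
  obtain ⟨g₂, hg₂, L₂, a₂, s, hL₂, hform⟩ := exists_flip hc7 hcomm hq hE σ hσ hg hL (zRoot 0).2 e1 e2 e3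
    (pair_commute h01) (pair_commute h02) (pair_commute h12)
  set C := torus chevE7 E7.tabs E (hPar chevE7 E a) * nProd chevE7 E L with hC
  set C₂ := torus chevE7 E7.tabs E (hPar chevE7 E a₂) * nProd chevE7 E L₂ with hC₂
  set n := elN chevE7 E (zRoot 0).val (s : E) with hn
  have hnP : n ∈ pairSub chevE7 E (zRoot 0).val := by
    rw [hn, elN]
    exact mul_mem (mul_mem (Subgroup.subset_closure ⟨_, Or.inl rfl⟩) (Subgroup.subset_closure ⟨_, Or.inr rfl⟩))
      (Subgroup.subset_closure ⟨_, Or.inl rfl⟩)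
  -- images of the three roots
  have himg : ∀ {b b' : ℕ} (hb : b < chevE7.nroots) (hb' : b' < chevE7.nroots) (u : E), u ≠ 0 →
      C₂ * elX chevE7 E b 1 * C₂⁻¹ = elX chevE7 E b' u → sigs chevE7 E7.tabs L₂ b = b' := by
    intro b b' hb hb' u hu he
    obtain ⟨k, hk⟩ := scales_form hc7 L₂ (hPar chevE7 E a₂) hb
    exact (elX_root_unique hc7 hb' (sigs_lt hc7 L₂ hb) hu (he.symm.trans (hk 1).1)).symm
  have hcom : ∀ {k : Fin 3} (u : E), k ≠ 0 →
      n * elX chevE7 E (zRoot k).val u * n⁻¹ = elX chevE7 E (zRoot k).val u := by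
    intro k u hk
    rw [(pair_commute (Ne.symm hk) n hnP _ (Subgroup.subset_closure ⟨u, Or.inl rfl⟩)).eq, mul_inv_cancel_right]
  have hstep : ∀ b : ℕ, ∀ t : E, C₂ * elX chevE7 E b t * C₂⁻¹ = n * (C * elX chevE7 E b t * C⁻¹) * n⁻¹ := by
    intro b t; rw [hform]; group
  have E1 : sigs chevE7 E7.tabs L₂ (zRoot 0).val = (zRoot k1).val := by
    obtain ⟨k, hk⟩ := scales_form hc7 L (hPar chevE7 E a) (zRoot 0).2
    rw [e1] at hk
    exact himg (zRoot 0).2 (zRoot k1).2 _ (mul_ne_zero k.ne_zero one_ne_zero)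
      (by rw [hstep, (hk 1).1, hcom _ h01.symm])
  have E2 : sigs chevE7 E7.tabs L₂ (zRoot k1).val = (zRoot k2).val := by
    obtain ⟨k, hk⟩ := scales_form hc7 L (hPar chevE7 E a) (zRoot k1).2
    rw [e2] at hk
    exact himg (zRoot k1).2 (zRoot k2).2 _ (mul_ne_zero k.ne_zero one_ne_zero)
      (by rw [hstep, (hk 1).1, hcom _ h02.symm])
  have E3 : sigs chevE7 E7.tabs L₂ (zRoot k2).val = (zNeg 0).val := by
    obtain ⟨k, hk⟩ := scales_form hc7 L (hPar chevE7 E a) (zRoot k2).2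
    rw [e3] at hk
    refine himg (zRoot k2).2 (zNeg 0).2 (-((s : E)⁻¹ ^ 2 * ((k : E) * 1))) ?_ ?_
    · exact neg_ne_zero.2 (mul_ne_zero (pow_ne_zero _ (inv_ne_zero s.ne_zero)) (mul_ne_zero k.ne_zero one_ne_zero))
    · rw [hstep, (hk 1).1, hn, ChevSL2.elN_conj_elX_self hc7 (zRoot 0).2, zNeg_eq]
  -- the twisted element is fixed
  have hrefl₂ : reflChars L₂ x = x ^ q := by
    refine torus_injective hc7 ?_
    rw [← twist_form_conj hc7 (L := L₂) (a := a₂), ← hC₂, hform]
    have h1 : C * torus chevE7 E7.tabs E x * C⁻¹ = torus chevE7 E7.tabs E (x ^ q) := by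
      rw [hC, twist_form_conj hc7, hrefl]
    set t := torus chevE7 E7.tabs E (x ^ q)
    have hcen : pairSub chevE7 E (zRoot 0).val ≤ Subgroup.centralizer {t} := by
      rw [pairSub, Subgroup.closure_le]
      rintro _ ⟨u, rfl | rfl⟩ <;> rw [SetLike.mem_coe, Subgroup.mem_centralizer_singleton_iff]
      · have := torus_conj_elX hc7 (x ^ q) (zRoot 0).2 u
        rw [chi_pow', hkill, one_pow, Units.val_one, one_mul] at this
        exact (mul_inv_eq_iff_eq_mul.1 this).symm
      · rw [← zNeg_eq]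
        have := torus_conj_elX hc7 (x ^ q) (zNeg 0).2 u
        rw [show rv chevE7 E7.tabs (zNeg 0).val = -rv chevE7 E7.tabs (zRoot 0).val by
          rw [zNeg_eq, rv_neg hc7 (zRoot 0).2], chi_neg, chi_pow', hkill, one_pow, inv_one, Units.val_one,
          one_mul] at this
        exact (mul_inv_eq_iff_eq_mul.1 this).symm
    rw [show n * C * torus chevE7 E7.tabs E x * (n * C)⁻¹ = n * (C * torus chevE7 E7.tabs E x * C⁻¹) * n⁻¹ by group,
      h1, Subgroup.mem_centralizer_singleton_iff.1 (hcen hnP), mul_inv_cancel_right]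
  refine ⟨g₂, hg₂, L₂, a₂, x, k1, k2, hL₂, hxr, hrefl₂, hkill, honly, hor, ?_, ?_, ?_⟩
  · funext j
    rw [show (fun j => emMat j k1) = rv chevE7 E7.tabs (zRoot k1).val from funext fun j => (emMat_col k1 j).1,
      permMat_mulVec hc7 ⟨_, rfl⟩ (zRoot k1)]
    show rv chevE7 E7.tabs (sigs chevE7 E7.tabs L₂.reverse (zRoot k1).val) j = _
    rw [← E1, sigs_reverse hc7 L₂ (zRoot 0).2, ← (emMat_col 0 j).1]
  · funext j
    rw [show (fun j => emMat j k2) = rv chevE7 E7.tabs (zRoot k2).val from funext fun j => (emMat_col k2 j).1,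
      permMat_mulVec hc7 ⟨_, rfl⟩ (zRoot k2)]
    show rv chevE7 E7.tabs (sigs chevE7 E7.tabs L₂.reverse (zRoot k2).val) j = _
    rw [← E2, sigs_reverse hc7 L₂ (zRoot k1).2, ← (emMat_col k1 j).1]
  · have h0 : (fun j => emMat j 0) = -rv chevE7 E7.tabs (zNeg 0).val :=
      funext fun j => by rw [Pi.neg_apply, (emMat_col 0 j).2, neg_neg]
    rw [h0, Matrix.mulVec_neg, permMat_mulVec hc7 ⟨_, rfl⟩ (zNeg 0)]
    congr 1
    funext j
    show rv chevE7 E7.tabs (sigs chevE7 E7.tabs L₂.reverse (zNeg 0).val) j = _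
    rw [← E3, sigs_reverse hc7 L₂ (zRoot k2).2, ← (emMat_col k2 j).1]

end CfsgLib.ChevCent.E7
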