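import Cfsg.Agent.Lib.ChevCent.FlipTorus
import Cfsg.Agent.Lib.Linear.Simple

/-!
# The rank one subgroups of a root pair in characteristic two

Naturality of the map from SL(2), injectivity, and torus elements centralising a root pair.
-/

set_option autoImplicit false
set_option linter.unusedSectionVars false

namespace CfsgLib.ChevCent.RootPairHom

open Cfsg.Lie CfsgLib.Chev CfsgLib.ChevField
open scoped MatrixGroups

variable {D : ChevalleyDatum} {T : Tabs} {E : Type*} [Field E]

/-- a map from SL(2) onto the group of a root pair, normalised on the two root subgroups -/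
def IsPairHom (D : ChevalleyDatum) (b : ℕ) (φ : SL(2, E) →* GL D.Idx E) : Prop :=
  ∀ (c : Bool) (t : E), φ (SteinbergTwo.img E (c, t)) = ChevSL2.rootPair D E b c t

/-- the trace is unchanged by scaling -/
theorem trace_scaleHom (μ : Eˣ) (M : SL(2, E)) :
    ((scaleHom μ M : SL(2, E)) : Matrix (Fin 2) (Fin 2) E).trace = (M : Matrix (Fin 2) (Fin 2) E).trace := by
  rw [coe_scaleHom, Matrix.trace_fin_two_of, Matrix.trace_fin_two]

/-- the centre of SL(2) is trivial in characteristic two -/
theorem eq_one_of_mem_center [CharP E 2] {N : SL(2, E)} (h : N ∈ Subgroup.center SL(2, E)) : N = 1 := by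
  obtain ⟨r, hr, hrM⟩ := Matrix.SpecialLinearGroup.mem_center_iff.1 h
  rw [Fintype.card_fin] at hr
  have hr1 : r = 1 := by
    rw [show r ^ 2 = r * r from sq r] at hr
    exact (mul_self_eq_one_iff.1 hr).elim id fun h' => by rw [h', CharTwo.neg_eq]
  exact Subtype.ext (by rw [← hrM, hr1, map_one]; rfl)

section
variable {b b' : ℕ} {φ φ' : SL(2, E) →* GL D.Idx E}

theorem le_range (h : IsPairHom D b φ) : pairSub D E b ≤ φ.range := by
  rw [pairSub, Subgroup.closure_le]
  rintro x ⟨t, rfl | rfl⟩
  · exact ⟨_, h true t⟩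
  · exact ⟨_, h false t⟩

theorem mem_pairSub (h : IsPairHom D b φ) (M : SL(2, E)) : φ M ∈ pairSub D E b := by
  have hle : (⊤ : Subgroup SL(2, E)) ≤ (pairSub D E b).comap φ := by
    rw [← ChevSL2.closure_img E, Subgroup.closure_le]
    rintro _ ⟨c, t, rfl⟩
    rw [SetLike.mem_coe, Subgroup.mem_comap, h]
    cases c
    · exact Subgroup.subset_closure ⟨t, Or.inr rfl⟩
    · exact Subgroup.subset_closure ⟨t, Or.inl rfl⟩
  exact hle (Subgroup.mem_top M)

theorem range_eq (h : IsPairHom D b φ) : φ.range = pairSub D E b :=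
  le_antisymm (by rintro _ ⟨M, rfl⟩; exact mem_pairSub h M) (le_range h)

variable (hc : Checked D T)
include hc

theorem exists_pairHom (hb : b < D.nroots) : ∃ φ : SL(2, E) →* GL D.Idx E, IsPairHom D b φ := by
  obtain ⟨φ, -, hφ⟩ := ChevSL2.exists_hom hc (F := E) hb
  exact ⟨φ, hφ⟩

theorem natural (h : IsPairHom D b φ) (hb : b < D.nroots) (f : E →+* E) (M : SL(2, E)) :
    glMap D f (φ M) = φ (Matrix.SpecialLinearGroup.map f M) := by
  have hle : (⊤ : Subgroup SL(2, E)) ≤
      ((glMap D f).comp φ).eqLocus (φ.comp (Matrix.SpecialLinearGroup.map f)) := by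
    rw [← ChevSL2.closure_img E, Subgroup.closure_le]
    rintro _ ⟨c, t, rfl⟩
    show glMap D f (φ _) = φ (Matrix.SpecialLinearGroup.map f _)
    rw [h, map_img, h]
    cases c
    · exact glMap_elX hc f (neg_lt hc hb) t
    · exact glMap_elX hc f hb t
  exact hle (Subgroup.mem_top M)

theorem conj_scales (h : IsPairHom D b φ) (h' : IsPairHom D b' φ') {C : GL D.Idx E} {μ : Eˣ}
    (hs : Scales D C b b' μ) (M : SL(2, E)) : C * φ M * C⁻¹ = φ' (scaleHom μ M) := by
  have hle : (⊤ : Subgroup SL(2, E)) ≤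
      ((MulAut.conj C).toMonoidHom.comp φ).eqLocus (φ'.comp (scaleHom μ)) := by
    rw [← ChevSL2.closure_img E, Subgroup.closure_le]
    rintro _ ⟨c, t, rfl⟩
    show C * φ _ * C⁻¹ = φ' (scaleHom μ _)
    rw [h, scaleHom_img, h']
    cases c
    · simpa [ChevSL2.rootPair] using (hs t).2
    · simpa [ChevSL2.rootPair] using (hs t).1
  exact hle (Subgroup.mem_top M)

/-- only the identity of SL(2) maps to the centraliser of the root pair -/
theorem eq_one_of_comm [Fintype E] [CharP E 2] (h4 : 4 ≤ Nat.card E) (h : IsPairHom D b φ) (hb : b < D.nroots)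
    {N : SL(2, E)} (hN : ∀ M : SL(2, E), φ (N * M * N⁻¹) = φ M) : N = 1 := by
  have hker : φ.ker ≤ Subgroup.center SL(2, E) := by
    refine (Linear.SL_normal_le_center_or_eq_top (Or.inr (Linear.exists_sq_ne_one_of_four_le_card h4))
      φ.ker).resolve_right fun htop => ?_
    have h1 : φ (SteinbergTwo.img E (true, 1)) = 1 := MonoidHom.mem_ker.1 (htop ▸ Subgroup.mem_top _)
    rw [h] at h1
    exact one_ne_zero ((elX_eq_one_iff hc hb (1 : E)).1 h1)
  refine eq_one_of_mem_center (Subgroup.mem_center_iff.2 fun M => ?_)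
  have h2 : N * M * N⁻¹ * M⁻¹ = 1 := eq_one_of_mem_center (hker (MonoidHom.mem_ker.2 (by
    rw [map_mul, hN, map_inv, mul_inv_cancel])))
  rw [mul_inv_eq_one, mul_inv_eq_iff_eq_mul] at h2
  exact h2.symm

/-- a torus element trivial on a root centralises its root pair -/
theorem torus_comm (hb : b < D.nroots) {χ : Fin D.rank → Eˣ} (hχ : chi χ (rv D T b) = 1) {m : GL D.Idx E}
    (hm : m ∈ pairSub D E b) : torus D T E χ * m = m * torus D T E χ := by
  have hle : pairSub D E b ≤ Subgroup.centralizer {torus D T E χ} := by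
    rw [pairSub, Subgroup.closure_le]
    rintro _ ⟨u, rfl | rfl⟩ <;> rw [SetLike.mem_coe, Subgroup.mem_centralizer_singleton_iff]
    · have := torus_conj_elX hc χ hb u
      rw [hχ, Units.val_one, one_mul] at this
      exact (mul_inv_eq_iff_eq_mul.1 this).symm
    · have := torus_conj_elX hc χ (neg_lt hc hb) u
      rw [rv_neg hc hb, chi_neg, hχ, inv_one, Units.val_one, one_mul] at this
      exact (mul_inv_eq_iff_eq_mul.1 this).symm
  exact (Subgroup.mem_centralizer_singleton_iff.1 (hle hm)).symm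

/-- the torus normalises the group of a root pair -/
theorem torus_normalises (hb : b < D.nroots) (χ : Fin D.rank → Eˣ) {m : GL D.Idx E} (hm : m ∈ pairSub D E b) :
    torus D T E χ * m * (torus D T E χ)⁻¹ ∈ pairSub D E b := by
  have hle : pairSub D E b ≤ (pairSub D E b).comap (MulAut.conj (torus D T E χ)).toMonoidHom := by
    rw [pairSub, Subgroup.closure_le]
    rintro _ ⟨u, rfl | rfl⟩ <;> show _ * _ * _⁻¹ ∈ pairSub D E b
    · rw [torus_conj_elX hc χ hb]; exact Subgroup.subset_closure ⟨_, Or.inl rfl⟩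
    · rw [torus_conj_elX hc χ (neg_lt hc hb)]; exact Subgroup.subset_closure ⟨_, Or.inr rfl⟩
  exact hle hm

/-- the image of a diagonal matrix -/
theorem map_hWord (h : IsPairHom D b φ) (hb : b < D.nroots) (s : Eˣ) :
    φ (SteinbergTwo.hWord (fun c t => SteinbergTwo.img E (c, t)) (s : E)) = torus D T E (corChar D T b s) := by
  rw [← ChevSL2.hWord_rootPair hc hb s]
  simp only [SteinbergTwo.hWord, SteinbergTwo.wWord, map_mul, h _ _]

end

end CfsgLib.ChevCent.RootPairHom
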