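import Cfsg.Agent.Lib.ChevCent.E7Torus
import Cfsg.Agent.Lib.ChevCent.RootPairHom
import Cfsg.Agent.Lib.Chev.OrderCases

/-!
# E7(2) has no element of order 65

An element of order five commuting with an element of order thirteen is moved over the field with `2 ^ 24`
elements into the product of a torus and three rank one groups; the Frobenius map turns the three factors
cyclically, so the traces there satisfy `τ ^ 8 = τ`, which forces the factors to be trivial.
-/

set_option autoImplicit false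
set_option linter.unusedSectionVars false

namespace CfsgLib.ChevCent.E7

open Cfsg.Lie CfsgLib.Chev CfsgLib.ChevField Polynomial
open scoped Matrix MatrixGroups

/-- the three root pairs -/
def tripleSub (E : Type*) [Field E] : Subgroup (GL chevE7.Idx E) := ⨆ k, pairSub chevE7 E (zRoot k).val

/-- the characteristic polynomial of the quotient block -/
theorem charpoly_quot {A : Matrix (Fin chevE7.rank) (Fin chevE7.rank) ℤ} (hPE : pMat * A * emMat = 0)
    {n : ℕ} (hAn : A ^ n = 1) {E : Type*} [Field E] {r q : ℕ} [Fact r.Prime] (hrn : ¬ r ∣ n)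
    (hord : orderOf (q : ZMod r) = 12) {x : Fin chevE7.rank → Eˣ} (hxr : x ^ r = 1) {v₀ : Fin chevE7.rank → ℤ}
    (hv₀ : chi x v₀ ≠ 1) (hk : ∀ k : Fin 3, chi x (fun j => emMat j k) = 1)
    (hx : ∀ v, chi x (A *ᵥ v) = chi x v ^ q) :
    (pMat * A * gMat).charpoly = cyclotomic 12 ℤ := by
  refine charpoly_eq_cyclotomic (N := n) (r := r) (q := (q : ℤ)) ?_ hrn (by rw [Int.cast_natCast, hord])
    (by rw [Fintype.card_fin]; decide) fun p hp => ?_
  · have h1 := aeval_pMat hPE (X ^ n)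
    rw [aeval_X_pow, aeval_X_pow, hAn, Matrix.mul_one] at h1
    have h2 := congrArg (· * gMat) h1
    simp only [Matrix.mul_assoc, pMat_gMat, Matrix.mul_one] at h2
    rw [Matrix.mul_assoc]
    exact h2.symm
  · have h1 := chi_aeval hx p v₀
    have h2 : aeval A p *ᵥ v₀ = emMat *ᵥ (qMat *ᵥ (aeval A p *ᵥ v₀)) := by
      have h3 : pMat *ᵥ (aeval A p *ᵥ v₀) = 0 := by
        rw [Matrix.mulVec_mulVec, aeval_pMat hPE, hp, Matrix.zero_mul, Matrix.zero_mulVec]
      calc aeval A p *ᵥ v₀ = (gMat * pMat + emMat * qMat) *ᵥ (aeval A p *ᵥ v₀) := by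
            rw [sections, Matrix.one_mulVec]
        _ = _ := by rw [Matrix.add_mulVec, ← Matrix.mulVec_mulVec, ← Matrix.mulVec_mulVec, h3,
            Matrix.mulVec_zero, zero_add]
    rw [h2, chi_emMat hk] at h1
    rw [ZMod.intCast_zmod_eq_zero_iff_dvd]
    have h4 : orderOf (chi x v₀) = r := orderOf_eq_prime (by rw [← chi_pow', hxr, chi_one]) hv₀
    rw [← h4]
    exact orderOf_dvd_iff_zpow_eq_one.2 h1.symm

/-- the centraliser of a torus element killing exactly the three root pairs -/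
theorem exists_torus_mul_triple {E : Type*} [Field E] [Fintype E] {r : ℕ} [Fact r.Prime]
    (hW : ¬ r ∣ Nat.card ↥(weylGrp E7.checked)) {x : Fin chevE7.rank → Eˣ} (hxr : x ^ r = 1)
    (hxd : torus chevE7 E7.tabs E x ∈ chevE7.diagonalSubgroup E)
    (hkill : ∀ k, chi x (rv chevE7 E7.tabs (zRoot k).val) = 1)
    (honly : ∀ s : Fin chevE7.nroots, chi x (rv chevE7 E7.tabs s.val) = 1 → ∃ k, zRoot k = s ∨ zNeg k = s)
    {z : GL chevE7.Idx E} (hz : z ∈ chevE7.group E)
    (hcz : z * torus chevE7 E7.tabs E x * z⁻¹ = torus chevE7 E7.tabs E x) :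
    ∃ χ : Fin chevE7.rank → Eˣ, ∃ m ∈ tripleSub E, z = torus chevE7 E7.tabs E χ * m := by
  classical
  have hc : Checked chevE7 E7.tabs := E7.checked
  have hcomm : CommOne chevE7 E7.tabs := commOne_of_commCheck E7.checked E7.comm_ok E7.short_ok
  obtain ⟨L, u, h, v, hu, hh, hv, e⟩ := ChevField.exists_bruhat hc hcomm hz
  set tx := torus chevE7 E7.tabs E x with htx
  set n := nProd chevE7 E L with hn
  set tw := torus chevE7 E7.tabs E (reflChars L x) with htw
  have hcon : n * tx * n⁻¹ = tw := nProd_conj_torus hc L x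
  have hdw : tw ∈ chevE7.diagonalSubgroup E := hcon ▸ nProd_conj_diagonal hc L hxd
  have h2 : u * h * n * v * tx = tx * (u * h * n * v) := by
    rw [← e]
    calc z * tx = z * tx * z⁻¹ * z := by group
      _ = tx * z := by rw [hcz]
  have h1 : u * (h * tw) * n * (tx⁻¹ * v * tx) = tx * u * tx⁻¹ * (tx * h) * n * v := by
    calc u * (h * tw) * n * (tx⁻¹ * v * tx) = u * h * n * v * tx := by rw [← hcon]; group
      _ = _ := by rw [h2]; group
  obtain ⟨e1, e2, e3⟩ := ChevField.bruhat_unique hc hcomm hu (diag_conj_mem hc _ hxd hu) (mul_mem hh hdw)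
    (mul_mem hxd hh) (diag_conj_mem' hc _ hxd hv) hv h1
  obtain ⟨c, rfl⟩ := (mem_diagonal hc).1 hh
  have hLx : reflChars L x = x := by
    refine torus_injective hc (mul_left_cancel (a := torus chevE7 E7.tabs E (hPar chevE7 E c)) ?_)
    rw [e2, htx, ← map_mul, ← map_mul, mul_comm]
  -- the unipotent parts
  have hle : uGen chevE7 E (fun s => ∀ a ∈ ({x} : Set (Fin chevE7.rank → Eˣ)), chi a (rv chevE7 E7.tabs s) = 1) ≤
      tripleSub E := by
    refine uGen_le_iff.2 fun s hs hP t => ?_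
    obtain ⟨k, hk | hk⟩ := honly ⟨s, hs⟩ (hP x rfl)
    · have hs' : (zRoot k).val = s := congrArg Fin.val hk
      subst hs'
      exact le_iSup (fun k => pairSub chevE7 E (zRoot k).val) k (Subgroup.subset_closure ⟨t, Or.inl rfl⟩)
    · have hs' : (zNeg k).val = s := congrArg Fin.val hk
      subst hs'
      exact le_iSup (fun k => pairSub chevE7 E (zRoot k).val) k
        (Subgroup.subset_closure ⟨t, Or.inr (by rw [← zNeg_eq])⟩)
  have hu' : u ∈ tripleSub E := hle (supp_of_commute hc hcomm _ hu (by rintro _ rfl; exact e1.symm))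
  have hv' : v ∈ tripleSub E := hle (supp_of_commute hc hcomm _ (uGen_mono (fun s _ hs => hs.1) hv) (by
    rintro _ rfl
    calc tx * v * tx⁻¹ = tx * (tx⁻¹ * v * tx) * tx⁻¹ := by rw [e3]
      _ = v := by group))
  -- the Weyl part turns the six roots among themselves
  have himg : ∀ k : Fin 3, ∃ k' : Fin 3, sigs chevE7 E7.tabs L (zRoot k).val = (zRoot k').val ∨
      sigs chevE7 E7.tabs L (zRoot k).val = (zNeg k').val := by
    intro k
    have h0 : chi x (rv chevE7 E7.tabs (sigs chevE7 E7.tabs L (zRoot k).val)) = 1 := by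
      rw [← hLx, chi_reflChars hc, ← rv_sigs hc _ (sigs_lt hc L (zRoot k).2), sigs_reverse hc L (zRoot k).2]
      exact hkill k
    obtain ⟨k', hk' | hk'⟩ := honly ⟨_, sigs_lt hc L (zRoot k).2⟩ h0
    · exact ⟨k', Or.inl (congrArg Fin.val hk').symm⟩
    · exact ⟨k', Or.inr (congrArg Fin.val hk').symm⟩
  choose f hf using himg
  let neg' : Fin 3 → Prop := fun k' => ∃ k, sigs chevE7 E7.tabs L (zRoot k).val = (zNeg k').val
  let ee : Fin 3 → GL chevE7.Idx E := fun k' => if neg' k' then elN chevE7 E (zNeg k').val ((1 : Eˣ) : E) else 1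
  have hmemee : ∀ k, ee k ∈ pairSub chevE7 E (zRoot k).val := by
    intro k
    by_cases hk : neg' k
    · simp only [ee, if_pos hk, elN]
      have hp : ∀ t, elX chevE7 E (zNeg k).val t ∈ pairSub chevE7 E (zRoot k).val := fun t =>
        Subgroup.subset_closure ⟨t, Or.inr (by rw [← zNeg_eq])⟩
      have hq : ∀ t, elX chevE7 E (chevE7.neg (zNeg k).val) t ∈ pairSub chevE7 E (zRoot k).val := fun t =>
        Subgroup.subset_closure ⟨t, Or.inl (by rw [zNeg_eq, neg_neg_root hc (zRoot k).2])⟩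
      exact mul_mem (mul_mem (hp _) (hq _)) (hp _)
    · simp only [ee, if_neg hk]; exact one_mem _
  set ε := ee 0 * ee 1 * ee 2 with hε
  have hεm : ε ∈ tripleSub E :=
    mul_mem (mul_mem (le_iSup (fun k => pairSub chevE7 E (zRoot k).val) 0 (hmemee 0))
      (le_iSup (fun k => pairSub chevE7 E (zRoot k).val) 1 (hmemee 1)))
      (le_iSup (fun k => pairSub chevE7 E (zRoot k).val) 2 (hmemee 2))
  have hεw : ∀ k, ∀ w ∈ pairSub chevE7 E (zRoot k).val, ε * w * ε⁻¹ = ee k * w * (ee k)⁻¹ := by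
    intro k w hw
    have hcm : ∀ j, j ≠ k → ∀ y ∈ pairSub chevE7 E (zRoot k).val, ee j * y * (ee j)⁻¹ = y := fun j hj y hy => by
      rw [(pair_commute hj _ (hmemee j) _ hy).eq, mul_inv_cancel_right]
    have hmid : ee k * w * (ee k)⁻¹ ∈ pairSub chevE7 E (zRoot k).val :=
      mul_mem (mul_mem (hmemee k) hw) (inv_mem (hmemee k))
    rw [hε, show ee 0 * ee 1 * ee 2 * w * (ee 0 * ee 1 * ee 2)⁻¹ =
      ee 0 * (ee 1 * (ee 2 * w * (ee 2)⁻¹) * (ee 1)⁻¹) * (ee 0)⁻¹ by group]
    fin_cases k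
    · simp only [Fin.zero_eta, Fin.isValue] at hw hcm hmid ⊢
      rw [hcm 2 (by decide) w hw, hcm 1 (by decide) w hw]
    · simp only [Fin.mk_one, Fin.isValue] at hw hcm hmid ⊢
      rw [hcm 2 (by decide) w hw, hcm 0 (by decide) _ hmid]
    · simp only [Fin.reduceFinMk, Fin.isValue] at hw hcm hmid ⊢
      rw [hcm 1 (by decide) _ hmid, hcm 0 (by decide) _ hmid]
  have hεmon : ε ∈ chevE7.monomialSubgroup E := by
    have hk : ∀ k, ee k ∈ chevE7.monomialSubgroup E := fun k => by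
      by_cases hk : neg' k
      · simp only [ee, if_pos hk]; exact elN_mem_monomial_unit hc (zNeg k).2 1
      · simp only [ee, if_neg hk]; exact one_mem _
    exact mul_mem (mul_mem (hk 0) (hk 1)) (hk 2)
  obtain ⟨h', hh', L', eL'⟩ := monomial_cases hc (mul_mem hεmon (nProd_mem_monomial hc (F := E) L))
  obtain ⟨c', rfl⟩ := (mem_diagonal hc).1 hh'
  -- the new Weyl part fixes the positive ones
  have hpos : ∀ k, sigs chevE7 E7.tabs L' (zRoot k).val = (zRoot (f k)).val := by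
    intro k
    obtain ⟨κ, hκ⟩ := scales_form hc L' (hPar chevE7 E c') (zRoot k).2
    obtain ⟨cc, -, hcc⟩ := nProd_conj_elX hc (F := E) L (zRoot k).2
    have hL1 : ε * n * elX chevE7 E (zRoot k).val 1 * (ε * n)⁻¹ =
        ε * elX chevE7 E (sigs chevE7 E7.tabs L (zRoot k).val) ((cc : E) * 1) * ε⁻¹ := by
      rw [← hcc 1, hn]; group
    have hL2 : ∃ w : E, w ≠ 0 ∧ ε * n * elX chevE7 E (zRoot k).val 1 * (ε * n)⁻¹ =
        elX chevE7 E (zRoot (f k)).val w := by
      have hc1 : (cc : E) * 1 ≠ 0 := mul_ne_zero cc.ne_zero one_ne_zero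
      rcases hf k with h | h
      · refine ⟨_, hc1, ?_⟩
        rw [hL1, h, hεw (f k) _ (Subgroup.subset_closure ⟨_, Or.inl rfl⟩)]
        have hnn : ¬ neg' (f k) := by
          rintro ⟨j, hj⟩
          have hj' : sigs chevE7 E7.tabs L (chevE7.neg (zRoot j).val) = (zRoot (f k)).val := by
            rw [sigs_neg hc L (zRoot j).2, hj, zNeg_eq, neg_neg_root hc (zRoot _).2]
          have := sigs_injOn hc L (neg_lt hc (zRoot j).2) (zRoot k).2 (hj'.trans h.symm)
          rw [← zNeg_eq] at this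
          exact (by decide +kernel : ∀ a b : Fin 3, (zNeg a).val ≠ (zRoot b).val) j k this
        simp [ee, hnn]
      · refine ⟨-((((1 : Eˣ) : E))⁻¹ ^ 2 * ((cc : E) * 1)), neg_ne_zero.2 (mul_ne_zero (by simp) hc1), ?_⟩
        rw [hL1, h, hεw (f k) _ (Subgroup.subset_closure ⟨_, Or.inr (by rw [← zNeg_eq])⟩)]
        have hy : neg' (f k) := ⟨k, h⟩
        simp only [ee, if_pos hy]
        rw [ChevSL2.elN_conj_elX_self hc (zNeg (f k)).2 (1 : Eˣ), zNeg_eq, neg_neg_root hc (zRoot _).2]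
    obtain ⟨w, hw, hw'⟩ := hL2
    rw [hn, eL'] at hw'
    exact (elX_root_unique hc (zRoot (f k)).2 (sigs_lt hc L' (zRoot k).2) hw (hw'.symm.trans (hκ 1).1)).symm
  have hL'x : reflChars L' x = x := by
    refine torus_injective hc ?_
    rw [← twist_form_conj hc (L := L') (a := c'), ← eL']
    have hεx : ε * tx = tx * ε := by
      have hcen : tripleSub E ≤ Subgroup.centralizer {tx} := iSup_le fun k m hm =>
        Subgroup.mem_centralizer_singleton_iff.2 (RootPairHom.torus_comm hc (zRoot k).2 (hkill k) hm).symm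
      exact Subgroup.mem_centralizer_singleton_iff.1 (hcen hεm)
    calc ε * nProd chevE7 E L * tx * (ε * nProd chevE7 E L)⁻¹ = ε * (n * tx * n⁻¹) * ε⁻¹ := by rw [hn]; group
      _ = ε * tx * ε⁻¹ := by rw [hcon, htw, hLx]
      _ = tx := by rw [hεx, mul_inv_cancel_right]
  set π := permOf hc L'.reverse with hπdef
  have hπ : π ∈ weylGrp hc := ⟨_, rfl⟩
  have hπx : permAct hc π x = x := by rw [hπdef, permAct_permOf, List.reverse_reverse, hL'x]
  have hπz : ∀ k, π⁻¹ (zRoot k) = zRoot (f k) := by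
    intro k
    rw [Equiv.Perm.inv_def, Equiv.symm_apply_eq]
    refine Fin.ext ?_
    show _ = sigs chevE7 E7.tabs L'.reverse (zRoot (f k)).val
    rw [← hpos k, sigs_reverse hc L' (zRoot k).2]
  have horb : ∀ p ∈ Subgroup.zpowers π, ∀ k, ∃ j, p (zRoot k) = zRoot j := by
    intro p hp
    rw [← Subgroup.zpowers_inv, ← mem_powers_iff_mem_zpowers] at hp
    obtain ⟨i, rfl⟩ := hp
    induction i with
    | zero => exact fun k => ⟨k, by simp⟩
    | succ i ih =>
      intro k
      obtain ⟨j, hj⟩ := ih (f k)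
      refine ⟨j, ?_⟩
      show (π⁻¹ ^ (i + 1)) (zRoot k) = _
      rw [pow_succ, Equiv.Perm.mul_apply, hπz]
      exact hj
  have hsum : ∀ k, (sumMat hc (Subgroup.zpowers π) *ᵥ rv chevE7 E7.tabs (zRoot k).val) ⟨6, by decide⟩ ≠ 0 := by
    intro k
    rw [sumMat, Matrix.sum_mulVec, Finset.sum_apply, Finset.sum_eq_card_nsmul (b := (1 : ℤ)) (fun p _ => by
      rw [permMat_mulVec hc (Subgroup.zpowers_le.2 hπ p.2)]
      obtain ⟨j, hj⟩ := horb _ p.2 k
      rw [hj]
      exact zRoot_last j)]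
    rw [nsmul_eq_mul, mul_one]
    exact Nat.cast_ne_zero.2 (Finset.card_ne_zero.2 (Finset.univ_nonempty (α := ↥(Subgroup.zpowers π))))
  have hπ1 : π = 1 := by
    refine eq_one_of_sum_ne hc hπ fun s => ?_
    by_cases hs : chi x (rv chevE7 E7.tabs s.val) = 1
    · obtain ⟨k, rfl | rfl⟩ := honly s hs
      · exact fun h0 => hsum k (by rw [h0]; rfl)
      · intro h0
        refine hsum k ?_
        rw [show rv chevE7 E7.tabs (zNeg k).val = -rv chevE7 E7.tabs (zRoot k).val by
          rw [zNeg_eq, rv_neg hc (zRoot k).2], Matrix.mulVec_neg, neg_eq_zero] at h0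
        rw [h0]; rfl
    · exact sum_ne_of_chi hc hπ hπx hxr hW hs
  have hsig : ∀ s, s < chevE7.nroots → sigs chevE7 E7.tabs L' s = s := by
    intro s hs
    have h4 := congrArg (fun p : Equiv.Perm (Fin chevE7.nroots) =>
      (p ⟨sigs chevE7 E7.tabs L' s, sigs_lt hc L' hs⟩).val) hπ1
    simp only [Equiv.Perm.coe_one, id_eq] at h4
    rw [← h4]
    exact sigs_reverse hc L' hs
  obtain ⟨c'', hc''⟩ := (mem_diagonal hc).1 (nProd_mem_of_pos hc (F := E) L' fun i => by
    rw [hsig _ (simple_lt hc i.2)]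
    exact half_le_simple hc i.2)
  -- collect
  set χ := hPar chevE7 E c * (hPar chevE7 E c' * hPar chevE7 E c'') with hχ
  have hnorm : ∀ (χ' : Fin chevE7.rank → Eˣ), ∀ m ∈ tripleSub E,
      torus chevE7 E7.tabs E χ' * m * (torus chevE7 E7.tabs E χ')⁻¹ ∈ tripleSub E := fun χ' m hm => by
    have hle' : tripleSub E ≤ (tripleSub E).comap (MulAut.conj (torus chevE7 E7.tabs E χ')).toMonoidHom :=
      iSup_le fun k y hy => le_iSup (fun k => pairSub chevE7 E (zRoot k).val) k
        (RootPairHom.torus_normalises hc (zRoot k).2 χ' hy)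
    exact hle' hm
  have hnε : n = ε⁻¹ * (torus chevE7 E7.tabs E (hPar chevE7 E c' * hPar chevE7 E c'')) := by
    rw [map_mul, hc'', ← eL', hn, inv_mul_cancel_left]
  set t1 := torus chevE7 E7.tabs E (hPar chevE7 E c) with ht1
  set t2 := torus chevE7 E7.tabs E (hPar chevE7 E c' * hPar chevE7 E c'') with ht2
  refine ⟨χ, (t1 * t2)⁻¹ * u * (t1 * t2) * (t2⁻¹ * ε⁻¹ * t2) * v, mul_mem (mul_mem ?_ ?_) hv', ?_⟩
  · have h5 := hnorm χ⁻¹ u hu'
    rwa [map_inv, inv_inv, hχ, map_mul, ← ht1, ← ht2] at h5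
  · have h5 := hnorm (hPar chevE7 E c' * hPar chevE7 E c'')⁻¹ ε⁻¹ (inv_mem hεm)
    rwa [map_inv, inv_inv, ← ht2] at h5
  · rw [e, hnε, hχ, map_mul, ← ht1, ← ht2]; group

/-- the coroots of the three roots -/
theorem cor_val : ∀ j k : Fin 3, (∑ i : Fin chevE7.rank,
    cv E7.tabs (zRoot j).val i * chevE7.cartan i (zRoot k).val) = if j = k then 2 else 0 := by
  decide +kernel

/-- an element of SL(2) of order dividing five whose trace lies in the field with eight elements is trivial -/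
theorem eq_one_of_pow_five {E : Type*} [Field E] [CharP E 2] {N : SL(2, E)} (h5 : N ^ 5 = 1)
    (h8 : (N : Matrix (Fin 2) (Fin 2) E).trace ^ 8 = (N : Matrix (Fin 2) (Fin 2) E).trace) : N = 1 := by
  set M := (N : Matrix (Fin 2) (Fin 2) E) with hM
  set τ := M.trace with hτdef
  have hdet : M.det = 1 := N.2
  have hsq : M * M = τ • M + (1 : E) • (1 : Matrix (Fin 2) (Fin 2) E) := by
    rw [Matrix.det_fin_two] at hdet
    refine Matrix.ext fun i j => ?_
    rw [hτdef]
    fin_cases i <;> fin_cases j <;>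
      simp [Matrix.mul_apply, Fin.sum_univ_two, Matrix.trace_fin_two] <;>
      first
        | ring1
        | linear_combination -hdet - CharTwo.two_eq_zero (R := E)
  have hstep : ∀ a b : E, (a • M + b • (1 : Matrix (Fin 2) (Fin 2) E)) * M =
      (a * τ + b) • M + a • (1 : Matrix (Fin 2) (Fin 2) E) := fun a b => by
    rw [add_mul, smul_mul_assoc, smul_mul_assoc, one_mul, hsq, smul_add, smul_smul, smul_smul, mul_one, add_smul]
    abel
  have h5' : M ^ 5 = 1 := by rw [hM, ← Matrix.SpecialLinearGroup.coe_pow, h5]; rfl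
  rw [pow_succ, pow_succ, pow_succ, pow_succ, pow_one, hsq, hstep, hstep, hstep] at h5'
  by_contra hne
  have hnscal : ∀ c : E, M ≠ c • (1 : Matrix (Fin 2) (Fin 2) E) := fun c hc => by
    rw [hc, Matrix.det_smul, Fintype.card_fin, Matrix.det_one, mul_one, show c ^ 2 = c * c from sq c] at hdet
    have hc1 : c = 1 := (mul_self_eq_one_iff.1 hdet).elim id fun h' => by rw [h', CharTwo.neg_eq]
    exact hne (Subtype.ext (by rw [← hM, hc, hc1, one_smul]; rfl))
  set a := ((τ * τ + 1) * τ + τ) * τ + (τ * τ + 1) with ha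
  set b := (τ * τ + 1) * τ + τ with hb
  have h6 : a • M = (1 - b) • (1 : Matrix (Fin 2) (Fin 2) E) := by
    rw [sub_smul, one_smul, eq_sub_iff_add_eq]
    exact h5'
  have ha0 : a = 0 := by
    by_contra h0
    refine hnscal (a⁻¹ * (1 - b)) ?_
    rw [← smul_smul, ← h6, smul_smul, inv_mul_cancel₀ h0, one_smul]
  have h2 : (2 : E) = 0 := CharTwo.two_eq_zero
  have hq : τ ^ 2 + τ + 1 = 0 := by
    refine sq_eq_zero_iff.1 ?_
    linear_combination ha0 + (τ ^ 3 + τ) * h2
  refine one_ne_zero (α := E) ?_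
  linear_combination hq - h8 + τ ^ 2 * (τ - 1) * (τ ^ 3 + 1) * hq - τ * h2

/-- an element of order five commuting with the element of order thirteen is trivial -/
theorem eq_one_of_twisted {E : Type*} [Field E] [Fintype E] [CharP E 2] (h4 : 4 ≤ Nat.card E) (σ : E →+* E)
    (hσ : ∀ a, σ a = a ^ 2) {r : ℕ} [Fact r.Prime] (hr5 : r ≠ 5)
    (hW : ¬ r ∣ Nat.card ↥(weylGrp E7.checked)) (hord : orderOf ((2 : ℕ) : ZMod r) = 12)
    (hΦ : ((cyclotomic 12 ℤ).eval ((2 : ℕ) : ℤ)) = (r : ℤ))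
    {L : List (Fin chevE7.rank)} {a x : Fin chevE7.rank → Eˣ} (hxr : x ^ r = 1)
    (hxd : torus chevE7 E7.tabs E x ∈ chevE7.diagonalSubgroup E) (hrefl : reflChars L x = x ^ 2)
    {v₀ : Fin chevE7.rank → ℤ} (hv₀ : chi x v₀ ≠ 1)
    (hkill : ∀ k, chi x (rv chevE7 E7.tabs (zRoot k).val) = 1)
    (honly : ∀ s : Fin chevE7.nroots, chi x (rv chevE7 E7.tabs s.val) = 1 → ∃ k, zRoot k = s ∨ zNeg k = s)
    (f : Fin 3 → Fin 3) (hf : ∀ k, sigs chevE7 E7.tabs L (zRoot k).val = (zRoot (f k)).val)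
    (hf3 : ∀ k, f (f (f k)) = k)
    {z : GL chevE7.Idx E} (hz : z ∈ chevE7.group E) (hz5 : z ^ 5 = 1)
    (hcz : z * torus chevE7 E7.tabs E x * z⁻¹ = torus chevE7 E7.tabs E x)
    (hσz : glMap chevE7 σ z = (torus chevE7 E7.tabs E (hPar chevE7 E a) * nProd chevE7 E L) * z *
      (torus chevE7 E7.tabs E (hPar chevE7 E a) * nProd chevE7 E L)⁻¹) : z = 1 := by
  classical
  have hc : Checked chevE7 E7.tabs := E7.checked
  choose φ hφ using fun k => RootPairHom.exists_pairHom hc (E := E) (zRoot k).2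
  have hcm : Pairwise fun i j => ∀ M N : SL(2, E), Commute (φ i M) (φ j N) := fun i j hij M N =>
    pair_commute hij _ (RootPairHom.mem_pairSub (hφ i) M) _ (RootPairHom.mem_pairSub (hφ j) N)
  set Φ : (Fin 3 → SL(2, E)) →* GL chevE7.Idx E := MonoidHom.noncommPiCoprod φ hcm with hΦdef
  have hΦs : ∀ k M, Φ (Pi.mulSingle k M) = φ k M := fun k M => by
    rw [hΦdef]; exact MonoidHom.noncommPiCoprod_mulSingle φ k M
  have hrange : Φ.range = tripleSub E := by
    rw [hΦdef, MonoidHom.noncommPiCoprod_range, tripleSub]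
    exact iSup_congr fun k => RootPairHom.range_eq (hφ k)
  have hprod : ∀ N : Fin 3 → SL(2, E),
      N = Pi.mulSingle 0 (N 0) * Pi.mulSingle 1 (N 1) * Pi.mulSingle 2 (N 2) := fun N => by
    funext k
    fin_cases k <;> simp
  have hΦ3 : ∀ N, Φ N = φ 0 (N 0) * φ 1 (N 1) * φ 2 (N 2) := fun N => by
    conv_lhs => rw [hprod N, map_mul, map_mul, hΦs, hΦs, hΦs]
  have hcent : ∀ χ : Fin chevE7.rank → Eˣ, (∀ k, chi χ (rv chevE7 E7.tabs (zRoot k).val) = 1) → ∀ N,
      Commute (torus chevE7 E7.tabs E χ) (Φ N) := fun χ hχ N => by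
    have hle : tripleSub E ≤ Subgroup.centralizer {torus chevE7 E7.tabs E χ} := iSup_le fun k m hm =>
      Subgroup.mem_centralizer_singleton_iff.2 (RootPairHom.torus_comm hc (zRoot k).2 (hχ k) hm).symm
    exact (Subgroup.mem_centralizer_singleton_iff.1 (hle (hrange ▸ ⟨N, rfl⟩))).symm
  -- the decomposition into the two factors is unique
  have huniq : ∀ (χ χ' : Fin chevE7.rank → Eˣ) (N N' : Fin 3 → SL(2, E)),
      (∀ k, chi χ (rv chevE7 E7.tabs (zRoot k).val) = 1) → (∀ k, chi χ' (rv chevE7 E7.tabs (zRoot k).val) = 1) →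
      torus chevE7 E7.tabs E χ * Φ N = torus chevE7 E7.tabs E χ' * Φ N' → χ = χ' ∧ N = N' := by
    intro χ χ' N N' hχ hχ' he
    have hd : Φ (N' * N⁻¹) = torus chevE7 E7.tabs E (χ'⁻¹ * χ) := by
      rw [map_mul, map_mul, map_inv, map_inv,
        show Φ N' = (torus chevE7 E7.tabs E χ')⁻¹ * (torus chevE7 E7.tabs E χ * Φ N) by rw [he, inv_mul_cancel_left]]
      group
    have hk : ∀ k, chi (χ'⁻¹ * χ) (rv chevE7 E7.tabs (zRoot k).val) = 1 := fun k => by
      have h1 := chi_mul χ'⁻¹ χ' (rv chevE7 E7.tabs (zRoot k).val)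
      rw [inv_mul_cancel, chi_one, hχ', mul_one] at h1
      rw [chi_mul, hχ, mul_one, ← h1]
    have hone : N' * N⁻¹ = 1 := funext fun j =>
      RootPairHom.eq_one_of_comm hc h4 (hφ j) (zRoot j).2 fun M => by
        have h1 : (N' * N⁻¹) * Pi.mulSingle j M * (N' * N⁻¹)⁻¹ =
            Pi.mulSingle j ((N' * N⁻¹) j * M * ((N' * N⁻¹) j)⁻¹) := by
          funext i
          rcases eq_or_ne i j with rfl | hij
          · simp
          · simp [hij]
        have h2 := congrArg Φ h1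
        rw [map_mul, map_mul, map_inv, hd, (hcent _ hk _).eq, mul_inv_cancel_right, hΦs, hΦs] at h2
        exact h2.symm
    have hN : N = N' := (mul_inv_eq_one.1 hone).symm
    subst hN
    exact ⟨torus_injective hc (mul_right_cancel he), rfl⟩
  -- split z
  obtain ⟨χ₁, m, hm, hzm⟩ := exists_torus_mul_triple hW hxr hxd hkill honly hz hcz
  obtain ⟨N₁, rfl⟩ : m ∈ Φ.range := hrange.symm ▸ hm
  have hsqrt : ∀ k, ∃ s : Eˣ, s ^ 2 = chi χ₁ (rv chevE7 E7.tabs (zRoot k).val) := fun k => by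
    obtain ⟨s, hs⟩ := FiniteField.isSquare_of_char_two (ringChar.eq E 2)
      ((chi χ₁ (rv chevE7 E7.tabs (zRoot k).val) : Eˣ) : E)
    have hs0 : s ≠ 0 := fun h => Units.ne_zero _ (by rw [hs, h, mul_zero])
    exact ⟨Units.mk0 s hs0, Units.ext (by simp [hs, sq])⟩
  choose s hs using hsqrt
  set P := corChar chevE7 E7.tabs (zRoot 0).val (s 0) * corChar chevE7 E7.tabs (zRoot 1).val (s 1) *
    corChar chevE7 E7.tabs (zRoot 2).val (s 2) with hP
  set Dg : Fin 3 → SL(2, E) := fun k =>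
    SteinbergTwo.hWord (fun c t => SteinbergTwo.img E (c, t)) (s k : E) with hDg
  have hΦD : Φ Dg = torus chevE7 E7.tabs E P := by
    rw [hΦ3, hP, map_mul, map_mul, RootPairHom.map_hWord hc (hφ 0) (zRoot 0).2,
      RootPairHom.map_hWord hc (hφ 1) (zRoot 1).2, RootPairHom.map_hWord hc (hφ 2) (zRoot 2).2]
  set χ := χ₁ * P⁻¹ with hχdef
  set N := Dg * N₁ with hNdef
  have hzN : z = torus chevE7 E7.tabs E χ * Φ N := by
    rw [hzm, hNdef, map_mul Φ, hΦD, hχdef, map_mul, map_inv]; group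
  have hcor : ∀ j k, chi (corChar chevE7 E7.tabs (zRoot j).val (s j)) (rv chevE7 E7.tabs (zRoot k).val) =
      if j = k then s j ^ 2 else 1 := fun j k => by
    rw [chi_corChar hc (zRoot k).2, cor_val]
    split_ifs with h
    · exact zpow_natCast (s j) 2
    · exact zpow_zero _
  have hχk : ∀ k, chi χ (rv chevE7 E7.tabs (zRoot k).val) = 1 := by
    intro k
    have h1 : chi P (rv chevE7 E7.tabs (zRoot k).val) = s k ^ 2 := by
      rw [hP, chi_mul, chi_mul, hcor, hcor, hcor]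
      fin_cases k <;> simp
    have h2 := chi_mul χ P (rv chevE7 E7.tabs (zRoot k).val)
    rw [hχdef, inv_mul_cancel_right, h1, hs, ← hχdef] at h2
    exact mul_right_cancel (h2.symm.trans (one_mul _).symm)
  -- fifth powers
  obtain ⟨hχ5, hN5⟩ : χ ^ 5 = 1 ∧ N ^ 5 = 1 := by
    refine huniq (χ ^ 5) 1 (N ^ 5) 1 (fun k => by rw [chi_pow', hχk, one_pow]) (fun k => chi_one _) ?_
    rw [map_pow, map_pow, ← (hcent χ hχk N).mul_pow, ← hzN, hz5, map_one, map_one, one_mul]
  -- the twist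
  set C := torus chevE7 E7.tabs E (hPar chevE7 E a) * nProd chevE7 E L with hC
  have hsc : ∀ k, ∃ μ, Scales chevE7 C (zRoot k).val (zRoot (f k)).val μ := fun k => by
    obtain ⟨μ, hμ⟩ := scales_form hc L (hPar chevE7 E a) (zRoot k).2
    rw [hf k] at hμ
    exact ⟨μ, hμ⟩
  choose μ hμ using hsc
  have hfinj : Function.Injective f := fun i j h => by rw [← hf3 i, ← hf3 j, h]
  set N' : Fin 3 → SL(2, E) := Pi.mulSingle (f 0) (scaleHom (μ 0) (N 0)) *
    Pi.mulSingle (f 1) (scaleHom (μ 1) (N 1)) * Pi.mulSingle (f 2) (scaleHom (μ 2) (N 2)) with hN'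
  have hN'f : ∀ k, N' (f k) = scaleHom (μ k) (N k) := fun k => by
    fin_cases k <;> simp [hN', hfinj.eq_iff]
  have hCΦ : C * Φ N * C⁻¹ = Φ N' := by
    rw [hΦ3 N, hN', map_mul Φ, map_mul Φ, hΦs, hΦs, hΦs, ← RootPairHom.conj_scales hc (hφ 0) (hφ _) (hμ 0),
      ← RootPairHom.conj_scales hc (hφ 1) (hφ _) (hμ 1), ← RootPairHom.conj_scales hc (hφ 2) (hφ _) (hμ 2)]
    group
  have hσΦ : glMap chevE7 σ (Φ N) = Φ fun k => Matrix.SpecialLinearGroup.map σ (N k) := by
    rw [hΦ3, hΦ3, map_mul, map_mul, RootPairHom.natural hc (hφ 0) (zRoot 0).2,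
      RootPairHom.natural hc (hφ 1) (zRoot 1).2, RootPairHom.natural hc (hφ 2) (zRoot 2).2]
  have hσt : glMap chevE7 σ (torus chevE7 E7.tabs E χ) = torus chevE7 E7.tabs E (χ ^ 2) := by
    rw [glMap_torus]
    congr 1
    funext j
    exact Units.ext (hσ _)
  have hrev : ∀ k, refls chevE7 L.reverse (rv chevE7 E7.tabs (zRoot (f k)).val) =
      rv chevE7 E7.tabs (zRoot k).val := fun k => by
    rw [← hf k, ← rv_sigs hc _ (sigs_lt hc L (zRoot k).2), sigs_reverse hc L (zRoot k).2]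
  obtain ⟨htwist, hNtw⟩ : χ ^ 2 = reflChars L χ ∧ (fun k => Matrix.SpecialLinearGroup.map σ (N k)) = N' := by
    refine huniq _ _ _ _ (fun k => by rw [chi_pow', hχk, one_pow]) (fun j => ?_) ?_
    · rw [← hf3 j, chi_reflChars hc, hrev, hχk]
    · rw [← hσt, ← hσΦ, ← map_mul, ← hzN, hσz, hzN, ← hCΦ, ← twist_form_conj hc (L := L) (a := a), ← hC]
      group
  -- the traces
  have hτ : ∀ k, (N (f k) : Matrix (Fin 2) (Fin 2) E).trace ^ 2 = (N k : Matrix (Fin 2) (Fin 2) E).trace := by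
    intro k
    have h1 := congrArg (fun A : SL(2, E) => (A : Matrix (Fin 2) (Fin 2) E).trace)
      ((congrFun hNtw (f k)).trans (hN'f k))
    simp only [RootPairHom.trace_scaleHom] at h1
    rw [← h1, ← hσ, Matrix.trace_fin_two, Matrix.trace_fin_two, map_add]
    rfl
  have hN1 : N = 1 := funext fun k => eq_one_of_pow_five (congrFun hN5 k) (by
    have h1 := hτ k
    have h2 := hτ (f k)
    have h3 := hτ (f (f k))
    rw [hf3] at h3
    rw [← h2, ← h3, ← pow_mul, ← pow_mul] at h1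
    exact h1)
  -- the character
  set π := permOf hc L.reverse with hπdef
  have hπ : π ∈ weylGrp hc := ⟨_, rfl⟩
  set A := permMat hc π with hAdef
  have hA : ∀ (y : Fin chevE7.rank → Eˣ), reflChars L y = y ^ 2 → ∀ v, chi y (A *ᵥ v) = chi y v ^ 2 :=
    fun y hy v => by rw [hAdef, chi_permMat, hπdef, permAct_permOf, List.reverse_reverse, hy, chi_pow']
  have hzval : ∀ k : Fin 3, (fun j => emMat j k) = rv chevE7 E7.tabs (zRoot k).val :=
    fun k => funext fun j => (emMat_col k j).1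
  have hAcol : ∀ k, A *ᵥ (fun j => emMat j (f k)) = fun j => emMat j k := fun k => by
    rw [hzval, hzval, hAdef, permMat_mulVec hc hπ (zRoot (f k))]
    congr 1
    show sigs chevE7 E7.tabs L.reverse (zRoot (f k)).val = _
    rw [← hf k, sigs_reverse hc L (zRoot k).2]
  have hPE : pMat * A * emMat = 0 := by
    refine Matrix.ext_of_mulVec_single fun k => ?_
    rw [← Matrix.mulVec_mulVec, ← Matrix.mulVec_mulVec, Matrix.mulVec_single_one]
    show pMat *ᵥ (A *ᵥ fun j => emMat j k) = _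
    rw [← hf3 k, hAcol]
    funext i
    have := congrFun (congrFun pMat_emMat i) (f (f k))
    simpa [Matrix.mulVec, dotProduct, Matrix.mul_apply] using this
  have hAn : A ^ orderOf π = 1 := by rw [hAdef, ← permMat_pow hc hπ, pow_orderOf_eq_one, permMat_one]
  have hrn : ¬ r ∣ orderOf π := fun h => hW (h.trans (by
    rw [← Nat.card_zpowers]; exact Subgroup.card_dvd_of_le (Subgroup.zpowers_le.2 hπ)))
  have hM := charpoly_quot hPE hAn hrn hord hxr hv₀ (fun k => by rw [hzval]; exact hkill k) (hA x hrefl)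
  have hχr : χ ^ r = 1 := by
    refine chi_ext fun v => ?_
    rw [chi_one, chi_pow']
    have h2 := chi_aeval (hA χ htwist.symm) (cyclotomic 12 ℤ) v
    have h3 : pMat *ᵥ (aeval A (cyclotomic 12 ℤ) *ᵥ v) = 0 := by
      have hch : aeval (pMat * A * gMat) (cyclotomic 12 ℤ) = 0 := by
        rw [← hM]; exact Matrix.aeval_self_charpoly _
      rw [Matrix.mulVec_mulVec, aeval_pMat hPE, hch, Matrix.zero_mul, Matrix.zero_mulVec]
    have h4' : aeval A (cyclotomic 12 ℤ) *ᵥ v = emMat *ᵥ (qMat *ᵥ (aeval A (cyclotomic 12 ℤ) *ᵥ v)) := by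
      calc aeval A (cyclotomic 12 ℤ) *ᵥ v = (gMat * pMat + emMat * qMat) *ᵥ (aeval A (cyclotomic 12 ℤ) *ᵥ v) := by
            rw [sections, Matrix.one_mulVec]
        _ = _ := by rw [Matrix.add_mulVec, ← Matrix.mulVec_mulVec, ← Matrix.mulVec_mulVec, h3,
            Matrix.mulVec_zero, zero_add]
    rw [h4', chi_emMat (fun k => by rw [hzval]; exact hχk k), hΦ, zpow_natCast] at h2
    exact h2.symm
  have hχ1 : χ = 1 :=
    eq_of_pow_coprime hχ5 hχr ((Nat.coprime_primes (by norm_num) (Fact.out : r.Prime)).2 (Ne.symm hr5))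
  rw [hzN, hχ1, hN1, map_one, map_one, one_mul]

theorem orderOf_two_thirteen : orderOf ((2 : ℕ) : ZMod 13) = 12 :=
  (orderOf_eq_iff (by norm_num)).2 ⟨by decide, by decide⟩

/-- there is no element of order 65 in E7(2) -/
theorem orderOf_ne_sixty_five {F : Type*} [Field F] [Fintype F] (hF : Fintype.card F = 2)
    (z : ↥(chevE7.group F)) : orderOf z ≠ 65 := by
  classical
  intro hz65
  haveI : Fact (Nat.Prime 13) := ⟨by norm_num⟩
  haveI : Fact (Nat.Prime 2) := ⟨Nat.prime_two⟩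
  have hc : Checked chevE7 E7.tabs := E7.checked
  have hcomm : CommOne chevE7 E7.tabs := commOne_of_commCheck E7.checked E7.comm_ok E7.short_ok
  obtain ⟨E, iE, iF, ι, σ, hfix, hσ, hE⟩ := exists_extension F (d := 12 * 2) (by norm_num)
  rw [hF] at hσ hE
  have hσι : ∀ a, σ (ι a) = ι a := fun a => (hfix _).2 ⟨a, rfl⟩
  haveI : CharP E 2 := charP_of_card_eq_prime_pow hE
  have hord : orderOf ((2 : ℕ) : ZMod 13) = 12 := orderOf_two_thirteen
  obtain ⟨g, hg, L, a, x, k1, k2, hL, hxr, hxd, hrefl, hkill, honly, hor, s1, s2, s3⟩ :=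
    lift_data (r := 13) ι σ hσι hF hσ hE (by norm_num) le_rfl hord (by norm_num)
  have hW := not_dvd_weyl (r := 13) (by norm_num) le_rfl
  obtain ⟨f, hf, hf3⟩ : ∃ f : Fin 3 → Fin 3, (∀ k, sigs chevE7 E7.tabs L (zRoot k).val = (zRoot (f k)).val) ∧
      ∀ k, f (f (f k)) = k := by
    rcases hor with ⟨rfl, rfl⟩ | ⟨rfl, rfl⟩
    · refine ⟨![1, 2, 0], fun k => ?_, by decide⟩
      fin_cases k <;> assumption
    · refine ⟨![2, 0, 1], fun k => ?_, by decide⟩
      fin_cases k <;> assumption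
  set C := torus chevE7 E7.tabs E (hPar chevE7 E a) * nProd chevE7 E L with hC
  have hσg : glMap chevE7 σ g = C * g := by rw [← hL]; group
  -- the element of order thirteen
  have hfixy : glMap chevE7 σ (g⁻¹ * torus chevE7 E7.tabs E x * g) = g⁻¹ * torus chevE7 E7.tabs E x * g := by
    have h1 : glMap chevE7 σ (torus chevE7 E7.tabs E x) = C * torus chevE7 E7.tabs E x * C⁻¹ := by
      rw [hC, twist_form_conj hc, hrefl, glMap_torus]
      congr 1
      funext j
      exact Units.ext (hσ _)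
    rw [map_mul, map_mul, map_inv, h1, hσg]; group
  obtain ⟨y₀, hy₀, ey₀⟩ := fixed_descent' hc hcomm ι σ (fun a => (hfix a).1) adj_ok (m := 13)
    (dd := 2) (by norm_num) (mul_mem (mul_mem (inv_mem hg) (diagonal_le_group hc hxd)) hg)
    (by
      have h : MulAut.conj g⁻¹ (torus chevE7 E7.tabs E x) ^ 13 = 1 := by rw [← map_pow, ← map_pow, hxr, map_one, map_one]
      simpa using h) hfixy
  set Y₀ : ↥(chevE7.group F) := ⟨y₀, hy₀⟩
  set h : GL chevE7.Idx F →* GL chevE7.Idx E := (MulAut.conj g).toMonoidHom.comp (glMap chevE7 ι) with hh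
  have hhinj : Function.Injective h := (MulAut.conj g).injective.comp (glMap_injective ι)
  have hhy : h y₀ = torus chevE7 E7.tabs E x := by
    show g * glMap chevE7 ι y₀ * g⁻¹ = _
    rw [ey₀]; group
  have hv : ∃ v₀, chi x v₀ ≠ 1 := by
    refine ⟨rv chevE7 E7.tabs 125, fun h => ?_⟩
    obtain ⟨k, hk⟩ := honly ⟨125, by decide +kernel⟩ h
    revert k
    decide +kernel
  obtain ⟨v₀, hv₀⟩ := hv
  have hY₀o : orderOf Y₀ = 13 := by
    refine orderOf_eq_prime (Subtype.ext (hhinj ?_)) fun h1 => hv₀ ?_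
    · show h (y₀ ^ 13) = h 1
      rw [map_pow, hhy, ← map_pow, hxr, map_one, map_one]
    · have hx1 : x = 1 := torus_injective hc (by
        rw [← hhy, show y₀ = 1 from congrArg Subtype.val h1, map_one, map_one])
      rw [hx1, chi_one]
  -- move the element of order thirteen
  haveI : Finite ↥(chevE7.group F) := inferInstance
  have hcard := card_group_E7 (F := F) hF
  have h169 : ¬ 13 ^ 2 ∣ Nat.card ↥(chevE7.group F) := by
    rw [show Nat.gcd 2 (2 - 1) = 1 by norm_num, one_mul] at hcard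
    rw [hcard]
    norm_num
  have hz5o : orderOf (z ^ 5) = 13 := by rw [orderOf_pow, hz65]; norm_num
  have hsyl : ∀ y : ↥(chevE7.group F), orderOf y = 13 →
      ∃ S : Sylow 13 ↥(chevE7.group F), (S : Subgroup ↥(chevE7.group F)) = Subgroup.zpowers y := by
    intro y hy
    have hp : IsPGroup 13 ↥(Subgroup.zpowers y) :=
      IsPGroup.of_card (n := 1) (by rw [Nat.card_zpowers, hy, pow_one])
    refine ⟨hp.toSylow fun hd => h169 ?_, rfl⟩
    rw [← Subgroup.card_mul_index (Subgroup.zpowers y), Nat.card_zpowers, hy, sq]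
    exact Nat.mul_dvd_mul_left 13 hd
  obtain ⟨S₀, hS₀⟩ := hsyl Y₀ hY₀o
  obtain ⟨S, hS⟩ := hsyl (z ^ 5) hz5o
  obtain ⟨b, hb⟩ := MulAction.exists_smul_eq ↥(chevE7.group F) S S₀
  set z' := b * z * b⁻¹ with hz'
  have hz'5 : z' ^ 5 = b * z ^ 5 * b⁻¹ := by rw [hz', ← MulAut.conj_apply, ← map_pow, MulAut.conj_apply]
  have hin : z' ^ 5 ∈ Subgroup.zpowers Y₀ := by
    rw [hz'5, ← hS₀, ← hb, Sylow.coe_subgroup_smul]
    exact Subgroup.smul_mem_pointwise_smul _ (MulAut.conj b) _ (hS ▸ Subgroup.mem_zpowers (z ^ 5))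
  have hz'o : orderOf z' = 65 := by
    rw [hz', ← MulAut.conj_apply, MulEquiv.orderOf_eq, hz65]
  have hgen : Subgroup.zpowers (z' ^ 5) = Subgroup.zpowers Y₀ := by
    refine Subgroup.eq_of_le_of_card_ge (Subgroup.zpowers_le.2 hin) ?_
    rw [Nat.card_zpowers, Nat.card_zpowers, orderOf_pow, hz'o, hY₀o]
    norm_num
  have hcw : Commute (z' ^ 13) Y₀ := by
    obtain ⟨i, hi⟩ := Subgroup.mem_zpowers_iff.1 (hgen.symm ▸ Subgroup.mem_zpowers Y₀)
    rw [← hi]
    exact ((Commute.refl z').pow_pow 13 5).zpow_right i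
  -- the element of order five over the large field
  set w := h ((z' ^ 13 : ↥(chevE7.group F)) : GL chevE7.Idx F) with hwdef
  have hw5 : w ^ 5 = 1 := by
    rw [hwdef, ← map_pow, ← SubmonoidClass.coe_pow, ← pow_mul,
      show z' ^ (13 * 5) = 1 by rw [show 13 * 5 = orderOf z' by rw [hz'o], pow_orderOf_eq_one]]
    exact map_one h
  have hwG : w ∈ chevE7.group E := mul_mem (mul_mem hg (glMap_group hc ι (z' ^ 13).2)) (inv_mem hg)
  have hwx : w * torus chevE7 E7.tabs E x * w⁻¹ = torus chevE7 E7.tabs E x := by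
    rw [← hhy, hwdef, ← map_mul, show ((z' ^ 13 : ↥(chevE7.group F)) : GL chevE7.Idx F) * y₀ =
      y₀ * ((z' ^ 13 : ↥(chevE7.group F)) : GL chevE7.Idx F) from congrArg Subtype.val hcw.eq, map_mul,
      mul_inv_cancel_right]
  have hσw : glMap chevE7 σ w = C * w * C⁻¹ := by
    show glMap chevE7 σ (g * glMap chevE7 ι _ * g⁻¹) = C * (g * glMap chevE7 ι _ * g⁻¹) * C⁻¹
    have h1 : ∀ b : GL chevE7.Idx F, glMap chevE7 σ (glMap chevE7 ι b) = glMap chevE7 ι b := fun b => by
      ext i j; exact hσι _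
    rw [map_mul, map_mul, map_inv, h1, hσg]; group
  have hw1 : w = 1 := eq_one_of_twisted (r := 13)
    (by rw [Nat.card_eq_fintype_card, hE]; norm_num) σ hσ (by norm_num) hW hord
    (by rw [eval_cyclotomic_twelve (by norm_num)]; norm_num) hxr hxd hrefl hv₀ hkill honly f hf hf3 hwG hw5 hwx hσw
  have hone : z' ^ 13 = 1 := Subtype.ext (hhinj (by rw [← hwdef, hw1]; exact (map_one h).symm))
  have := orderOf_dvd_of_pow_eq_one hone
  rw [hz'o] at this
  norm_num at this

end CfsgLib.ChevCent.E7
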