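import Cfsg.Agent.Lib.ChevCent.E7Lift
import Cfsg.Agent.Lib.Steinberg.CenterData

/-!
# The cyclic self-centralising torus of E7(q) of order `Φ₁₂(q) (q³ + 1) / (2, q - 1)`
-/

set_option autoImplicit false
set_option linter.unusedSectionVars false

namespace CfsgLib.ChevCent.E7

open Cfsg.Lie CfsgLib.Chev CfsgLib.ChevField Polynomial
open scoped Matrix

/-- a prime of at least thirteen does not divide the order of the Weyl group -/
theorem not_dvd_weyl {r : ℕ} (hr : r.Prime) (hr13 : 13 ≤ r) : ¬ r ∣ Nat.card ↥(weylGrp E7.checked) := by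
  have hc : Checked chevE7 E7.tabs := E7.checked
  have hbig : ∀ b : ℕ, 0 < b → b ≤ 12 → ¬ r ∣ b := fun b hb hb' h => by
    have := Nat.le_of_dvd hb h; omega
  rw [card_weylGrp hc (J := [(⟨0, by decide⟩ : Fin chevE7.rank), (⟨2, by decide⟩ : Fin chevE7.rank),
    (⟨3, by decide⟩ : Fin chevE7.rank), (⟨1, by decide⟩ : Fin chevE7.rank), (⟨4, by decide⟩ : Fin chevE7.rank),
    (⟨5, by decide⟩ : Fin chevE7.rank), (⟨6, by decide⟩ : Fin chevE7.rank)]) (by decide), wsum_E7 hc,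
    show polyEval [1, 1, 1, 1, 1, 2, 2, 2, 2, 3, 3, 3, 3, 3, 3, 3, 3, 3, 3, 2, 2, 2, 2, 1, 1, 1, 1, 1] 1 *
      polyEval [1, 1, 1, 1, 2, 2, 2, 2, 3, 2, 2, 2, 2, 1, 1, 1, 1] 1 *
      polyEval [1, 1, 1, 2, 2, 2, 2, 2, 1, 1, 1] 1 * polyEval [1, 1, 1, 1, 1] 1 * polyEval [1, 1, 1, 1] 1 *
      polyEval [1, 1, 1] 1 * polyEval [1, 1] 1 = 2 ^ 10 * 3 ^ 4 * 5 * 7 by decide +kernel]
  intro h
  rcases hr.dvd_mul.1 h with h | h
  · rcases hr.dvd_mul.1 h with h | h
    · rcases hr.dvd_mul.1 h with h | h <;> exact hbig _ (by norm_num) (by norm_num) (hr.dvd_of_dvd_pow h)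
    · exact hbig _ (by norm_num) (by norm_num) h
  · exact hbig _ (by norm_num) (by norm_num) h

/-- the roots of `Φ₁₂ (X³ + 1)` modulo two are simple -/
theorem simple_root_two : ∀ b : ZMod 2, (b ^ 4 - b ^ 2 + 1) * (b ^ 3 + 1) = 0 →
    ¬(4 * b ^ 3 - 2 * b ^ 1) * (b ^ 3 + 1) + (b ^ 4 - b ^ 2 + 1) * (3 * b ^ 2) = 0 := by
  decide

/-- the powers `ω ^ (2 q ^ i)`, `i < 6`, are distinct when `q³ + 1` divides the order of `ω` -/
theorem pow_two_frob_inj {G : Type*} [Group G] [Finite G] {ω : G} {q : ℕ} (hq : 2 ≤ q) (ho : q ^ 3 + 1 ∣ orderOf ω) :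
    ∀ i j, i < 6 → j < 6 → ω ^ (2 * q ^ i) = ω ^ (2 * q ^ j) → i = j := by
  have key : ∀ i j, i ≤ j → j < 6 → ω ^ (2 * q ^ i) = ω ^ (2 * q ^ j) → i = j := by
    intro i j hij hj h
    rw [pow_eq_pow_iff_modEq] at h
    have h1 := (ZMod.natCast_eq_natCast_iff _ _ _).2 (h.of_dvd ho)
    push_cast at h1
    have hq3 : ((q : ZMod (q ^ 3 + 1))) ^ 3 = -1 := by
      rw [eq_neg_iff_add_eq_zero]
      exact_mod_cast ZMod.natCast_self (q ^ 3 + 1)
    have hu : IsUnit (q : ZMod (q ^ 3 + 1)) :=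
      (isUnit_pow_iff (by norm_num : (3 : ℕ) ≠ 0)).1 (hq3 ▸ isUnit_one.neg)
    obtain ⟨d, rfl⟩ := Nat.exists_eq_add_of_le hij
    have h2 : (2 : ZMod (q ^ 3 + 1)) * (q : ZMod (q ^ 3 + 1)) ^ d = 2 := by
      refine (hu.pow i).mul_left_cancel ?_
      rw [pow_add] at h1
      linear_combination -h1
    have hne : ∀ e : ℕ, 0 < e → e ≤ 2 → (2 : ZMod (q ^ 3 + 1)) * (q : ZMod (q ^ 3 + 1)) ^ e ≠ 2 := by
      intro e he he2 h
      have h3 : ((2 * q ^ e - 2 : ℕ) : ZMod (q ^ 3 + 1)) = 0 := by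
        rw [Nat.cast_sub (by have := Nat.one_le_pow e q (by omega); omega)]
        push_cast
        rw [h, sub_self]
      have hpos : 0 < 2 * q ^ e - 2 := by
        have : 2 ≤ q ^ e := le_trans hq (Nat.le_self_pow he.ne' q)
        omega
      have hlt : 2 * q ^ e - 2 < q ^ 3 + 1 := by
        have h4 : q ^ e ≤ q ^ 2 := Nat.pow_le_pow_right (by omega) he2
        have h5 : 2 * q ^ 2 ≤ q ^ 3 := by rw [pow_succ q 2, mul_comm]; exact Nat.mul_le_mul_left _ hq
        omega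
      exact absurd (Nat.le_of_dvd hpos ((ZMod.natCast_eq_zero_iff _ _).1 h3)) (by omega)
    have hd : d < 6 := by omega
    interval_cases d
    · omega
    · exact absurd h2 (hne 1 (by norm_num) (by norm_num))
    · exact absurd h2 (hne 2 (by norm_num) le_rfl)
    · exfalso
      rw [hq3] at h2
      have h3 : ((4 : ℕ) : ZMod (q ^ 3 + 1)) = 0 := by push_cast; linear_combination -h2
      have := Nat.le_of_dvd (by norm_num) ((ZMod.natCast_eq_zero_iff _ _).1 h3)
      have : 8 ≤ q ^ 3 := le_trans (by norm_num) (Nat.pow_le_pow_left hq 3)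
      omega
    · exfalso
      refine hne 2 (by norm_num) le_rfl ?_
      linear_combination -(q : ZMod (q ^ 3 + 1)) ^ 2 * h2 + 2 * ((q : ZMod (q ^ 3 + 1)) ^ 3 - 1) * hq3
    · exfalso
      refine hne 1 (by norm_num) (by norm_num) ?_
      linear_combination -(q : ZMod (q ^ 3 + 1)) ^ 1 * h2 + 2 * ((q : ZMod (q ^ 3 + 1)) ^ 3 - 1) * hq3
  intro i j hi hj h
  rcases le_total i j with hle | hle
  · exact key i j hle hj h
  · exact (key j i hle hi h.symm).symm

/-- the cyclic self-centralising subgroup -/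
theorem exists_cyclic {F : Type*} [Field F] [Fintype F] {q : ℕ} (hF : Fintype.card F = q) :
    ∃ H : Subgroup ↥(chevE7.group F), IsCyclic ↥H ∧
      Nat.card ↥H = (q ^ 4 - q ^ 2 + 1) * (q ^ 3 + 1) / Nat.gcd 2 (q - 1) ∧
      Subgroup.centralizer (H : Set ↥(chevE7.group F)) = H := by
  classical
  have hc : Checked chevE7 E7.tabs := E7.checked
  have hcomm : CommOne chevE7 E7.tabs := commOne_of_commCheck E7.checked E7.comm_ok E7.short_ok
  have hq : 2 ≤ q := hF ▸ Fintype.one_lt_card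
  obtain ⟨r, hr, hrΦ, hr13, hord, hrq⟩ := exists_prime_twelve hq
  haveI := Fact.mk hr
  obtain ⟨E, iE, iF, ι, σ, hfix, hσ, hE⟩ := exists_extension F (d := 12 * 2) (by norm_num)
  rw [hF] at hσ hE
  have hσι : ∀ a, σ (ι a) = ι a := fun a => (hfix _).2 ⟨a, rfl⟩
  obtain ⟨g, hg, L, a, x, k1, k2, hL, hxr, hrefl, hkill, honly, hflip⟩ :=
    flip_data ι σ hσι hF hσ hE hrΦ hr13 hord hrq
  have hW := not_dvd_weyl hr hr13
  set π := permOf hc L.reverse with hπdef
  have hπ : π ∈ weylGrp hc := ⟨_, rfl⟩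
  have hact : ∀ χ : Fin chevE7.rank → Eˣ, permAct hc π χ = reflChars L χ := fun χ => by
    rw [permAct_permOf, List.reverse_reverse]
  set A := permMat hc π with hAdef
  let K : Subgroup (Fin chevE7.rank → Eˣ) := MonoidHom.eqLocus (permAct hc π) (powMonoidHom q)
  have hK : ∀ χ, χ ∈ K ↔ reflChars L χ = χ ^ q := fun χ => by
    show permAct hc π χ = _ ↔ _
    rw [hact]; rfl
  have hKA : ∀ χ ∈ K, ∀ v, chi χ (A *ᵥ v) = chi χ v ^ q := fun χ hχ v => by
    rw [hAdef, chi_permMat, hact, (hK χ).1 hχ, chi_pow']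
  have hxK : x ∈ K := (hK x).2 hrefl
  have hbig : ∀ b : ℕ, 0 < b → b ≤ 12 → ¬ r ∣ b := fun b hb hb' h => by
    have := Nat.le_of_dvd hb h; omega
  have hzval : ∀ k : Fin 3, (fun j => emMat j k) = rv chevE7 E7.tabs (zRoot k).val :=
    fun k => funext fun j => (emMat_col k j).1
  have hznval : ∀ k : Fin 3, rv chevE7 E7.tabs (zNeg k).val = -fun j => emMat j k :=
    fun k => funext fun j => (emMat_col k j).2
  obtain ⟨v₀, hv₀⟩ : ∃ v₀, chi x v₀ ≠ 1 := by
    refine ⟨rv chevE7 E7.tabs 125, fun h => ?_⟩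
    obtain ⟨k, hk⟩ := honly ⟨125, by decide +kernel⟩ h
    revert k
    decide +kernel
  have hAn : A ^ orderOf π = 1 := by rw [hAdef, ← permMat_pow hc hπ, pow_orderOf_eq_one, permMat_one]
  have hrn : ¬ r ∣ orderOf π := fun h => hW (h.trans (by
    rw [← Nat.card_zpowers]; exact Subgroup.card_dvd_of_le (Subgroup.zpowers_le.2 hπ)))
  obtain ⟨hcM, hcp⟩ := charpoly_eq hflip hAn hrn hord hxr hv₀ (fun k => by rw [hzval]; exact hkill k) (hKA x hxK)
  set N := (q ^ 4 - q ^ 2 + 1) * (q ^ 3 + 1) with hNdef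
  have hN0 : 0 < N := by positivity
  have hq12 : 1 ≤ q ^ 12 := Nat.one_le_pow _ _ (by omega)
  have hfeval : (cyclotomic 12 ℤ * (X ^ 3 + 1)).eval (q : ℤ) = (N : ℤ) := by
    rw [eval_mul, eval_cyclotomic_twelve (by omega), hNdef, Nat.cast_mul]
    simp
  have hdvd : cyclotomic 12 ℤ * (X ^ 3 + 1) ∣ X ^ 12 - 1 :=
    ⟨(X ^ 2 + 1) * (X ^ 3 - 1), by rw [cyclotomic_twelve_eq]; ring⟩
  have hNq : N ∣ q ^ 12 - 1 := by
    have h1 := eval_dvd (x := (q : ℤ)) hdvd
    simp only [hfeval, eval_sub, eval_pow, eval_X, eval_one] at h1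
    rw [show (q : ℤ) ^ 12 - 1 = ((q ^ 12 - 1 : ℕ) : ℤ) by rw [Nat.cast_sub hq12]; push_cast; ring] at h1
    exact_mod_cast h1
  have hQ : q ^ 12 - 1 ∣ Nat.card Eˣ := by
    rw [Nat.card_units, Nat.card_eq_fintype_card, hE, pow_mul]
    simpa using Nat.sub_dvd_pow_sub_pow (q ^ 12) 1 2
  set B := Matrix.scalar (Fin chevE7.rank) (q : ℤ) - A with hB
  have hdet : B.det = (N : ℤ) := by rw [hB, ← Matrix.eval_charpoly, hcp, hfeval]
  have hcofM : ∀ M : Matrix (Fin chevE7.rank) (Fin chevE7.rank) ℤ, M.charpoly = cyclotomic 12 ℤ * (X ^ 3 + 1) →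
      ∀ l : ℕ, l.Prime → l ∣ N → l ≠ 3 →
        ∃ i j, ¬ (l : ℤ) ∣ (Matrix.scalar (Fin chevE7.rank) (q : ℤ) - M).adjugate i j := by
    intro M hM l hl hlN hl3
    haveI := Fact.mk hl
    have hlev : (l : ℤ) ∣ M.charpoly.eval (q : ℤ) := by rw [hM, hfeval]; exact_mod_cast hlN
    refine adjugate_ne_zero_of_charpoly (by rw [Fintype.card_fin]; decide)
      (by rw [hM, hfeval]; exact_mod_cast hN0.ne') hlev (Or.inl ?_)
    rw [hM] at hlev ⊢
    by_cases h : l ∣ 12
    · have hl2 : l = 2 := by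
        rcases hl.dvd_mul.1 (show l ∣ 4 * 3 from h) with h | h
        · exact (Nat.prime_dvd_prime_iff_eq hl Nat.prime_two).1 (hl.dvd_of_dvd_pow (show l ∣ 2 ^ 2 from h))
        · exact absurd ((Nat.prime_dvd_prime_iff_eq hl Nat.prime_three).1 h) hl3
      subst hl2
      rw [cyclotomic_twelve_eq] at hlev ⊢
      simp only [derivative_mul, derivative_add, derivative_sub, derivative_X_pow, derivative_one, eval_add, eval_sub,
        eval_mul, eval_pow, eval_X, eval_one, eval_C, add_zero] at hlev ⊢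
      rw [← ZMod.intCast_zmod_eq_zero_iff_dvd] at hlev ⊢
      push_cast at hlev ⊢
      exact simple_root_two _ hlev
    · exact not_dvd_derivative_of_dvd (by norm_num) hdvd hlev h
  have hcofA : ∀ l : ℕ, l.Prime → l ∣ N → ∃ i j, ¬ (l : ℤ) ∣ B.adjugate i j := by
    intro l hl hlN
    by_cases h : l = 3
    · subst h
      have h3 := (ZMod.natCast_eq_zero_iff N 3).2 hlN
      rw [hNdef, Nat.cast_mul, Nat.cast_add, Nat.cast_sub (Nat.pow_le_pow_right (by omega) (by norm_num))] at h3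
      push_cast at h3
      refine cof_three hflip hcM ?_ ?_ ?_
      · intro h0
        rw [h0] at h3
        revert h3
        decide
      · rw [eval_cyclotomic_twelve (by omega)]
        push_cast [Nat.cast_sub (Nat.pow_le_pow_right (show 0 < q by omega) (show 2 ≤ 4 by norm_num))]
        exact (by decide : ∀ b : ZMod 3, b ^ 4 - b ^ 2 + 1 ≠ 0) _
      · rw [hdet, Int.cast_natCast]
        exact (ZMod.natCast_eq_zero_iff N 3).2 hlN
    · exact hcofM A hcp l hl hlN h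
  obtain ⟨hKc, hKcard⟩ := detKernel hN0 hdet (hNq.trans hQ) hcofA K fun χ => by rw [hK, fixedChar_iff hc]
  -- a generator and its value on the three roots
  obtain ⟨γ, hγ⟩ := hKc.exists_generator
  set γ' : Fin chevE7.rank → Eˣ := γ.1 with hγ'
  have hγo : orderOf γ' = N := by
    rw [hγ', Subgroup.orderOf_coe, orderOf_eq_card_of_forall_mem_zpowers hγ, hKcard]
  set ω := chi γ' fun j => emMat j k2 with hω
  obtain ⟨hPE, -⟩ := flip_block hflip
  obtain ⟨hor, hf1, hf2, hf0⟩ := hflip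
  have hγA := hKA γ' γ.2
  have hω1 : chi γ' (fun j => emMat j k1) = ω ^ q := by
    have := hγA fun j => emMat j k2
    rwa [hf2] at this
  have hω0 : chi γ' (fun j => emMat j 0) = ω ^ q ^ 2 := by
    have := hγA fun j => emMat j k1
    rwa [hf1, hω1, ← pow_mul, ← sq] at this
  have hω3 : ω⁻¹ = ω ^ q ^ 3 := by
    have := hγA fun j => emMat j 0
    rwa [hf0, chi_neg, hω0, ← pow_mul, ← pow_succ] at this
  have hcases : ∀ k : Fin 3, k = 0 ∨ k = k1 ∨ k = k2 := by
    rcases hor with ⟨rfl, rfl⟩ | ⟨rfl, rfl⟩ <;> decide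
  have hωo : q ^ 3 + 1 ∣ orderOf ω := by
    set o := orderOf ω
    have ho : ω ^ o = 1 := pow_orderOf_eq_one ω
    have hk : ∀ k : Fin 3, chi (γ' ^ o) (fun j => emMat j k) = 1 := by
      intro k
      rw [chi_pow']
      rcases hcases k with rfl | rfl | rfl
      · rw [hω0, ← pow_mul, mul_comm, pow_mul, ho, one_pow]
      · rw [hω1, ← pow_mul, mul_comm, pow_mul, ho, one_pow]
      · exact ho
    have h1 : γ' ^ (o * (q ^ 4 - q ^ 2 + 1)) = 1 := by
      refine chi_ext fun v => ?_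
      rw [pow_mul, chi_one, chi_pow']
      have h2 := chi_aeval (hKA _ (pow_mem γ.2 o)) (cyclotomic 12 ℤ) v
      have h3 : pMat *ᵥ (aeval A (cyclotomic 12 ℤ) *ᵥ v) = 0 := by
        have hch : aeval (pMat * A * gMat) (cyclotomic 12 ℤ) = 0 := by
          rw [← hcM]; exact Matrix.aeval_self_charpoly _
        rw [Matrix.mulVec_mulVec, aeval_pMat hPE, hch, Matrix.zero_mul, Matrix.zero_mulVec]
      have h4 : aeval A (cyclotomic 12 ℤ) *ᵥ v = emMat *ᵥ (qMat *ᵥ (aeval A (cyclotomic 12 ℤ) *ᵥ v)) := by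
        calc aeval A (cyclotomic 12 ℤ) *ᵥ v = (gMat * pMat + emMat * qMat) *ᵥ (aeval A (cyclotomic 12 ℤ) *ᵥ v) := by
              rw [sections, Matrix.one_mulVec]
          _ = _ := by rw [Matrix.add_mulVec, ← Matrix.mulVec_mulVec, ← Matrix.mulVec_mulVec, h3,
              Matrix.mulVec_zero, zero_add]
      rw [h4, chi_emMat hk, eval_cyclotomic_twelve (by omega), zpow_natCast] at h2
      exact h2.symm
    have h5 := orderOf_dvd_of_pow_eq_one h1
    rw [hγo, hNdef, mul_comm o] at h5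
    exact Nat.dvd_of_mul_dvd_mul_left (by omega) h5
  have hinj := pow_two_frob_inj hq hωo
  -- the values of the six roots
  have hsix : ∀ s : Fin chevE7.nroots, (∃ k, zRoot k = s ∨ zNeg k = s) →
      ∃ i, i < 6 ∧ chi (γ' ^ 2) (rv chevE7 E7.tabs s.val) = ω ^ (2 * q ^ i) ∧
        (i = 0 → s = zRoot k2) ∧ (i = 1 → s = zRoot k1) ∧ (i = 2 → s = zRoot 0) ∧
        (i = 3 → s = zNeg k2) ∧ (i = 4 → s = zNeg k1) ∧ (i = 5 → s = zNeg 0) := by
    rintro s ⟨k, rfl | rfl⟩
    · rcases hcases k with rfl | rfl | rfl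
      · exact ⟨2, by norm_num, by rw [chi_pow', ← hzval, hω0, ← pow_mul, mul_comm], by simp⟩
      · exact ⟨1, by norm_num, by rw [chi_pow', ← hzval, hω1, ← pow_mul, pow_one, mul_comm], by simp⟩
      · exact ⟨0, by norm_num, by rw [chi_pow', ← hzval, ← hω, pow_zero, mul_one], by simp⟩
    · rcases hcases k with rfl | rfl | rfl
      · refine ⟨5, by norm_num, ?_, by simp⟩
        rw [chi_pow', hznval, chi_neg, hω0, ← inv_pow, hω3, ← pow_mul, ← pow_mul]
        exact congrArg (ω ^ ·) (by ring)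
      · refine ⟨4, by norm_num, ?_, by simp⟩
        rw [chi_pow', hznval, chi_neg, hω1, ← inv_pow, hω3, ← pow_mul, ← pow_mul]
        exact congrArg (ω ^ ·) (by ring)
      · refine ⟨3, by norm_num, ?_, by simp⟩
        rw [chi_pow', hznval, chi_neg, ← hω, hω3, ← pow_mul, mul_comm]
  have hx2 : ∀ s : Fin chevE7.nroots, chi (x ^ 2) (rv chevE7 E7.tabs s.val) = 1 →
      chi x (rv chevE7 E7.tabs s.val) = 1 := fun s h => by
    rw [chi_pow'] at h
    exact eq_of_pow_coprime h (by rw [← chi_pow', hxr, chi_one])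
      ((Nat.coprime_primes Nat.prime_two hr).2 (by omega))
  have hgcd : Nat.gcd 2 N = Nat.gcd 2 (q - 1) := by
    have hN2 : (2 ∣ N) ↔ 2 ∣ q - 1 := by
      rw [← ZMod.natCast_eq_zero_iff, ← ZMod.natCast_eq_zero_iff, Nat.cast_sub (by omega : 1 ≤ q), hNdef,
        Nat.cast_mul, Nat.cast_add, Nat.cast_sub (Nat.pow_le_pow_right (by omega) (by norm_num))]
      push_cast
      exact (by decide : ∀ b : ZMod 2, (b ^ 4 - b ^ 2 + 1) * (b ^ 3 + 1) = 0 ↔ b - 1 = 0) _
    by_cases h : 2 ∣ N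
    · rw [Nat.gcd_eq_left h, Nat.gcd_eq_left (hN2.1 h)]
    · rw [(Nat.prime_two.coprime_iff_not_dvd.2 h).gcd_eq_one,
        (Nat.prime_two.coprime_iff_not_dvd.2 fun h' => h (hN2.2 h')).gcd_eq_one]
  refine (exists_max_torus hc hcomm ι σ hfix hσ hg hL (dd := 2) Nat.prime_two adj_ok hN0 K hK hKc hKcard ?_ ?_ ?_
    ?_).elim fun H hH => ⟨H, hH.1, by rw [hH.2.1, hgcd], hH.2.2⟩
  · intro χ hχ j
    refine exists_root_of_pow Nat.prime_two hE hq hNq ?_ ?_
    · rcases Nat.even_or_odd q with ⟨m, hm⟩ | h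
      · exact Or.inr ⟨m, by omega⟩
      · exact Or.inl (Nat.odd_iff.1 h.pow)
    · have := congrArg (fun z : ↥K => (z : Fin chevE7.rank → Eˣ) j) (pow_card_eq_one' (x := (⟨χ, hχ⟩ : ↥K)))
      rw [hKcard] at this
      simpa using this
  · intro h2N
    have h2q : 2 ∣ q - 1 := by
      have := Nat.gcd_eq_left h2N
      rw [hgcd] at this
      exact this ▸ Nat.gcd_dvd_right 2 (q - 1)
    obtain ⟨z, hz⟩ := exists_prime_orderOf_dvd_card' (G := Eˣ) 2 (h2N.trans (hNq.trans hQ))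
    obtain ⟨T', S'⟩ := Steinberg.exists_setup (D := chevE8) (by simp)
    have hz2 : z ^ 2 = 1 := hz ▸ pow_orderOf_eq_one z
    refine exists_not_descent hc hcomm Steinberg.hasWitE7 S' Steinberg.shortE7 Steinberg.shortE8 Steinberg.embOkE7
      up_cartan upInv_ok ι σ hσι hσ hg hL Nat.prime_two adj_ok hN0 (hNq.trans hQ) hdet ?_ K hK hKcard
      (c₀ := fun k => z ^ Steinberg.centerE7.w.getD k.val 0)
      (Steinberg.hPar_rootOfUnity Steinberg.centerOkE7 hz2) ?_ ?_
    · intro l hl hlN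
      have hint := wMat_intertwine hc L.reverse
      obtain ⟨hd0, hdl⟩ := det_cmMat_ne_zero (by norm_num) adj_ok
      by_cases h : l = 3
      · subst h
        refine cof_of_intertwine hl (hdl 3 hl (by norm_num)) ?_ (hcofA 3 hl hlN)
        rw [Matrix.mul_sub, Matrix.sub_mul, hint,
          (Matrix.scalar_commute (q : ℤ) (fun r => Commute.all _ r) (cmMat chevE7)).eq]
      · exact hcofM _ (by rw [charpoly_of_intertwine hd0 hint]; exact hcp) l hl hlN h
    · have hzq : z ^ q = z := by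
        obtain ⟨k, hk⟩ := h2q
        rw [show q = 2 * k + 1 by omega, pow_succ, pow_mul, hz2, one_pow, one_mul]
      funext k
      show (z ^ Steinberg.centerE7.w.getD k.val 0) ^ q = z ^ Steinberg.centerE7.w.getD k.val 0
      rw [← zpow_natCast, ← zpow_mul, mul_comm, zpow_mul, zpow_natCast, hzq]
    · intro h
      have h0 := congrFun h ⟨1, by decide⟩
      simp only [Pi.one_apply] at h0
      rw [show Steinberg.centerE7.w.getD 1 0 = 1 from rfl, zpow_one] at h0
      rw [h0, orderOf_one] at hz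
      norm_num at hz
  · intro s hs
    by_cases h : ∃ k, zRoot k = ⟨s, hs⟩ ∨ zNeg k = ⟨s, hs⟩
    · obtain ⟨i, hi, hval, -⟩ := hsix ⟨s, hs⟩ h
      refine ⟨γ', γ.2, fun h1 => ?_⟩
      rw [hval] at h1
      have hd2 := (hωo.trans (orderOf_dvd_of_pow_eq_one h1))
      have hco : Nat.Coprime (q ^ 3 + 1) (q ^ i) := by
        refine Nat.Coprime.pow_right i ?_
        rw [Nat.coprime_comm, show q ^ 3 + 1 = 1 + q * q ^ 2 by ring]
        exact (Nat.coprime_add_mul_left_right q 1 (q ^ 2)).2 (Nat.coprime_one_right q)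
      have := Nat.le_of_dvd (by norm_num) (hco.dvd_of_dvd_mul_right hd2)
      have : 8 ≤ q ^ 3 := le_trans (by norm_num) (Nat.pow_le_pow_left hq 3)
      omega
    · exact ⟨x, hxK, fun h1 => h (honly _ (hx2 ⟨s, hs⟩ h1))⟩
  · intro π' hπ' hfix'
    have hval : ∀ χ ∈ K, ∀ s : Fin chevE7.nroots,
        chi (χ ^ 2) (rv chevE7 E7.tabs (π' s).val) = chi (χ ^ 2) (rv chevE7 E7.tabs s.val) := fun χ hχ s => by
      rw [← permMat_mulVec hc hπ', chi_permMat, hfix' χ hχ]
    have hfix6 : ∀ s : Fin chevE7.nroots, (∃ k, zRoot k = s ∨ zNeg k = s) → π' s = s := by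
      intro s hs
      have hkill2 : chi x (rv chevE7 E7.tabs (π' s).val) = 1 := by
        refine hx2 _ ?_
        rw [hval x hxK, chi_pow']
        obtain ⟨k, rfl | rfl⟩ := hs
        · rw [hkill, one_pow]
        · rw [hznval, chi_neg, hzval, hkill, inv_one, one_pow]
      obtain ⟨i, hi, hiv, h0, h1, h2, h3, h4, h5⟩ := hsix s hs
      obtain ⟨i', hi', hiv', g0, g1, g2, g3, g4, g5⟩ := hsix (π' s) (honly _ hkill2)
      have := hinj i' i hi' hi (by rw [← hiv', hval γ' γ.2, hiv])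
      subst this
      interval_cases i'
      · rw [g0 rfl, h0 rfl]
      · rw [g1 rfl, h1 rfl]
      · rw [g2 rfl, h2 rfl]
      · rw [g3 rfl, h3 rfl]
      · rw [g4 rfl, h4 rfl]
      · rw [g5 rfl, h5 rfl]
    refine eq_one_of_sum_ne hc hπ' fun s => ?_
    by_cases h : ∃ k, zRoot k = s ∨ zNeg k = s
    · have hs0 := hfix6 s h
      intro hsum
      rw [sumMat, Matrix.sum_mulVec, Finset.sum_congr rfl (g := fun _ => rv chevE7 E7.tabs s.val) (fun p _ => by
        obtain ⟨n, hn⟩ := Subgroup.mem_zpowers_iff.1 p.2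
        rw [permMat_mulVec hc (Subgroup.zpowers_le.2 hπ' p.2), ← hn,
          Equiv.Perm.zpow_apply_eq_self_of_apply_eq_self hs0]), Finset.sum_const, smul_eq_zero] at hsum
      rcases hsum with hsum | hsum
      · exact absurd hsum (Finset.card_ne_zero.2 Finset.univ_nonempty)
      · exact rv_ne_zero hc s.2 hsum
    · refine sum_ne_of_chi hc hπ' (hfix' x hxK) (r := r) ?_ hW ?_
      · rw [← pow_mul, mul_comm, pow_mul, hxr, one_pow]
      · exact fun h1 => h (honly s (hx2 s h1))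

end CfsgLib.ChevCent.E7
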