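import Cfsg.Agent.Lib.ChevCent.Mixed
import Cfsg.Agent.Lib.ChevAut.Sylow
import Cfsg.Agent.Lib.Chev.Parabolic
import Mathlib.Analysis.Normed.Order.Lattice
import Mathlib.Topology.Order.Compact

/-!
# Optimal parabolic subgroups of unipotent subgroups (Borel–Tits)

For a non-trivial unipotent subgroup `R` of a Chevalley group consider the pairs `(g, x)`, `x` a dominant
real point, with `g⁻¹ R g` generated by root groups of roots of value at least `1` at `x`.  The pairs
minimising the invariant quadratic form `∑ r(x)²` differ by elements of the parabolic subgroup of `x`.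
-/

set_option autoImplicit false
set_option linter.unusedSectionVars false

namespace CfsgLib.ChevCent

open Cfsg.Lie CfsgLib.Chev CfsgLib.ChevField

variable {D : ChevalleyDatum} {T : Tabs} {F : Type*} [Field F]

/-- the real linear form of a point at an integral vector -/
noncomputable def dotR (x : Fin D.rank → ℝ) (v : Fin D.rank → ℤ) : ℝ := ∑ j, (v j : ℝ) * x j

/-- the value of a root at a point -/
noncomputable def valR (D : ChevalleyDatum) (T : Tabs) (x : Fin D.rank → ℝ) (r : ℕ) : ℝ :=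
  ∑ j, (rv D T r j : ℝ) * x j

/-- the invariant quadratic form -/
noncomputable def quadR (D : ChevalleyDatum) (T : Tabs) (x : Fin D.rank → ℝ) : ℝ :=
  ∑ r ∈ Finset.range D.nroots, valR D T x r ^ 2

/-- the pull-back of a point along a word -/
noncomputable def pullR (D : ChevalleyDatum) (T : Tabs) (L : List (Fin D.rank)) (x : Fin D.rank → ℝ) :
    Fin D.rank → ℝ :=
  fun i => valR D T x (sigs D T L (D.simple i.val))

/-- positive roots of value at least one -/
def HighRoot (D : ChevalleyDatum) (T : Tabs) (x : Fin D.rank → ℝ) (r : ℕ) : Prop :=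
  D.nroots / 2 ≤ r ∧ 1 ≤ valR D T x r

/-- `(g, x)` puts `R` into the group of the roots of value at least one -/
def Feasible (D : ChevalleyDatum) (T : Tabs) (R : Subgroup (GL D.Idx F)) (g : GL D.Idx F)
    (x : Fin D.rank → ℝ) : Prop :=
  g ∈ D.group F ∧ (∀ i, 0 ≤ x i) ∧ ∀ k ∈ R, g⁻¹ * k * g ∈ uGen D F (HighRoot D T x)

section
variable (hc : Checked D T)
include hc

theorem valR_simple (x : Fin D.rank → ℝ) (i : Fin D.rank) : valR D T x (D.simple i.val) = x i := by
  rw [valR, rv_simple hc, Finset.sum_eq_single i]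
  · simp
  · intro j _ hj; simp [Pi.single_eq_of_ne hj]
  · simp

theorem valR_comb (x : Fin D.rank → ℝ) {r s v : ℕ} {a b : ℤ}
    (e : rv D T v = a • rv D T r + b • rv D T s) : valR D T x v = a * valR D T x r + b * valR D T x s := by
  simp only [valR, Finset.mul_sum, ← Finset.sum_add_distrib, e]
  refine Finset.sum_congr rfl fun j _ => ?_
  simp only [Pi.add_apply, Pi.smul_apply, smul_eq_mul]
  push_cast; ring

theorem valR_neg (x : Fin D.rank → ℝ) {r : ℕ} (hr : r < D.nroots) :
    valR D T x (D.neg r) = - valR D T x r := by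
  simp only [valR, rv_neg hc hr, Pi.neg_apply, Int.cast_neg, neg_mul, Finset.sum_neg_distrib]

theorem valR_nonneg {x : Fin D.rank → ℝ} (hx : ∀ i, 0 ≤ x i) {r : ℕ} (hr : r < D.nroots)
    (hp : D.nroots / 2 ≤ r) : 0 ≤ valR D T x r :=
  Finset.sum_nonneg fun j _ => mul_nonneg (by exact_mod_cast rv_nonneg hc hr hp j) (hx j)

theorem pos_of_valR {x : Fin D.rank → ℝ} (hx : ∀ i, 0 ≤ x i) {r : ℕ} (hr : r < D.nroots)
    (hv : 0 < valR D T x r) : D.nroots / 2 ≤ r := by
  by_contra h
  have h1 := valR_nonneg hc hx (neg_lt hc hr) (by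
    have := neg_eq hc hr; have := nroots_eq_two_mul hc; omega)
  rw [valR_neg hc x hr] at h1
  linarith

theorem valR_pull (L : List (Fin D.rank)) (x : Fin D.rank → ℝ) {r : ℕ} (hr : r < D.nroots) :
    valR D T (pullR D T L x) r = valR D T x (sigs D T L r) := by
  classical
  let φ : (Fin D.rank → ℤ) →+ ℝ := AddMonoidHom.mk' (fun v => dotR x (refls D L v)) fun v w => by
    simp only [dotR, refls_add, Pi.add_apply, Int.cast_add, add_mul, Finset.sum_add_distrib]
  have hr' : valR D T x (sigs D T L r) = φ (rv D T r) := by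
    show _ = dotR x (refls D L (rv D T r))
    rw [valR, dotR, rv_sigs hc L hr]
  have hbase : ∀ i : Fin D.rank, pullR D T L x i = φ (Pi.single i 1) := by
    intro i
    show _ = dotR x (refls D L (Pi.single i 1))
    rw [pullR, valR, dotR, rv_sigs hc L (simple_lt hc i.2), rv_simple hc]
  have e : rv D T r = ∑ i, rv D T r i • (Pi.single i 1 : Fin D.rank → ℤ) := by
    funext j
    simp [Finset.sum_apply, Pi.single_apply]
  rw [hr']
  conv_rhs => rw [e, map_sum]
  refine Finset.sum_congr rfl fun i _ => ?_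
  rw [map_zsmul, zsmul_eq_mul, hbase]

theorem quadR_pull (L : List (Fin D.rank)) (x : Fin D.rank → ℝ) :
    quadR D T (pullR D T L x) = quadR D T x := by
  refine Finset.sum_nbij' (fun r => sigs D T L r) (fun r => sigs D T L.reverse r)
    (fun r hr => Finset.mem_range.2 (sigs_lt hc L (Finset.mem_range.1 hr)))
    (fun r hr => Finset.mem_range.2 (sigs_lt hc L.reverse (Finset.mem_range.1 hr)))
    (fun r hr => sigs_reverse hc L (Finset.mem_range.1 hr))
    (fun r hr => by
      have := sigs_reverse hc L.reverse (Finset.mem_range.1 hr)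
      rwa [List.reverse_reverse] at this)
    (fun r hr => by rw [valR_pull hc L x (Finset.mem_range.1 hr)])

theorem sq_le_quadR (x : Fin D.rank → ℝ) (i : Fin D.rank) : x i ^ 2 ≤ quadR D T x := by
  rw [← valR_simple hc x i]
  exact Finset.single_le_sum (f := fun r => valR D T x r ^ 2) (fun r _ => sq_nonneg _)
    (Finset.mem_range.2 (simple_lt hc i.2))

theorem closedPos_high {x : Fin D.rank → ℝ} : ClosedPos D T (HighRoot D T x) := by
  refine ⟨fun r _ h => h.1, fun r s v hr hs h1 h2 hv => ⟨(closedPos_pos hc).2 r s v hr hs h1.1 h2.1 hv, ?_⟩⟩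
  obtain ⟨-, a, b, ha, hb, e⟩ := hv
  rw [valR_comb hc x e]
  have ha' : (1 : ℝ) ≤ (a : ℝ) := by exact_mod_cast ha
  have hb' : (1 : ℝ) ≤ (b : ℝ) := by exact_mod_cast hb
  have := h1.2; have := h2.2
  push_cast
  nlinarith

theorem exists_dominant_word (z : Fin D.rank → ℝ) :
    ∃ M : List (Fin D.rank), ∀ i, 0 ≤ pullR D T M z i := by
  classical
  let S := {p : Fin D.nroots → Fin D.nroots // ∃ M : List (Fin D.rank), ∀ r, (p r : ℕ) = sigs D T M r}
  let mk : List (Fin D.rank) → S := fun M =>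
    ⟨fun r => ⟨sigs D T M r, sigs_lt hc M r.2⟩, M, fun _ => rfl⟩
  haveI : Nonempty S := ⟨mk []⟩
  let pos : Finset (Fin D.nroots) := Finset.univ.filter fun r => D.nroots / 2 ≤ r.val
  let f : S → ℝ := fun p => ∑ r ∈ pos, valR D T z (p.1 r)
  obtain ⟨p, hp⟩ := Finite.exists_max f
  obtain ⟨M, hM⟩ := p.2
  refine ⟨M, fun i => ?_⟩
  by_contra hneg
  push Not at hneg
  set s := D.simple i.val with hs
  have hsn : s < D.nroots := simple_lt hc i.2
  have h := hp (mk (M ++ [i]))
  apply not_lt.2 h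
  let s' : Fin D.nroots := ⟨s, hsn⟩
  have hs' : s' ∈ pos := Finset.mem_filter.2 ⟨Finset.mem_univ _, half_le_simple hc i.2⟩
  have e1 : f p = valR D T z (sigs D T M s) + ∑ r ∈ pos.erase s', valR D T z (sigs D T M r) := by
    show ∑ r ∈ pos, valR D T z (p.1 r) = _
    rw [← Finset.add_sum_erase _ _ hs', hM s']
    congr 1
    exact Finset.sum_congr rfl fun r _ => by rw [hM r]
  have e2 : f (mk (M ++ [i])) =
      valR D T z (sigs D T M (D.neg s)) + ∑ r ∈ pos.erase s', valR D T z (sigs D T M r) := by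
    show ∑ r ∈ pos, valR D T z (sigs D T (M ++ [i]) r) = _
    rw [← Finset.add_sum_erase _ _ hs']
    congr 1
    · rw [sigs_append]
      show valR D T z (sigs D T M (sig D T i s)) = _
      rw [sig_simple hc i]
    · let σ : Fin D.nroots → Fin D.nroots := fun r => ⟨sig D T i r, sig_lt hc i r.2⟩
      have hσ : ∀ r ∈ pos.erase s', σ r ∈ pos.erase s' := fun r hr => by
        obtain ⟨h1, h2⟩ := Finset.mem_erase.1 hr
        have h3 := sig_pos hc i r.2 (Finset.mem_filter.1 h2).2 (fun e => h1 (Fin.ext e))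
        exact Finset.mem_erase.2 ⟨fun e => h3.2 (congrArg Fin.val e), Finset.mem_filter.2 ⟨Finset.mem_univ _, h3.1⟩⟩
      exact Finset.sum_nbij' σ σ hσ hσ (fun r _ => Fin.ext (sig_sig hc i r.2))
        (fun r _ => Fin.ext (sig_sig hc i r.2)) (fun r _ => by rw [sigs_append]; rfl)
  rw [e1, e2, sigs_neg hc M hsn, valR_neg hc z (sigs_lt hc M hsn)]
  have : valR D T z (sigs D T M s) < 0 := hneg
  linarith

variable (hcomm : CommOne D T)
include hcomm

theorem borel_le_normalizer_high {x : Fin D.rank → ℝ} (hx : ∀ i, 0 ≤ x i) :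
    D.borelSubgroup F ≤ Subgroup.normalizer (uGen D F (HighRoot D T x) : Set (GL D.Idx F)) := by
  rw [ChevalleyDatum.borelSubgroup, posUnipotent_eq hc]
  refine sup_le ?_ (diagonal_le_normalizer hc _)
  rw [uGen_le_iff]
  intro a ha hap t
  refine elX_mem_normalizer hc hcomm ha (fun s hs hS _ => ⟨ne_neg_of_pos hc ha hap hS.1, fun v hv => ?_⟩) t
  refine ⟨(closedPos_pos hc).2 a s v ha hs hap hS.1 hv, ?_⟩
  obtain ⟨-, α, β, -, hβ, e⟩ := hv
  rw [valR_comb hc x e]
  have hb' : (1 : ℝ) ≤ (β : ℝ) := by exact_mod_cast hβ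
  have h0 : (0 : ℝ) ≤ (α : ℝ) := Nat.cast_nonneg α
  have := valR_nonneg hc hx ha hap; have := hS.2
  push_cast
  nlinarith

/-- the minimising pairs differ by elements of the parabolic subgroup of the point -/
theorem minimiser_unique {R : Subgroup (GL D.Idx F)} {g h : GL D.Idx F} {x : Fin D.rank → ℝ}
    (hg : Feasible D T R g x) (hh : Feasible D T R h x)
    (hmin : ∀ g' x', Feasible D T R g' x' → quadR D T x ≤ quadR D T x') :
    g⁻¹ * h ∈ D.parabolicSubgroup F {j | ∃ hj : j < D.rank, x ⟨j, hj⟩ = 0} := by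
  classical
  set J : Set ℕ := {j | ∃ hj : j < D.rank, x ⟨j, hj⟩ = 0} with hJ
  obtain ⟨hgG, hx, hgR⟩ := hg
  obtain ⟨hhG, -, hhR⟩ := hh
  have hB := borel_le_normalizer_high hc hcomm hx (F := F)
  obtain ⟨L, u, d, v, hu, hd, hv, e⟩ := ChevField.exists_bruhat hc hcomm (mul_mem (inv_mem hgG) hhG)
  have hub : u * d ∈ D.borelSubgroup F := mul_mem (pos_le_borel hc hu) (diagonal_le_borel hc hd)
  have hvb : v ∈ D.borelSubgroup F := pos_le_borel hc (uGen_mono (fun r _ hP => hP.1) hv)
  set a := g * (u * d) with ha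
  set n := nProd D F L with hn
  have hh' : h = a * n * v := by rw [ha, mul_assoc, mul_assoc, ← mul_assoc (u * d), ← e]; group
  let P : ℕ → Prop := fun s => HighRoot D T x s ∧ KeepRoot D T L s
  let P' : ℕ → Prop := fun r => D.nroots / 2 ≤ r ∧ ∃ s, s < D.nroots ∧ P s ∧ sigs D T L s = r
  have hP : ClosedPos D T P := closedPos_and hc (closedPos_high hc) (closedPos_keep hc L)
  have hP' : ClosedPos D T P' := closedPos_img hc L hP
  have key : ∀ k ∈ R, a⁻¹ * k * a ∈ uGen D F (fun r => HighRoot D T x r ∧ P' r) := by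
    intro k hk
    have h1 : a⁻¹ * k * a ∈ uGen D F (HighRoot D T x) := by
      have := ((Subgroup.mem_normalizer_iff).1 (hB (inv_mem hub)) _).1 (hgR k hk)
      convert this using 1
      rw [ha]; group
    have h2 : n⁻¹ * (a⁻¹ * k * a) * n ∈ uGen D F (HighRoot D T x) := by
      have := ((Subgroup.mem_normalizer_iff).1 (hB hvb) _).1 (hhR k hk)
      convert this using 1
      rw [hh']; group
    have h3 : n⁻¹ * (a⁻¹ * k * a) * n ∈ uGen D F (KeepRoot D T L) := by
      refine mem_keep hc hcomm L (uGen_mono (fun r _ hr => hr.1) h2) ?_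
      rw [show nProd D F L * (n⁻¹ * (a⁻¹ * k * a) * n) * (nProd D F L)⁻¹ = a⁻¹ * k * a by rw [hn]; group]
      exact pos_le_borel hc (uGen_mono (fun r _ hr => hr.1) h1)
    have h4 := uGen_inter hc hcomm (closedPos_high hc) (closedPos_keep hc L) h2 h3
    have h5 := ChevField.nProd_conj_uGen hc L (Q := P')
      (fun r hr hPr => ⟨hPr.2.2, r, hr, hPr, rfl⟩) h4
    rw [show nProd D F L * (n⁻¹ * (a⁻¹ * k * a) * n) * (nProd D F L)⁻¹ = a⁻¹ * k * a by rw [hn]; group] at h5
    exact uGen_inter hc hcomm (closedPos_high hc) hP' h1 h5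
  set y := pullR D T L.reverse x with hy
  set z : Fin D.rank → ℝ := fun i => (x i + y i) / 2 with hz
  have hvz : ∀ r, valR D T z r = (valR D T x r + valR D T y r) / 2 := by
    intro r
    simp only [valR, hz, ← Finset.sum_add_distrib, Finset.sum_div]
    exact Finset.sum_congr rfl fun j _ => by ring
  obtain ⟨M, hM⟩ := exists_dominant_word hc z
  obtain ⟨d', hd', einv⟩ := nProd_inv hc (F := F) M
  have haG : a ∈ D.group F := mul_mem hgG (borel_le_group hc hub)
  have hfeas : Feasible D T R (a * nProd D F M) (pullR D T M z) := by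
    refine ⟨mul_mem haG (monomial_le_group hc (nProd_mem_monomial hc M)), hM, fun k hk => ?_⟩
    have h6 := ChevField.nProd_conj_uGen hc M.reverse (Q := HighRoot D T (pullR D T M z)) (fun r hr hPr => by
      obtain ⟨⟨-, hxr⟩, -, s, hs, ⟨⟨-, hxs⟩, -⟩, rfl⟩ := hPr
      have hw := sigs_lt hc L hs (T := T)
      set w := sigs D T M.reverse (sigs D T L s)
      have hwn : w < D.nroots := sigs_lt hc M.reverse hw
      have hMw : sigs D T M w = sigs D T L s := by
        have := sigs_reverse hc M.reverse hw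
        rwa [List.reverse_reverse] at this
      have hyr : valR D T y (sigs D T L s) = valR D T x s := by
        rw [hy, valR_pull hc _ x hw, sigs_reverse hc L hs]
      have hval : 1 ≤ valR D T (pullR D T M z) w := by
        rw [valR_pull hc M z hwn, hMw, hvz, hyr]
        linarith
      exact ⟨pos_of_valR hc hM hwn (by linarith), hval⟩) (key k hk)
    have h7 := diag_conj_mem hc (HighRoot D T (pullR D T M z)) hd' h6
    convert h7 using 1
    rw [mul_inv_rev, einv]
    have e' : nProd D F M = (d' * nProd D F M.reverse)⁻¹ := by rw [← einv, inv_inv]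
    conv_lhs => rw [e']
    group
  have hQ := hmin _ _ hfeas
  rw [quadR_pull hc] at hQ
  have hQy : quadR D T y = quadR D T x := quadR_pull hc _ x
  have hzero : ∀ r, r < D.nroots → valR D T x r = valR D T y r := by
    intro r hr
    have hsum : ∑ r ∈ Finset.range D.nroots, (valR D T x r - valR D T y r) ^ 2
        = 2 * quadR D T x + 2 * quadR D T y - 4 * quadR D T z := by
      simp only [quadR, Finset.mul_sum, ← Finset.sum_add_distrib, ← Finset.sum_sub_distrib]
      exact Finset.sum_congr rfl fun s _ => by rw [hvz]; ring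
    have h0 : ∑ r ∈ Finset.range D.nroots, (valR D T x r - valR D T y r) ^ 2 ≤ 0 := by
      rw [hsum, hQy]; linarith
    have h8 := le_trans (Finset.single_le_sum (f := fun s => (valR D T x s - valR D T y s) ^ 2)
      (fun s _ => sq_nonneg _) (Finset.mem_range.2 hr)) h0
    exact sub_eq_zero.1 (by nlinarith [sq_nonneg (valR D T x r - valR D T y r)])
  have hnP : n ∈ D.parabolicSubgroup F J := by
    refine nProd_mem_parabolic hc (F := F) _ L rfl fun r hr hR => ?_
    obtain ⟨hp, j, hj, hne⟩ := (outRoot_iff hc hr).1 hR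
    have hxj : 0 < x j := lt_of_le_of_ne (hx j) fun e0 => hj ⟨j.2, e0.symm⟩
    have hpos : 0 < valR D T x r := by
      refine lt_of_lt_of_le (mul_pos (?_ : (0 : ℝ) < (rv D T r j : ℝ)) hxj)
        (Finset.single_le_sum (f := fun i => (rv D T r i : ℝ) * x i)
          (fun i _ => mul_nonneg (by exact_mod_cast rv_nonneg hc hr hp i) (hx i)) (Finset.mem_univ j))
      exact_mod_cast lt_of_le_of_ne (rv_nonneg hc hr hp j) (Ne.symm hne)
    refine pos_of_valR hc hx (sigs_lt hc L hr) ?_
    rw [hzero _ (sigs_lt hc L hr), hy, valR_pull hc _ x (sigs_lt hc L hr), sigs_reverse hc L hr]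
    exact hpos
  rw [e]
  exact mul_mem (mul_mem (Subgroup.mem_sup_left hub) hnP) (Subgroup.mem_sup_left hvb)

theorem exists_minimiser [Finite F] (p : ℕ) [Fact p.Prime] [CharP F p] {R : Subgroup (GL D.Idx F)}
    (hRG : R ≤ D.group F) (hR : IsPGroup p ↥R) :
    ∃ g x, Feasible D T R g x ∧ ∀ g' x', Feasible D T R g' x' → quadR D T x ≤ quadR D T x' := by
  classical
  obtain ⟨P, hP⟩ := ChevAut.sylow_pos hc hcomm (F := F) p
  obtain ⟨Q, hQ⟩ := (hR.of_equiv (Subgroup.subgroupOfEquivOfLe hRG).symm).exists_le_sylow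
  obtain ⟨c, hcQ⟩ := MulAction.exists_smul_eq ↥(D.group F) P Q
  have h0 : Feasible D T R (c : GL D.Idx F) (fun _ => 1) := by
    refine ⟨c.2, fun _ => zero_le_one, fun k hk => ?_⟩
    have h1 : (⟨k, hRG hk⟩ : ↥(D.group F)) ∈ (Q : Subgroup ↥(D.group F)) := hQ hk
    rw [← hcQ, Sylow.coe_subgroup_smul, Subgroup.mem_pointwise_smul_iff_inv_smul_mem, hP,
      Subgroup.mem_subgroupOf] at h1
    have h2 : (c : GL D.Idx F)⁻¹ * k * c ∈ uGen D F (fun r => D.nroots / 2 ≤ r) := by
      simpa [MulAut.smul_def] using h1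
    refine uGen_mono (fun r hr hp => ?_) h2
    refine ⟨hp, ?_⟩
    have hnz : ∃ j, rv D T r j ≠ 0 := by
      by_contra hh; push Not at hh; exact rv_ne_zero hc hr (funext hh)
    obtain ⟨j, hj⟩ := hnz
    have hj1 : (1 : ℝ) ≤ (rv D T r j : ℝ) := by
      exact_mod_cast (lt_of_le_of_ne (rv_nonneg hc hr hp j) (Ne.symm hj))
    refine le_trans (by simpa using hj1) (Finset.single_le_sum (f := fun i => (rv D T r i : ℝ) * (1 : ℝ))
      (fun i _ => mul_nonneg (by exact_mod_cast rv_nonneg hc hr hp i) zero_le_one) (Finset.mem_univ j))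
  let x₀ : Fin D.rank → ℝ := fun _ => 1
  let good : Finset (Finset ℕ) := (Finset.range D.nroots).powerset.filter fun S =>
    ∃ g ∈ D.group F, (∀ r ∈ S, D.nroots / 2 ≤ r) ∧ ∀ k ∈ R, g⁻¹ * k * g ∈ uGen D F (fun r => r ∈ S)
  let C : Set (Fin D.rank → ℝ) :=
    {x | quadR D T x ≤ quadR D T x₀} ∩ ⋃ S ∈ good, {x | (∀ i, 0 ≤ x i) ∧ ∀ r ∈ S, 1 ≤ valR D T x r}
  have hmem : ∀ g x, Feasible D T R g x → quadR D T x ≤ quadR D T x₀ → x ∈ C := by
    rintro g x ⟨hg, hx, hk⟩ hle
    refine ⟨hle, Set.mem_biUnion (x := (Finset.range D.nroots).filter fun r => HighRoot D T x r) ?_ ⟨hx, ?_⟩⟩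
    · refine Finset.mem_filter.2 ⟨Finset.mem_powerset.2 (Finset.filter_subset _ _), g, hg,
        fun r hr => (Finset.mem_filter.1 hr).2.1, fun k hkR => uGen_mono (fun r hr h => ?_) (hk k hkR)⟩
      exact Finset.mem_filter.2 ⟨Finset.mem_range.2 hr, h⟩
    · exact fun r hr => (Finset.mem_filter.1 hr).2.2
  have hcont : ∀ r, Continuous fun x : Fin D.rank → ℝ => valR D T x r := fun r => by
    unfold valR; fun_prop
  have hQc : Continuous fun x : Fin D.rank → ℝ => quadR D T x := by
    unfold quadR; exact continuous_finset_sum _ fun r _ => (hcont r).pow 2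
  have hclosed : IsClosed C := by
    refine (isClosed_le hQc continuous_const).inter (Set.Finite.isClosed_biUnion good.finite_toSet fun S _ => ?_)
    simp only [Set.setOf_and, Set.setOf_forall]
    exact (isClosed_iInter fun i => isClosed_le continuous_const (continuous_apply i)).inter
      (isClosed_iInter fun r => isClosed_iInter fun _ => isClosed_le continuous_const (hcont r))
  have hsub : C ⊆ Set.Icc (fun _ => -(quadR D T x₀ + 1)) (fun _ => quadR D T x₀ + 1) := by
    rintro x ⟨hle, -⟩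
    have hb : ∀ i, |x i| ≤ quadR D T x₀ + 1 := fun i => by
      have h1 := le_trans (sq_le_quadR hc x i) hle
      nlinarith [sq_nonneg (|x i| - 1), sq_abs (x i), abs_nonneg (x i)]
    exact ⟨fun i => (abs_le.1 (hb i)).1, fun i => (abs_le.1 (hb i)).2⟩
  obtain ⟨x, hxC, hxmin⟩ := (isCompact_Icc.of_isClosed_subset hclosed hsub).exists_isMinOn
    ⟨x₀, hmem _ _ h0 le_rfl⟩ hQc.continuousOn
  obtain ⟨hle, hxU⟩ := hxC
  simp only [Set.mem_iUnion, Set.mem_setOf_eq] at hxU
  obtain ⟨S, hS, hx0, hxS⟩ := hxU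
  obtain ⟨-, g, hg, hSp, hSk⟩ := Finset.mem_filter.1 hS
  refine ⟨g, x, ⟨hg, hx0, fun k hk => uGen_mono (fun r _ hr => ?_) (hSk k hk)⟩, fun g' x' h' => ?_⟩
  · exact ⟨hSp r hr, hxS r hr⟩
  · by_cases hq : quadR D T x' ≤ quadR D T x₀
    · exact hxmin (hmem g' x' h' hq)
    · exact le_trans hle (le_of_lt (not_le.1 hq))

/-- the Borel–Tits theorem -/
theorem borel_tits [Finite F] (p : ℕ) [Fact p.Prime] [CharP F p] {R : Subgroup (GL D.Idx F)}
    (hRG : R ≤ D.group F) (hR : IsPGroup p ↥R) (hne : R ≠ ⊥) :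
    ∃ g ∈ D.group F, ∃ J : Set ℕ, (∃ i, i < D.rank ∧ i ∉ J) ∧
      Subgroup.normalizer (R : Set (GL D.Idx F)) ⊓ D.group F ≤
        (D.parabolicSubgroup F J).map (MulAut.conj g).toMonoidHom ∧
      R ≤ (D.unipotentRadical F J).map (MulAut.conj g).toMonoidHom := by
  obtain ⟨g, x, hgx, hmin⟩ := exists_minimiser hc hcomm p hRG hR
  set J : Set ℕ := {j | ∃ hj : j < D.rank, x ⟨j, hj⟩ = 0} with hJ
  obtain ⟨hgG, hx, hgR⟩ := hgx
  have hout : ∀ r, r < D.nroots → HighRoot D T x r → OutRoot D J r := by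
    intro r hr h
    refine (outRoot_iff hc hr).2 ⟨h.1, ?_⟩
    by_contra hh
    push Not at hh
    have h0 : valR D T x r = 0 := Finset.sum_eq_zero fun j _ => by
      by_cases hj : (j : ℕ) ∈ J
      · obtain ⟨_, e⟩ := hj
        rw [show x j = 0 from e, mul_zero]
      · rw [hh j hj, Int.cast_zero, zero_mul]
    linarith [h.2]
  refine ⟨g, hgG, J, ?_, ?_, ?_⟩
  · by_contra hall
    push Not at hall
    refine hne (eq_bot_iff.2 fun k hk => ?_)
    have hbot : uGen D F (HighRoot D T x) = ⊥ := by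
      rw [eq_bot_iff, uGen_le_iff]
      intro r hr h
      obtain ⟨-, j, hj, -⟩ := (outRoot_iff hc hr).1 (hout r hr h)
      exact absurd (hall j j.2) hj
    have h1 := hgR k hk
    rw [hbot, Subgroup.mem_bot] at h1
    rw [Subgroup.mem_bot]
    have : k = g * (g⁻¹ * k * g) * g⁻¹ := by group
    rw [this, h1]; group
  · rintro n ⟨hn, hnG⟩
    have hfeas : Feasible D T R (n * g) x := ⟨mul_mem hnG hgG, hx, fun k hk => by
      have h1 := hgR _ ((Subgroup.mem_normalizer_iff''.1 hn k).1 hk)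
      convert h1 using 1
      group⟩
    exact ⟨g⁻¹ * (n * g), minimiser_unique hc hcomm ⟨hgG, hx, hgR⟩ hfeas hmin, by
      simp [mul_assoc]⟩
  · intro k hk
    refine ⟨g⁻¹ * k * g, ?_, by simp [mul_assoc]⟩
    rw [SetLike.mem_coe, unipotentRadical_eq hc]
    exact uGen_mono hout (hgR k hk)

end

end CfsgLib.ChevCent
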