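import Cfsg.Agent.Lib.ChevCent.WeylAct
import Cfsg.Agent.Lib.ChevCent.Optimal
import Cfsg.Agent.Lib.ChevCent.CycMatrix

/-!
# Weyl elements as integral matrices; regular characters
-/

set_option autoImplicit false
set_option linter.unusedSectionVars false

namespace CfsgLib.ChevCent

open Cfsg.Lie CfsgLib.Chev
open scoped Matrix

variable {D : ChevalleyDatum} {T : Tabs} {F : Type*} [Field F]

theorem chi_sum {ι : Type*} (χ : Fin D.rank → Fˣ) (s : Finset ι) (v : ι → (Fin D.rank → ℤ)) :
    chi χ (∑ i ∈ s, v i) = ∏ i ∈ s, chi χ (v i) := by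
  classical
  induction s using Finset.induction with
  | empty => simp [chi_zero]
  | insert a t ha ih => rw [Finset.sum_insert ha, Finset.prod_insert ha, chi_add, ih]

theorem chi_ext {χ ψ : Fin D.rank → Fˣ} (h : ∀ v, chi χ v = chi ψ v) : χ = ψ := by
  funext j
  simpa [chi_single] using h (Pi.single j 1)

section
variable (hc : Checked D T)
include hc

/-- the matrix of a permutation of the roots -/
noncomputable def permMat (π : Equiv.Perm (Fin D.nroots)) : Matrix (Fin D.rank) (Fin D.rank) ℤ :=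
  Matrix.of fun i j => rv D T (π ⟨D.simple j.val, simple_lt hc j.2⟩).val i

theorem permMat_mulVec {π : Equiv.Perm (Fin D.nroots)} (hπ : π ∈ weylGrp hc) (r : Fin D.nroots) :
    permMat hc π *ᵥ rv D T r.val = rv D T (π r).val := by
  obtain ⟨L, rfl⟩ := hπ
  let φ : (Fin D.rank → ℤ) →+ (Fin D.rank → ℤ) := AddMonoidHom.mk' (refls D L) (refls_add L)
  have e : rv D T r.val = ∑ i, rv D T r.val i • (Pi.single i 1 : Fin D.rank → ℤ) := by
    funext j
    simp [Finset.sum_apply, Pi.single_apply]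
  show _ = rv D T (sigs D T L r)
  rw [rv_sigs hc L r.2, show refls D L (rv D T r.val) = φ (rv D T r.val) from rfl]
  conv_rhs => rw [e, map_sum]
  funext i
  simp only [Matrix.mulVec, dotProduct, permMat, Matrix.of_apply, Finset.sum_apply, map_zsmul, Pi.smul_apply,
    smul_eq_mul]
  refine Finset.sum_congr rfl fun j _ => ?_
  rw [mul_comm]
  congr 1
  show rv D T (sigs D T L (D.simple j.val)) i = refls D L (Pi.single j 1) i
  rw [rv_sigs hc L (simple_lt hc j.2), rv_simple hc]

theorem permMat_single (π : Equiv.Perm (Fin D.nroots)) (j : Fin D.rank) :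
    permMat hc π *ᵥ Pi.single j 1 = rv D T (π ⟨D.simple j.val, simple_lt hc j.2⟩).val := by
  rw [Matrix.mulVec_single_one]; rfl

theorem permMat_mul {π π' : Equiv.Perm (Fin D.nroots)} (hπ : π ∈ weylGrp hc) :
    permMat hc (π * π') = permMat hc π * permMat hc π' := by
  refine Matrix.ext_of_mulVec_single fun j => ?_
  rw [permMat_single, ← Matrix.mulVec_mulVec, permMat_single, permMat_mulVec hc hπ]
  rfl

theorem permMat_one : permMat hc 1 = 1 := by
  refine Matrix.ext_of_mulVec_single fun j => ?_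
  rw [permMat_single, Matrix.one_mulVec]
  exact rv_simple hc j

theorem permMat_pow {π : Equiv.Perm (Fin D.nroots)} (hπ : π ∈ weylGrp hc) (i : ℕ) :
    permMat hc (π ^ i) = permMat hc π ^ i := by
  induction i with
  | zero => rw [pow_zero, pow_zero, permMat_one]
  | succ i ih => rw [pow_succ, pow_succ, permMat_mul hc (pow_mem hπ i), ih]

theorem chi_permMat {π : Equiv.Perm (Fin D.nroots)} (χ : Fin D.rank → Fˣ) (v : Fin D.rank → ℤ) :
    chi χ (permMat hc π *ᵥ v) = chi (permAct hc π χ) v := by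
  have e : permMat hc π *ᵥ v = ∑ j, v j • rv D T (π ⟨D.simple j.val, simple_lt hc j.2⟩).val := by
    funext i
    simp only [Matrix.mulVec, dotProduct, permMat, Matrix.of_apply, Finset.sum_apply, Pi.smul_apply, smul_eq_mul]
    exact Finset.sum_congr rfl fun j _ => mul_comm _ _
  rw [e, chi_sum]
  exact Finset.prod_congr rfl fun j _ => chi_smul _ _ _

/-- the stabiliser of a character in the Weyl group -/
noncomputable def stabW (x : Fin D.rank → Fˣ) : Subgroup (Equiv.Perm (Fin D.nroots)) where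
  carrier := {π | π ∈ weylGrp hc ∧ permAct hc π x = x}
  one_mem' := ⟨one_mem _, permAct_one hc x⟩
  mul_mem' := fun {a b} ha hb => ⟨mul_mem ha.1 hb.1, by rw [permAct_mul hc ha.1, ha.2, hb.2]⟩
  inv_mem' := fun {a} ha => ⟨inv_mem ha.1, by
    conv_lhs => rw [← ha.2]
    rw [← permAct_mul hc ha.1, mul_inv_cancel, permAct_one]⟩

open Classical in
/-- the sum of the matrices of a finite group of permutations -/
noncomputable def sumMat (W : Subgroup (Equiv.Perm (Fin D.nroots))) : Matrix (Fin D.rank) (Fin D.rank) ℤ :=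
  ∑ π : ↥W, permMat hc π.1

theorem sumMat_mul {W : Subgroup (Equiv.Perm (Fin D.nroots))} (hW : W ≤ weylGrp hc) {σ : Equiv.Perm (Fin D.nroots)}
    (hσ : σ ∈ W) : sumMat hc W * permMat hc σ = sumMat hc W := by
  classical
  rw [sumMat, Matrix.sum_mul]
  exact Fintype.sum_equiv (Equiv.mulRight (⟨σ, hσ⟩ : ↥W)) _ _ fun π => (permMat_mul hc (hW π.2)).symm

theorem chi_sumMat {x : Fin D.rank → Fˣ} {W : Subgroup (Equiv.Perm (Fin D.nroots))} (hW : W ≤ stabW hc x)
    (v : Fin D.rank → ℤ) : chi x (sumMat hc W *ᵥ v) = chi x v ^ Nat.card ↥W := by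
  classical
  rw [sumMat, Matrix.sum_mulVec, chi_sum, Finset.prod_congr rfl (g := fun _ => chi x v) (fun π _ => by
    rw [chi_permMat, (hW π.2).2])]
  rw [Finset.prod_const, Finset.card_univ, Nat.card_eq_fintype_card]

/-- an eigencharacter of a Weyl element with cyclotomic characteristic polynomial is regular -/
theorem regular_of_eigen {π₀ : Equiv.Perm (Fin D.nroots)} (hπ₀ : π₀ ∈ weylGrp hc) {d : ℕ} (hd : 0 < d)
    (hcp : (permMat hc π₀).charpoly = Polynomial.cyclotomic d ℤ) {r q : ℕ} [Fact r.Prime] (hr2 : r ≠ 2)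
    (hrW : ¬ r ∣ Nat.card ↥(weylGrp hc)) {x : Fin D.rank → Fˣ} (hxr : x ^ r = 1) (hx1 : x ≠ 1)
    (hx : permAct hc π₀ x = x ^ q) {s : ℕ} (hs : s < D.nroots) : chi x (rv D T s) ≠ 1 := by
  classical
  have hr := (Fact.out : r.Prime)
  intro hs1
  set A := permMat hc π₀
  have hpow : ∀ (i : ℕ) (v : Fin D.rank → ℤ), chi x (A ^ i *ᵥ v) = chi x v ^ q ^ i := by
    intro i
    induction i with
    | zero => intro v; simp
    | succ i ih =>
      intro v
      rw [pow_succ, ← Matrix.mulVec_mulVec, ih, chi_permMat, hx, chi_pow', ← pow_mul, ← pow_succ']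
  set S := sumMat hc (stabW hc x)
  have horb : ∀ i, S *ᵥ (A ^ i *ᵥ rv D T s) = 0 := by
    intro i
    set β := (π₀ ^ i) ⟨s, hs⟩
    have hβ : A ^ i *ᵥ rv D T s = rv D T β.val := by
      rw [← permMat_pow hc hπ₀, permMat_mulVec hc (pow_mem hπ₀ i) ⟨s, hs⟩]
    have hxβ : chi x (rv D T β.val) = 1 := by rw [← hβ, hpow, hs1, one_pow]
    obtain ⟨π, hπ, hπs, hπk⟩ := exists_reflection hc β.2
    have hπx : π ∈ stabW hc x := by
      refine ⟨hπ, funext fun j => ?_⟩
      obtain ⟨k, hk⟩ := hπk ⟨D.simple j.val, simple_lt hc j.2⟩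
      show chi x (rv D T (π _).val) = x j
      rw [hk, chi_sub, chi_smul, hxβ, one_zpow, div_one, rv_simple hc, chi_single, zpow_one]
    have h1 : S *ᵥ rv D T β.val = -(S *ᵥ rv D T β.val) := by
      conv_lhs => rw [show S = S * permMat hc π from (sumMat_mul hc (W := stabW hc x) (fun _ h => h.1) hπx).symm]
      rw [← Matrix.mulVec_mulVec, permMat_mulVec hc hπ, hπs, rv_neg hc β.2, Matrix.mulVec_neg]
    rw [hβ]
    funext j
    have := congrFun h1 j
    simp only [Pi.neg_apply] at this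
    simp only [Pi.zero_apply]
    omega
  have hS : S = 0 := eq_zero_of_orbit hd hcp (rv_ne_zero hc hs) horb
  refine hx1 (funext fun j => ?_)
  have h1 := chi_sumMat hc (le_refl (stabW hc x)) (Pi.single j 1)
  rw [show sumMat hc (stabW hc x) = 0 from hS, Matrix.zero_mulVec, chi_zero, chi_single, zpow_one] at h1
  have hco : Nat.Coprime r (Nat.card ↥(stabW hc x)) := hr.coprime_iff_not_dvd.2 fun h =>
    hrW (h.trans (Subgroup.card_dvd_of_le fun _ h => h.1))
  have h2 : x j ^ r = 1 := congrFun hxr j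
  exact orderOf_eq_one_iff.1 (Nat.eq_one_of_dvd_coprimes hco (orderOf_dvd_of_pow_eq_one h2)
    (orderOf_dvd_of_pow_eq_one h1.symm))

/-- a regular character is fixed by no non-trivial Weyl element -/
theorem stab_regular {r : ℕ} [Fact r.Prime] (hrW : ¬ r ∣ Nat.card ↥(weylGrp hc)) {x : Fin D.rank → Fˣ}
    (hxr : x ^ r = 1) (hreg : ∀ s, s < D.nroots → chi x (rv D T s) ≠ 1) {π : Equiv.Perm (Fin D.nroots)}
    (hπ : π ∈ stabW hc x) : π = 1 := by
  classical
  have hr := (Fact.out : r.Prime)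
  set Λ := Subgroup.zpowers π
  have hΛ : Λ ≤ stabW hc x := Subgroup.zpowers_le.2 hπ
  set S := sumMat hc Λ
  have hco : Nat.Coprime r (Nat.card ↥Λ) := hr.coprime_iff_not_dvd.2 fun h =>
    hrW (h.trans (Subgroup.card_dvd_of_le fun _ h => (hΛ h).1))
  have hne : ∀ s : Fin D.nroots, S *ᵥ rv D T s.val ≠ 0 := by
    intro s h0
    have h1 := chi_sumMat hc hΛ (rv D T s.val)
    rw [show sumMat hc Λ *ᵥ rv D T s.val = 0 from h0, chi_zero] at h1
    exact hreg s.1 s.2 (orderOf_eq_one_iff.1 (Nat.eq_one_of_dvd_coprimes hco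
      (orderOf_dvd_of_pow_eq_one (by rw [← chi_pow', hxr, chi_one])) (orderOf_dvd_of_pow_eq_one h1.symm)))
  let P : Fin D.nroots → Polynomial ℤ := fun s =>
    ∑ i : Fin D.rank, Polynomial.C ((S *ᵥ rv D T s.val) i) * Polynomial.X ^ (i : ℕ)
  have hP : ∀ s, P s ≠ 0 := by
    intro s h0
    refine hne s (funext fun i => ?_)
    have := congrArg (fun p => p.coeff (i : ℕ)) h0
    simpa [P, Polynomial.finset_sum_coeff, Polynomial.coeff_C_mul_X_pow, Fin.val_inj] using this
  obtain ⟨t, ht⟩ := Infinite.exists_notMem_finset (∏ s, P s).roots.toFinset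
  have hPt : ∀ s, (P s).eval t ≠ 0 := by
    intro s h0
    refine ht (Multiset.mem_toFinset.2 ((Polynomial.mem_roots (Finset.prod_ne_zero_iff.2 fun s _ => hP s)).2 ?_))
    show (∏ s, P s).eval t = 0
    rw [Polynomial.eval_prod]
    exact Finset.prod_eq_zero (Finset.mem_univ s) h0
  set f : (Fin D.rank → ℤ) → ℤ := fun v => ∑ i, (S *ᵥ v) i * t ^ (i : ℕ)
  have hfP : ∀ s : Fin D.nroots, f (rv D T s.val) = (P s).eval t := fun s => by
    simp [f, P, Polynomial.eval_finset_sum]
  set y : Fin D.rank → ℝ := fun j => (f (Pi.single j 1) : ℝ)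
  have hy : ∀ s : Fin D.nroots, valR D T y s.val = (((P s).eval t : ℤ) : ℝ) := by
    intro s
    rw [← hfP]
    simp only [valR, y, ← Int.cast_mul, ← Int.cast_sum]
    congr 1
    simp only [f, Finset.mul_sum]
    rw [Finset.sum_comm]
    refine Finset.sum_congr rfl fun i _ => ?_
    simp only [Matrix.mulVec, dotProduct, Finset.sum_mul, Pi.single_apply, mul_ite, mul_one, mul_zero,
      Finset.sum_ite_eq', Finset.mem_univ, if_true]
    exact Finset.sum_congr rfl fun j _ => by ring
  have hinv : ∀ s : Fin D.nroots, valR D T y (π s).val = valR D T y s.val := by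
    intro s
    rw [hy, hy, ← hfP, ← hfP, ← permMat_mulVec hc hπ.1 s]
    congr 1
    simp only [f, Matrix.mulVec_mulVec]
    rw [show S * permMat hc π = S from sumMat_mul hc (fun _ h => (hΛ h).1) (Subgroup.mem_zpowers π)]
  obtain ⟨M, hM⟩ := exists_dominant_word hc y
  set ρ := permOf hc M
  set u := ρ⁻¹ * π * ρ
  have hu : u ∈ weylGrp hc := mul_mem (mul_mem (inv_mem ⟨M, rfl⟩) hπ.1) ⟨M, rfl⟩
  obtain ⟨L, hL⟩ := hu
  have hpos : ∀ i : Fin D.rank, D.nroots / 2 ≤ sigs D T L (D.simple i.val) := by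
    intro i
    have hp := simple_lt hc i.2
    refine pos_of_valR hc hM (sigs_lt hc L hp) ?_
    rw [valR_pull hc M y (sigs_lt hc L hp)]
    have e : (⟨sigs D T M (sigs D T L (D.simple i.val)), sigs_lt hc M (sigs_lt hc L hp)⟩ : Fin D.nroots)
        = π (ρ ⟨D.simple i.val, hp⟩) := by
      have h1 : u ⟨D.simple i.val, hp⟩ = permOf hc L ⟨D.simple i.val, hp⟩ := by rw [hL]
      have h2 : ρ (permOf hc L ⟨D.simple i.val, hp⟩) = π (ρ ⟨D.simple i.val, hp⟩) := by
        rw [← h1]; simp [u]
      exact h2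
    have e' := congrArg Fin.val e
    simp only at e'
    rw [e', hinv]
    show 0 < valR D T y (sigs D T M (D.simple i.val))
    have h3 : valR D T (pullR D T M y) (D.simple i.val) = valR D T y (sigs D T M (D.simple i.val)) :=
      valR_pull hc M y hp
    have h4 := hy ⟨sigs D T M (D.simple i.val), sigs_lt hc M hp⟩
    refine lt_of_le_of_ne ?_ ?_
    · rw [← h3, valR_simple hc]; exact hM i
    · rw [show valR D T y (sigs D T M (D.simple i.val)) = _ from h4]
      exact_mod_cast (hPt _).symm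
  have hid : u = 1 := by
    rw [hL]
    refine Equiv.ext fun r => Fin.ext ?_
    show sigs D T L r = r
    exact sigs_eq_of_mem hc (F := ℚ) (M := []) (by
      rw [nProd_nil, inv_one, mul_one]; exact nProd_mem_of_pos hc L hpos) r.2
  have : π = ρ * u * ρ⁻¹ := by simp only [u]; group
  rw [this, hid]; group

end

end CfsgLib.ChevCent
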