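import Cfsg.Agent.Lib.ChevCent.SylowTorus
import Cfsg.Agent.Lib.ChevCent.WeylMatrix
import Cfsg.Agent.Lib.ChevField.Main
import Mathlib.RingTheory.Polynomial.Cyclotomic.Eval

/-!
# Cyclic self-centralising tori of order `Φ_d(q)` for `φ(d)` equal to the rank

An element of order `r` (a primitive prime divisor) of the group is conjugate over the field with `q^d` elements
into the split torus; it is regular and the Frobenius map acts on the torus as a Weyl element with characteristic
polynomial `Φ_d`, whose fixed group is the centraliser.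
-/

set_option autoImplicit false
set_option linter.unusedSectionVars false

namespace CfsgLib.ChevCent

open Cfsg.Lie CfsgLib.Chev CfsgLib.ChevField Polynomial
open scoped Matrix

variable {D : ChevalleyDatum} {T : Tabs} {F E : Type*} [Field F] [Field E]

/-- the extension of degree `d` of a finite field, with its Frobenius map -/
theorem exists_extension (F : Type*) [Field F] [Fintype F] {d : ℕ} (hd : 0 < d) :
    ∃ (E : Type) (_ : Field E) (_ : Fintype E) (ι : F →+* E) (σ : E →+* E),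
      (∀ a, σ a = a ↔ a ∈ Set.range ι) ∧ (∀ a, σ a = a ^ Fintype.card F) ∧
      Fintype.card E = Fintype.card F ^ d := by
  classical
  obtain ⟨p, hp⟩ := CharP.exists F
  obtain ⟨f, hpp, hf⟩ := FiniteField.card F p
  haveI := Fact.mk hpp
  haveI : NeZero d := ⟨hd.ne'⟩
  set E := FiniteField.Extension F p d
  letI : Fintype E := Fintype.ofFinite E
  set ι : F →+* E := algebraMap F E
  haveI : CharP E p := charP_of_injective_algebraMap ι.injective p
  set q := Fintype.card F
  have hq : 1 < q := Fintype.one_lt_card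
  set σ : E →+* E := iterateFrobenius E p f
  have hσ : ∀ x : E, σ x = x ^ q := fun x => by rw [iterateFrobenius_def, ← hf]
  refine ⟨E, inferInstance, inferInstance, ι, σ, fun x => ⟨fun hx => ?_, ?_⟩, hσ, ?_⟩
  · rw [hσ] at hx
    have hsub : Finset.univ.image ι ⊆ (X ^ q - X : E[X]).roots.toFinset := by
      intro y hy
      obtain ⟨b, -, rfl⟩ := Finset.mem_image.1 hy
      rw [Multiset.mem_toFinset, mem_roots (FiniteField.X_pow_card_sub_X_ne_zero E hq)]
      simp [IsRoot, ← map_pow, q, FiniteField.pow_card]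
    have hle : (X ^ q - X : E[X]).roots.toFinset.card ≤ q :=
      (Multiset.toFinset_card_le _).trans ((card_roots' _).trans
        (FiniteField.X_pow_card_sub_X_natDegree_eq E hq).le)
    have heq := Finset.eq_of_subset_of_card_le hsub (by
      rw [Finset.card_image_of_injective _ ι.injective, Finset.card_univ]; exact hle)
    have hxm : x ∈ (X ^ q - X : E[X]).roots.toFinset := by
      rw [Multiset.mem_toFinset, mem_roots (FiniteField.X_pow_card_sub_X_ne_zero E hq)]
      simp [IsRoot, hx]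
    rw [← heq] at hxm
    obtain ⟨b, -, rfl⟩ := Finset.mem_image.1 hxm
    exact ⟨b, rfl⟩
  · rintro ⟨b, rfl⟩
    rw [hσ, ← map_pow, FiniteField.pow_card]
  · rw [← Nat.card_eq_fintype_card, FiniteField.natCard_extension, Nat.card_eq_fintype_card]

/-- a finite commutative group with at most `l` roots of unity of each prime order `l` is cyclic -/
theorem isCyclic_of_prime_roots {A : Type*} [CommGroup A] [Finite A]
    (h : ∀ l : ℕ, l.Prime → Nat.card (powMonoidHom l : A →* A).ker ≤ l) : IsCyclic A := by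
  classical
  haveI := Fintype.ofFinite A
  have key : ∀ n : ℕ, 0 < n → Nat.card (powMonoidHom n : A →* A).ker ≤ n := by
    intro n
    induction n using Nat.strong_induction_on with
    | _ n ih =>
      intro hn
      by_cases h1 : n = 1
      · subst h1
        rw [show (powMonoidHom 1 : A →* A).ker = ⊥ from (Subgroup.eq_bot_iff_forall _).2 fun a ha => by
          simpa using ha, Subgroup.card_bot]
      obtain ⟨l, hl, m, rfl⟩ := Nat.exists_prime_and_dvd h1
      have hm : 0 < m := Nat.pos_of_mul_pos_left hn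
      let f : ↥(powMonoidHom (l * m) : A →* A).ker →* ↥(powMonoidHom m : A →* A).ker :=
        ((powMonoidHom l).comp (powMonoidHom (l * m) : A →* A).ker.subtype).codRestrict _ fun a => by
          show ((a : A) ^ l) ^ m = 1
          rw [← pow_mul]; exact a.2
      have hk : Nat.card ↥f.ker ≤ l := by
        refine le_trans (Nat.card_le_card_of_injective
          (fun a : ↥f.ker => (⟨(a.1 : A), congrArg Subtype.val a.2⟩ : ↥(powMonoidHom l : A →* A).ker)) ?_) (h l hl)
        intro a b e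
        exact Subtype.ext (Subtype.ext (congrArg Subtype.val e :))
      rw [← Subgroup.card_mul_index f.ker, Subgroup.index_ker]
      exact Nat.mul_le_mul hk ((Nat.card_le_card_of_injective _ Subtype.val_injective).trans
        (ih m (by
          have := hl.two_le
          calc m < 2 * m := by omega
            _ ≤ l * m := Nat.mul_le_mul_right m this) hm))
  refine isCyclic_of_card_pow_eq_one_le fun n hn => le_trans (le_of_eq ?_) (key n hn)
  rw [Nat.card_eq_fintype_card, ← Fintype.card_coe]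
  exact Fintype.card_congr (Equiv.subtypeEquivRight fun a => by simp)

theorem chi_zpow_vec (z : Fˣ) (w v : Fin D.rank → ℤ) :
    chi (fun j => z ^ w j : Fin D.rank → Fˣ) v = z ^ (w ⬝ᵥ v) := by
  simp only [chi, ← zpow_mul, dotProduct]
  exact prod_zpow_sum _ _ _

section
variable (hc : Checked D T) (hcomm : CommOne D T)
include hc hcomm

/-- an element of order `r` is conjugate into the split torus over a field containing the `r`-th roots of unity -/
theorem exists_torus_conj [Fintype E] (ι : F →+* E) {r k : ℕ} [Fact r.Prime] {e : ℕ}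
    (hm : Fintype.card E - 1 = r ^ k * e) (he : ¬ r ∣ e) (hk : 1 ≤ k) (hrQ : ¬ r ∣ Fintype.card E)
    {N : Fin D.rank → Fin D.rank → ℤ} {dd : ℕ}
    (hN : ∀ i j, ∑ k, N i k * cm D k j = if i = j then (dd : ℤ) else 0) (hdd : ¬ r ∣ dd)
    {J : List (Fin D.rank)} (hJ : ∀ i, i ∈ J) (hW : ¬ r ∣ wsum hc J 1) {y : GL D.Idx F} (hy : y ∈ D.group F)
    (hyr : y ^ r = 1) :
    ∃ g ∈ D.group E, ∃ x : Fin D.rank → Eˣ, x ^ r = 1 ∧ torus D T E x ∈ D.diagonalSubgroup E ∧
      glMap D ι y = g⁻¹ * torus D T E x * g := by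
  classical
  have hr := (Fact.out : r.Prime)
  set m := r ^ k with hm_def
  have hm1 : 1 < m := Nat.one_lt_pow (by omega) hr.one_lt
  have hcop : ∀ {n : ℕ}, ¬ r ∣ n → Nat.Coprime n m := fun h =>
    ((hr.coprime_iff_not_dvd.2 h).symm).pow_right k
  have hQ1 : 1 ≤ Fintype.card E := Fintype.card_pos
  have hcardU : Nat.card Eˣ = m * e := by rw [Nat.card_units, Nat.card_eq_fintype_card, hm]
  let S : Subgroup (Fin D.rank → Eˣ) := (powMonoidHom m).ker
  have hdiag : ∀ x ∈ S, torus D T E x ∈ D.diagonalSubgroup E := by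
    intro x hx
    obtain ⟨N', -, hN'⟩ := Nat.exists_mul_mod_eq_one_of_coprime (hcop hdd) hm1
    refine (mem_diagonal hc).2 ⟨(fun i => ∏ l, x l ^ N l i) ^ N', ?_⟩
    rw [map_pow, hPar_pow_of_adj hc hN, ← pow_mul, pow_eq_pow_mod _ (show x ^ m = 1 from hx), hN', pow_one]
  let φ : ↥S →* ↥(D.group E) :=
    ((torus D T E).comp S.subtype).codRestrict _ fun x => diagonal_le_group hc (hdiag x x.2)
  have hφ : Function.Injective φ := fun x y h => Subtype.ext (torus_injective hc (congrArg Subtype.val h :))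
  have hcardS : Nat.card ↥S = m ^ D.rank := by
    let M0 : Subgroup Eˣ := (powMonoidHom m).ker
    let eqv : ↥S ≃ (Fin D.rank → ↥M0) :=
      { toFun := fun x i => ⟨x.1 i, congrFun x.2 i⟩
        invFun := fun f => ⟨fun i => (f i).1, funext fun i => (f i).2⟩
        left_inv := fun _ => rfl
        right_inv := fun _ => rfl }
    rw [Nat.card_congr eqv, Nat.card_fun, Nat.card_fin]
    congr 1
    rw [IsCyclic.card_powMonoidHom_ker, hcardU, Nat.gcd_comm, Nat.gcd_eq_left (dvd_mul_right m e)]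
  have hT : IsPGroup r φ.range := fun x => by
    obtain ⟨y, hy⟩ := x.2
    refine ⟨k, Subtype.ext ?_⟩
    rw [SubmonoidClass.coe_pow, ← hy, ← map_pow, ← hm_def,
      show y ^ m = 1 from Subtype.ext (show y.1 ^ m = 1 from y.2), map_one, OneMemClass.coe_one]
  have hTi : ¬ r ∣ φ.range.index := by
    have hcG := card_group hc (F := E) hcomm hJ
    have hH : Nat.card ↥(D.diagonalSubgroup E) ∣ (m * e) ^ D.rank := by
      rw [diagonalSubgroup_eq hc, ← hcardU]
      refine (Subgroup.card_range_dvd _).trans ?_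
      rw [Nat.card_fun, Nat.card_fin]
    have h1 := Subgroup.card_mul_index φ.range
    rw [Nat.card_congr (MonoidHom.ofInjective hφ).symm.toEquiv, hcardS, hcG] at h1
    have h2 : φ.range.index ∣ Fintype.card E ^ (D.nroots / 2) * e ^ D.rank * wsum hc J (Fintype.card E) := by
      refine (Nat.mul_dvd_mul_iff_left (pow_pos (by omega : 0 < m) D.rank)).1 ?_
      rw [h1]
      refine (Nat.mul_dvd_mul_right (Nat.mul_dvd_mul_left _ hH) _).trans (dvd_of_eq ?_)
      rw [mul_pow]; ring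
    intro hd'
    rcases hr.dvd_mul.1 (hd'.trans h2) with h | h
    · rcases hr.dvd_mul.1 h with h | h
      · exact hrQ (hr.dvd_of_dvd_pow h)
      · exact he (hr.dvd_of_dvd_pow h)
    · refine hW ((ZMod.natCast_eq_zero_iff _ r).1 ?_)
      have hQ : ((Fintype.card E : ℕ) : ZMod r) = 1 := by
        have h3 : Fintype.card E = r * (r ^ (k - 1) * e) + 1 := by
          rw [← mul_assoc, ← pow_succ', show k - 1 + 1 = k by omega, ← hm]; omega
        rw [h3]; simp
      have h4 : ((wsum hc J (Fintype.card E) : ℕ) : ZMod r) = ((wsum hc J 1 : ℕ) : ZMod r) := by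
        simp only [wsum, Nat.cast_sum, Nat.cast_pow, hQ, Nat.cast_one]
      rw [← h4, ZMod.natCast_eq_zero_iff]; exact h
  set y₀ : ↥(D.group E) := ⟨glMap D ι y, glMap_group hc ι hy⟩
  have hy₀ : y₀ ^ r = 1 := Subtype.ext (by
    show glMap D ι y ^ r = 1
    rw [← map_pow, hyr, map_one])
  have hY : IsPGroup r (Subgroup.zpowers y₀) := fun z => by
    obtain ⟨j, hj⟩ := Subgroup.mem_zpowers_iff.1 z.2
    refine ⟨1, Subtype.ext ?_⟩
    rw [SubmonoidClass.coe_pow, ← hj, pow_one, ← zpow_natCast, ← zpow_mul, mul_comm, zpow_mul, zpow_natCast, hy₀,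
      one_zpow]
    rfl
  obtain ⟨Q, hQ⟩ := hY.exists_le_sylow
  obtain ⟨g₀, hg₀⟩ := MulAction.exists_smul_eq ↥(D.group E) Q (hT.toSylow hTi)
  have h1 : g₀ * y₀ * g₀⁻¹ ∈ ((hT.toSylow hTi : Sylow r ↥(D.group E)) : Subgroup ↥(D.group E)) := by
    rw [← hg₀, Sylow.coe_subgroup_smul]
    exact Subgroup.smul_mem_pointwise_smul _ (MulAut.conj g₀) _ (hQ (Subgroup.mem_zpowers y₀))
  obtain ⟨x, hx⟩ := h1
  have h2 : torus D T E x.1 = (g₀ : GL D.Idx E) * glMap D ι y * (g₀ : GL D.Idx E)⁻¹ := congrArg Subtype.val hx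
  refine ⟨g₀, g₀.2, x.1, torus_injective hc ?_, hdiag x.1 x.2, ?_⟩
  · rw [map_pow, map_one, h2, ← MulAut.conj_apply, ← map_pow, ← map_pow, hyr, map_one, map_one]
  · rw [h2]; group

/-- the centraliser of a regular torus element is the torus -/
theorem mem_diagonal_of_commute [Fintype E] {x : Fin D.rank → Eˣ} (hxd : torus D T E x ∈ D.diagonalSubgroup E)
    (hreg : ∀ s, s < D.nroots → chi x (rv D T s) ≠ 1)
    (hstab : ∀ π ∈ stabW hc x, π = 1) {z : GL D.Idx E} (hz : z ∈ D.group E)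
    (hcz : z * torus D T E x * z⁻¹ = torus D T E x) : z ∈ D.diagonalSubgroup E := by
  obtain ⟨L, u, h, v, hu, hh, hv, e⟩ := ChevField.exists_bruhat hc hcomm hz
  set tx := torus D T E x with htx
  set n := nProd D E L with hn
  set tw := torus D T E (reflChars L x) with htw
  have hcon : n * tx * n⁻¹ = tw := nProd_conj_torus hc L x
  have hdw : tw ∈ D.diagonalSubgroup E := hcon ▸ nProd_conj_diagonal hc L hxd
  have h2 : u * h * n * v * tx = tx * (u * h * n * v) := by
    rw [← e]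
    calc z * tx = z * tx * z⁻¹ * z := by group
      _ = tx * z := by rw [hcz]
  have h1 : u * (h * tw) * n * (tx⁻¹ * v * tx) = tx * u * tx⁻¹ * (tx * h) * n * v := by
    calc u * (h * tw) * n * (tx⁻¹ * v * tx) = u * h * n * v * tx := by rw [← hcon]; group
      _ = _ := by rw [h2]; group
  obtain ⟨e1, e2, e3⟩ := ChevField.bruhat_unique hc hcomm hu (diag_conj_mem hc _ hxd hu) (mul_mem hh hdw)
    (mul_mem hxd hh) (diag_conj_mem' hc _ hxd hv) hv h1
  have htriv : ∀ w ∈ uGen D E (fun s => D.nroots / 2 ≤ s), tx * w * tx⁻¹ = w → w = 1 := by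
    intro w hw hfix
    have h3 := supp_of_commute hc hcomm ({x} : Set _) hw (by rintro _ rfl; exact hfix)
    rw [show uGen D E (fun s => ∀ a ∈ ({x} : Set (Fin D.rank → Eˣ)), chi a (rv D T s) = 1) = ⊥ from by
      rw [eq_bot_iff, uGen_le_iff]; exact fun s hs hA => absurd (hA x rfl) (hreg s hs)] at h3
    exact Subgroup.mem_bot.1 h3
  have hu1 : u = 1 := htriv u hu e1.symm
  have hv1 : v = 1 := htriv v (uGen_mono (fun s _ hs => hs.1) hv) (by
    calc tx * v * tx⁻¹ = tx * (tx⁻¹ * v * tx) * tx⁻¹ := by rw [e3]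
      _ = v := by group)
  obtain ⟨c, rfl⟩ := (mem_diagonal hc).1 hh
  have hL : reflChars L x = x := by
    refine torus_injective hc (mul_left_cancel (a := torus D T E (hPar D E c)) ?_)
    rw [e2, htx, ← map_mul, ← map_mul, mul_comm]
  have hπ := hstab (permOf hc L.reverse) ⟨⟨_, rfl⟩, by rw [permAct_permOf, List.reverse_reverse, hL]⟩
  have hsig : ∀ r, r < D.nroots → sigs D T L r = r := by
    intro r hr
    have h4 := congrArg (fun p : Equiv.Perm (Fin D.nroots) => (p ⟨sigs D T L r, sigs_lt hc L hr⟩).val) hπ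
    simp only [Equiv.Perm.coe_one, id_eq] at h4
    rw [← h4]
    exact sigs_reverse hc L hr
  rw [e, hu1, hv1, one_mul, mul_one]
  refine mul_mem ((mem_diagonal hc).2 ⟨c, rfl⟩) ?_
  refine nProd_mem_of_pos hc L fun i => ?_
  rw [hsig _ (simple_lt hc i.2)]
  exact half_le_simple hc i.2

omit hcomm in
/-- the characters fixed by a twisted Frobenius map form a cyclic group -/
theorem twisted_kernel [Fintype E] {A : Matrix (Fin D.rank) (Fin D.rank) ℤ} {d q Φq : ℕ} (hd : 0 < d)
    (hn : 2 ≤ D.rank) (hcp : A.charpoly = cyclotomic d ℤ) (hΦ : (cyclotomic d ℤ).eval (q : ℤ) = Φq)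
    (hΦ1 : 1 < Φq) (hΦQ : Φq ∣ Nat.card Eˣ)
    (hsq : ∀ l : ℕ, l.Prime → l ∣ d → ¬ l ^ 2 ∣ Φq) (K : Subgroup (Fin D.rank → Eˣ))
    (hK : ∀ χ, χ ∈ K ↔ ∀ v, chi χ (A *ᵥ v) = chi χ v ^ q) : IsCyclic ↥K ∧ Nat.card ↥K = Φq := by
  classical
  set B := Matrix.scalar (Fin D.rank) (q : ℤ) - A with hB
  have hdet : B.det = (Φq : ℤ) := by rw [hB, ← Matrix.eval_charpoly, hcp, hΦ]
  have hKB : ∀ χ, χ ∈ K ↔ ∀ v, chi χ (B *ᵥ v) = 1 := by
    intro χ
    rw [hK]
    refine forall_congr' fun v => ?_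
    rw [hB, Matrix.sub_mulVec, Matrix.scalar_apply,
      show (Matrix.diagonal fun _ => (q : ℤ)) *ᵥ v = (q : ℤ) • v by
        funext i; simp [Matrix.mulVec_diagonal],
      chi_sub, chi_smul, zpow_natCast, div_eq_one]
    exact eq_comm
  have hexp : ∀ χ ∈ K, χ ^ Φq = 1 := by
    intro χ hχ
    funext j
    have h1 := (hKB χ).1 hχ (B.adjugate *ᵥ Pi.single j 1)
    rw [Matrix.mulVec_mulVec, Matrix.mul_adjugate, Matrix.smul_mulVec, Matrix.one_mulVec, hdet, chi_smul,
      chi_single, zpow_one, zpow_natCast] at h1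
    exact h1
  have hcof : ∀ l : ℕ, l.Prime → l ∣ Φq → ∃ i j, ¬ (l : ℤ) ∣ B.adjugate i j := by
    intro l hl hlΦ
    haveI := Fact.mk hl
    refine adjugate_ne_zero hd (by rwa [Fintype.card_fin]) hcp (by rw [hΦ]; exact_mod_cast (by omega : Φq ≠ 0))
      (by rw [hΦ]; exact_mod_cast hlΦ) fun hld => ?_
    rw [hΦ]; exact_mod_cast hsq l hl hld
  have hcyc : IsCyclic ↥K := by
    refine isCyclic_of_prime_roots fun l hl => ?_
    haveI := Fact.mk hl
    by_cases hlΦ : l ∣ Φq
    swap
    · rw [show (powMonoidHom l : ↥K →* ↥K).ker = ⊥ from (Subgroup.eq_bot_iff_forall _).2 fun a ha =>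
        eq_of_pow_coprime (m := Φq) ha (Subtype.ext (hexp a.1 a.2)) (hl.coprime_iff_not_dvd.2 hlΦ),
        Subgroup.card_bot]
      exact hl.one_le
    obtain ⟨i, j, hij⟩ := hcof l hl hlΦ
    let f : ↥(powMonoidHom l : ↥K →* ↥K).ker → ↥(powMonoidHom l : Eˣ →* Eˣ).ker := fun a =>
      ⟨a.1.1 j, congrFun (congrArg Subtype.val (show a.1 ^ l = 1 from a.2)) j⟩
    have hf : Function.Injective f := by
      intro a b e
      let χ : Fin D.rank → Eˣ := (a.1 / b.1 : ↥K).1
      have hχK : χ ∈ K := (a.1 / b.1 : ↥K).2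
      have hχj : χ j = 1 := div_eq_one.2 (congrArg Subtype.val e)
      have hχl : χ ^ l = 1 := by
        show ((a.1 / b.1 : ↥K) : Fin D.rank → Eˣ) ^ l = 1
        rw [← SubmonoidClass.coe_pow, div_pow, show a.1 ^ l = 1 from a.2, show b.1 ^ l = 1 from b.2, div_one,
          OneMemClass.coe_one]
      suffices hχ : χ = 1 from Subtype.ext (div_eq_one.1 (Subtype.ext hχ))
      obtain ⟨ζ, hζ⟩ := exists_prime_orderOf_dvd_card' l (hlΦ.trans hΦQ)
      have hpow : ∀ u : Eˣ, u ^ l = 1 → ∃ n : ℤ, ζ ^ n = u := by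
        intro u hu
        have h1 : u ∈ (powMonoidHom l : Eˣ →* Eˣ).ker := hu
        have h2 : Subgroup.zpowers ζ = (powMonoidHom l : Eˣ →* Eˣ).ker := by
          refine Subgroup.eq_of_le_of_card_ge (Subgroup.zpowers_le.2 ?_) ?_
          · show ζ ^ l = 1
            rw [← hζ, pow_orderOf_eq_one]
          · rw [Nat.card_zpowers, hζ, IsCyclic.card_powMonoidHom_ker, Nat.gcd_comm,
              Nat.gcd_eq_left (hlΦ.trans hΦQ)]
        exact Subgroup.mem_zpowers_iff.1 (h2 ▸ h1)
      choose w hw using fun k => hpow (χ k) (congrFun hχl k)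
      have hχw : χ = fun k => ζ ^ w k := funext fun k => (hw k).symm
      let w' : Fin D.rank → ZMod l := fun k => (w k : ZMod l)
      have hw0 : w' ᵥ* (Int.castRingHom (ZMod l)).mapMatrix B = 0 := by
        funext k
        have h1 := (hKB χ).1 hχK (Pi.single k 1)
        rw [hχw, chi_zpow_vec, ← orderOf_dvd_iff_zpow_eq_one, hζ, Matrix.mulVec_single_one] at h1
        have h2 := (ZMod.intCast_zmod_eq_zero_iff_dvd _ l).2 h1
        simp only [dotProduct, Int.cast_sum, Int.cast_mul] at h2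
        exact h2
      have hwj : w' j = 0 := by
        rw [show w' j = (w j : ZMod l) from rfl, ZMod.intCast_zmod_eq_zero_iff_dvd, ← hζ,
          orderOf_dvd_iff_zpow_eq_one, hw, hχj]
      have h3 := eq_zero_of_vecMul (i := i) (j := j) (by
        rw [← RingHom.map_adjugate]
        exact fun h => hij ((ZMod.intCast_zmod_eq_zero_iff_dvd _ l).1 h)) hw0 hwj
      funext k
      rw [← hw k, Pi.one_apply, ← orderOf_dvd_iff_zpow_eq_one, hζ]
      exact (ZMod.intCast_zmod_eq_zero_iff_dvd _ l).1 (congrFun h3 k)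
    exact (Nat.card_le_card_of_injective f hf).trans (by
      rw [IsCyclic.card_powMonoidHom_ker]; exact Nat.gcd_le_right _ hl.pos)
  refine ⟨hcyc, ?_⟩
  obtain ⟨g, hg⟩ := hcyc.exists_generator
  have hdvd : Nat.card ↥K ∣ Φq := by
    rw [← orderOf_eq_card_of_forall_mem_zpowers hg]
    exact orderOf_dvd_of_pow_eq_one (Subtype.ext (hexp g.1 g.2))
  by_contra hne
  obtain ⟨c, hc'⟩ := hdvd
  have hc1 : c ≠ 1 := fun h => hne (by rw [hc', h, mul_one])
  obtain ⟨l, hl, hlc⟩ := Nat.exists_prime_and_dvd hc1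
  have hlΦ : l ∣ Φq := hc' ▸ dvd_mul_of_dvd_right hlc _
  obtain ⟨i, j, hij⟩ := hcof l hl hlΦ
  obtain ⟨γ, hγ⟩ := IsCyclic.exists_generator (α := Eˣ)
  obtain ⟨b, hb⟩ := hΦQ
  set z := γ ^ b
  have hz : orderOf z = Φq := by
    have hb0 : 0 < b := Nat.pos_of_ne_zero fun h => (Nat.card_pos (α := Eˣ)).ne' (by rw [hb, h, mul_zero])
    rw [orderOf_pow, orderOf_eq_card_of_forall_mem_zpowers hγ, hb, Nat.gcd_eq_right (dvd_mul_left b Φq),
      Nat.mul_div_cancel _ hb0]
  let χ : Fin D.rank → Eˣ := fun k => z ^ B.adjugate i k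
  have hχK : χ ∈ K := (hKB χ).2 fun v => by
    show chi (fun k => z ^ B.adjugate i k) (B *ᵥ v) = 1
    rw [chi_zpow_vec, ← orderOf_dvd_iff_zpow_eq_one, hz]
    have h1 : (B.adjugate i) ⬝ᵥ (B *ᵥ v) = (B.adjugate *ᵥ (B *ᵥ v)) i := rfl
    rw [h1, Matrix.mulVec_mulVec, Matrix.adjugate_mul, Matrix.smul_mulVec, Matrix.one_mulVec, hdet]
    exact ⟨v i, rfl⟩
  obtain ⟨c', rfl⟩ := hlc
  have h1 : (⟨χ, hχK⟩ : ↥K) ^ (Nat.card ↥K * c') = 1 := by rw [pow_mul, pow_card_eq_one', one_pow]
  have h2 := congrFun (congrArg Subtype.val h1) j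
  simp only [SubmonoidClass.coe_pow, OneMemClass.coe_one, Pi.pow_apply, Pi.one_apply, χ] at h2
  rw [← zpow_natCast, ← zpow_mul, ← orderOf_dvd_iff_zpow_eq_one, hz,
    show (Φq : ℤ) = (l : ℤ) * ((Nat.card ↥K * c' : ℕ) : ℤ) by rw [hc']; push_cast; ring] at h2
  refine hij (Int.dvd_of_mul_dvd_mul_right ?_ h2)
  intro h0
  have h0' : Nat.card ↥K * c' = 0 := by exact_mod_cast h0
  rcases mul_eq_zero.1 h0' with h | h
  · exact Nat.card_pos.ne' h
  · rw [h, mul_zero, mul_zero] at hc'; omega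

/-- cyclic self-centralising subgroups of order `Φ_d(q)` -/
theorem cyclic_self_centralizing [Fintype F] {q : ℕ} (hq : Fintype.card F = q) {d : ℕ} (hd : 0 < d)
    (hrank : 2 ≤ D.rank) (hdeg : Nat.totient d = D.rank) {M : Fin D.rank → Fin D.rank → ℤ} (hM : CartanInv D M)
    {J : List (Fin D.rank)} (hJ : ∀ i, i ∈ J) {Φq : ℕ} (hΦ : (cyclotomic d ℤ).eval (q : ℤ) = Φq)
    (hsq : ∀ l : ℕ, l.Prime → l ∣ d → ¬ l ^ 2 ∣ Φq) {r : ℕ} [Fact r.Prime] (hr2 : r ≠ 2) (hrΦ : r ∣ Φq)
    (hrd : ¬ r ∣ d) (hrW : ¬ r ∣ wsum hc J 1) (hrG : r ∣ Nat.card ↥(D.group F)) :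
    ∃ H : Subgroup ↥(D.group F), IsCyclic ↥H ∧ Nat.card ↥H = Φq ∧
      Subgroup.centralizer (H : Set ↥(D.group F)) = H := by
  classical
  have hr := (Fact.out : r.Prime)
  haveI : NeZero (d : ZMod r) := ⟨fun h => hrd ((ZMod.natCast_eq_zero_iff _ r).1 h)⟩
  have hroot : IsRoot (cyclotomic d (ZMod r)) (q : ZMod r) := by
    rw [← map_cyclotomic d (Int.castRingHom (ZMod r)), IsRoot,
      show (q : ZMod r) = (Int.castRingHom (ZMod r)) (q : ℤ) by simp, Polynomial.eval_map, Polynomial.eval₂_at_apply, hΦ]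
    simp [(ZMod.natCast_eq_zero_iff _ r).2 hrΦ]
  have hord : orderOf (q : ZMod r) = d := (isRoot_cyclotomic_iff.1 hroot).eq_orderOf.symm
  have hq1 : 1 < q := hq ▸ Fintype.one_lt_card
  have hrq : ¬ r ∣ q := fun h => by
    have h1 := pow_orderOf_eq_one (q : ZMod r)
    rw [hord, (ZMod.natCast_eq_zero_iff _ r).2 h, zero_pow hd.ne'] at h1
    exact zero_ne_one h1
  obtain ⟨E, iE, iF, ι, σ, hfix, hσ, hE⟩ := exists_extension F hd
  rw [hq] at hσ hE
  have hΦdvd : Φq ∣ q ^ d - 1 := by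
    have h1 := eval_dvd (x := (q : ℤ)) (cyclotomic.dvd_X_pow_sub_one d ℤ)
    simp only [eval_sub, eval_pow, eval_X, eval_one, hΦ] at h1
    rw [show (q : ℤ) ^ d - 1 = ((q ^ d - 1 : ℕ) : ℤ) by
      rw [Nat.cast_sub (Nat.one_le_pow _ _ (by omega))]; push_cast; ring] at h1
    exact_mod_cast h1
  have hQ0 : q ^ d - 1 ≠ 0 := by have := Nat.one_lt_pow hd.ne' hq1; omega
  set k := (q ^ d - 1).factorization r
  have hk : 1 ≤ k := hr.factorization_pos_of_dvd hQ0 (hrΦ.trans hΦdvd)
  have he : ¬ r ∣ (q ^ d - 1) / r ^ k := Nat.not_dvd_ordCompl hr hQ0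
  have hke : Fintype.card E - 1 = r ^ k * ((q ^ d - 1) / r ^ k) := by
    rw [hE, Nat.mul_div_cancel' (Nat.ordProj_dvd _ _)]
  have hdd : ¬ r ∣ 1 := hr.not_dvd_one
  have hN : ∀ i j, ∑ k, M i k * cm D k j = if i = j then ((1 : ℕ) : ℤ) else 0 := fun i j => by
    rw [hM i j, Nat.cast_one]
  obtain ⟨y₀, hy₀⟩ := exists_prime_orderOf_dvd_card' r hrG
  have hy₀r : y₀ ^ r = 1 := by rw [← hy₀, pow_orderOf_eq_one]
  obtain ⟨g, hg, x, hxr, hxd, hgx⟩ := exists_torus_conj hc hcomm ι hke he hk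
    (by rw [hE]; exact fun h => hrq (hr.dvd_of_dvd_pow h)) hN hdd hJ hrW y₀.2
    (by rw [← SubmonoidClass.coe_pow, hy₀r, OneMemClass.coe_one])
  have hσι : ∀ b : GL D.Idx F, glMap D σ (glMap D ι b) = glMap D ι b := fun b => by
    ext i j; exact (hfix _).2 ⟨_, rfl⟩
  have hσt : ∀ y : Fin D.rank → Eˣ, glMap D σ (torus D T E y) = torus D T E (y ^ q) := fun y => by
    rw [glMap_torus]
    congr 1
    funext j
    exact Units.ext (hσ _)
  set c := glMap D σ g * g⁻¹ with hc_def
  have hcG : c ∈ D.group E := mul_mem (glMap_group hc σ hg) (inv_mem hg)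
  have hσfix : ∀ χ : Fin D.rank → Eˣ, glMap D σ (g⁻¹ * torus D T E χ * g) = g⁻¹ * torus D T E χ * g ↔
      c * torus D T E χ * c⁻¹ = torus D T E (χ ^ q) := by
    intro χ
    rw [map_mul, map_mul, map_inv, hσt, hc_def]
    constructor
    · intro h
      calc glMap D σ g * g⁻¹ * torus D T E χ * (glMap D σ g * g⁻¹)⁻¹
          = glMap D σ g * (g⁻¹ * torus D T E χ * g) * (glMap D σ g)⁻¹ := by group
        _ = _ := by rw [← h]; group
    · intro h
      rw [← h]; group
  have hcx : c * torus D T E x * c⁻¹ = torus D T E (x ^ q) := (hσfix x).1 (by rw [← hgx]; exact hσι _)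
  have hx1 : x ≠ 1 := by
    intro h
    rw [h, map_one, mul_one, inv_mul_cancel] at hgx
    have h1 : (y₀ : GL D.Idx F) = 1 := glMap_injective ι (hgx.trans (map_one _).symm)
    rw [show y₀ = 1 from Subtype.ext h1, orderOf_one] at hy₀
    exact hr.ne_one hy₀.symm
  obtain ⟨L, hLA, -⟩ := twist_weyl hc hcomm (q := q) (m := r) (hr.coprime_iff_not_dvd.2 hrq).symm {x}
    (by rintro _ rfl; exact hxd) (by rintro _ rfl; exact hxr) hcG (by rintro _ rfl; exact hcx)
  set π₀ := permOf hc L.reverse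
  have hπ₀ : π₀ ∈ weylGrp hc := ⟨_, rfl⟩
  have hact : ∀ χ : Fin D.rank → Eˣ, permAct hc π₀ χ = reflChars L χ := fun χ => by
    rw [permAct_permOf, List.reverse_reverse]
  set A := permMat hc π₀
  have hW' : ¬ r ∣ Nat.card ↥(weylGrp hc) := by rw [card_weylGrp hc hJ]; exact hrW
  have hAx : ∀ v, chi x (A *ᵥ v) = chi x v ^ q := fun v => by
    rw [chi_permMat, hact, hLA x rfl, chi_pow']
  have hev : ∀ p : ℤ[X], aeval A p = 0 → ((p.eval (q : ℤ) : ℤ) : ZMod r) = 0 := by
    intro p hp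
    have hgen : ∀ (p : ℤ[X]) v, chi x (aeval A p *ᵥ v) = chi x v ^ (p.eval (q : ℤ)) := by
      intro p
      induction p using Polynomial.induction_on' with
      | add a b ha hb => intro v; rw [map_add, Matrix.add_mulVec, chi_add, ha, hb, eval_add, zpow_add]
      | monomial i a =>
        have hi : ∀ i v, chi x (A ^ i *ᵥ v) = chi x v ^ q ^ i := by
          intro i
          induction i with
          | zero => intro v; simp
          | succ i ih => intro v; rw [pow_succ, ← Matrix.mulVec_mulVec, ih, hAx, ← pow_mul, ← pow_succ']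
        intro v
        rw [aeval_monomial, Algebra.algebraMap_eq_smul_one, smul_mul_assoc, one_mul, Matrix.smul_mulVec, chi_smul,
          hi, eval_monomial, ← zpow_natCast, ← zpow_mul]
        congr 1
        push_cast; ring
    obtain ⟨j, hj⟩ : ∃ j, x j ≠ 1 := by
      by_contra hh; push Not at hh; exact hx1 (funext hh)
    have h1 := hgen p (Pi.single j 1)
    rw [hp, Matrix.zero_mulVec, chi_zero, chi_single, zpow_one] at h1
    rw [ZMod.intCast_zmod_eq_zero_iff_dvd]
    have h2 : orderOf (x j) = r := orderOf_eq_prime (congrFun hxr j) hj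
    rw [← h2]
    exact orderOf_dvd_iff_zpow_eq_one.2 h1.symm
  have hcp : A.charpoly = cyclotomic d ℤ := by
    refine charpoly_eq_cyclotomic (N := orderOf π₀) (r := r) (q := (q : ℤ)) ?_ ?_ ?_ ?_ hev
    · rw [← permMat_pow hc hπ₀, pow_orderOf_eq_one, permMat_one]
    · intro h
      refine hW' (h.trans ?_)
      rw [← Nat.card_zpowers]
      exact Subgroup.card_dvd_of_le (Subgroup.zpowers_le.2 hπ₀)
    · rw [Int.cast_natCast, hord]
    · rw [hdeg, Fintype.card_fin]
  have hxq : (x ^ q) ^ r = 1 := by rw [← pow_mul, mul_comm, pow_mul, hxr, one_pow]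
  have hreg : ∀ s, s < D.nroots → chi x (rv D T s) ≠ 1 := fun s hs =>
    regular_of_eigen hc hπ₀ hd hcp hr2 hW' hxr hx1 (by rw [hact]; exact hLA x rfl) hs
  have hregq : ∀ s, s < D.nroots → chi (x ^ q) (rv D T s) ≠ 1 := fun s hs h => by
    rw [chi_pow'] at h
    exact hreg s hs (eq_of_pow_coprime h (by rw [← chi_pow', hxr, chi_one]) (hr.coprime_iff_not_dvd.2 hrq).symm)
  -- `c` acts on the whole torus as the Weyl element
  have hxqd : torus D T E (x ^ q) ∈ D.diagonalSubgroup E := by rw [map_pow]; exact pow_mem hxd q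
  have hn : c * (nProd D E L)⁻¹ ∈ D.diagonalSubgroup E := by
    refine mem_diagonal_of_commute hc hcomm hxqd hregq (fun π hπ => stab_regular hc hW' hxq hregq hπ)
      (mul_mem hcG (inv_mem (monomial_le_group hc (nProd_mem_monomial hc L)))) ?_
    calc c * (nProd D E L)⁻¹ * torus D T E (x ^ q) * (c * (nProd D E L)⁻¹)⁻¹
        = c * ((nProd D E L)⁻¹ * torus D T E (x ^ q) * nProd D E L) * c⁻¹ := by group
      _ = c * torus D T E x * c⁻¹ := by
          rw [← hLA x rfl, ← nProd_conj_torus hc L x]; group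
      _ = _ := hcx
  obtain ⟨a, ha⟩ := (mem_diagonal hc).1 hn
  have hcact : ∀ χ : Fin D.rank → Eˣ, c * torus D T E χ * c⁻¹ = torus D T E (reflChars L χ) := by
    intro χ
    rw [show c = torus D T E (hPar D E a) * nProd D E L by rw [ha]; group, ← nProd_conj_torus hc L χ,
      mul_inv_rev, ← mul_assoc]
    calc torus D T E (hPar D E a) * nProd D E L * torus D T E χ * (nProd D E L)⁻¹ * (torus D T E (hPar D E a))⁻¹
        = torus D T E (hPar D E a) * torus D T E (reflChars L χ) * (torus D T E (hPar D E a))⁻¹ := by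
          rw [← nProd_conj_torus hc L χ]; group
      _ = torus D T E (reflChars L χ) := by
          rw [← map_mul, mul_comm, map_mul]; group
      _ = _ := (nProd_conj_torus hc L χ).symm
  let K : Subgroup (Fin D.rank → Eˣ) := MonoidHom.eqLocus (permAct hc π₀) (powMonoidHom q)
  have hKmem : ∀ χ, χ ∈ K ↔ reflChars L χ = χ ^ q := fun χ => by
    show permAct hc π₀ χ = _ ↔ _
    rw [hact]; rfl
  have hKfix : ∀ χ, χ ∈ K ↔ glMap D σ (g⁻¹ * torus D T E χ * g) = g⁻¹ * torus D T E χ * g := fun χ => by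
    rw [hσfix, hcact, hKmem, (torus_injective hc).eq_iff]
  obtain ⟨hKc, hKcard⟩ := twisted_kernel hc (A := A) (E := E) hd hrank hcp hΦ
    (lt_of_lt_of_le hr.one_lt (Nat.le_of_dvd (Nat.pos_of_ne_zero fun h => hQ0 (by simpa [h] using hΦdvd)) hrΦ))
    (by rw [Nat.card_units, Nat.card_eq_fintype_card, hE]; exact hΦdvd) hsq K fun χ => by
      rw [hKmem]
      constructor
      · intro h v; rw [chi_permMat, hact, h, chi_pow']
      · intro h
        refine chi_ext fun v => ?_
        rw [← hact, ← chi_permMat, h, chi_pow']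
  let Φ : ↥K →* GL D.Idx E := ((MulAut.conj g⁻¹).toMonoidHom.comp (torus D T E)).comp K.subtype
  have hΦi : Function.Injective Φ := fun x y h => Subtype.ext (torus_injective hc ((MulAut.conj g⁻¹).injective h))
  have hΦe : ∀ z : ↥K, Φ z = g⁻¹ * torus D T E z.1 * g := fun z => by simp [Φ]
  let H : Subgroup ↥(D.group F) := (Φ.range.comap (glMap D ι)).subgroupOf (D.group F)
  let θ : ↥H →* GL D.Idx E := ((glMap D ι).comp (D.group F).subtype).comp H.subtype
  have hθ : Function.Injective θ := fun x y h => Subtype.ext (Subtype.ext (glMap_injective ι h))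
  have hrange : θ.range = Φ.range := by
    ext z
    constructor
    · rintro ⟨w, rfl⟩; exact w.2
    · rintro ⟨χ, rfl⟩
      obtain ⟨w, hw, ew⟩ := fixed_descent hc hcomm ι σ (fun a => (hfix a).1) (hPar_surjective hM)
        (mul_mem (mul_mem (inv_mem hg) (diagonal_le_group hc
          ((mem_diagonal hc).2 (by
            obtain ⟨a, ha⟩ := hPar_surjective hM (F := E) χ.1
            exact ⟨a, by rw [ha]⟩)))) hg)
        ((hKfix χ.1).1 χ.2)
      exact ⟨⟨⟨w, hw⟩, χ, (hΦe χ).trans ew.symm⟩, ew.trans (hΦe χ).symm⟩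
  let eH : ↥H ≃* ↥K :=
    ((MonoidHom.ofInjective hθ).trans (MulEquiv.subgroupCongr hrange)).trans (MonoidHom.ofInjective hΦi).symm
  refine ⟨H, isCyclic_of_surjective eH.symm eH.symm.surjective, by rw [Nat.card_congr eH.toEquiv, hKcard],
    le_antisymm ?_ ?_⟩
  · intro z hz
    have hxK : x ∈ K := (hKmem x).2 (hLA x rfl)
    have hy₀H : y₀ ∈ H := ⟨⟨x, hxK⟩, (hΦe _).trans hgx.symm⟩
    have hcom := congrArg (fun b : ↥(D.group F) => glMap D ι (b : GL D.Idx F))
      (Subgroup.mem_centralizer_iff.1 hz y₀ hy₀H)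
    simp only [Subgroup.coe_mul, map_mul, hgx] at hcom
    set w := glMap D ι (z : GL D.Idx F)
    have hwd : g * w * g⁻¹ ∈ D.diagonalSubgroup E := by
      refine mem_diagonal_of_commute hc hcomm hxd hreg (fun π hπ => stab_regular hc hW' hxr hreg hπ)
        (mul_mem (mul_mem hg (glMap_group hc ι z.2)) (inv_mem hg)) ?_
      calc g * w * g⁻¹ * torus D T E x * (g * w * g⁻¹)⁻¹
          = g * (w * (g⁻¹ * torus D T E x * g)) * w⁻¹ * g⁻¹ := by group
        _ = torus D T E x := by rw [← hcom]; group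
    obtain ⟨b, hb⟩ := (mem_diagonal hc).1 hwd
    have hw : g⁻¹ * torus D T E (hPar D E b) * g = w := by rw [hb]; group
    refine ⟨⟨hPar D E b, (hKfix _).2 (by rw [hw]; exact hσι _)⟩, (hΦe _).trans hw⟩
  · intro a ha
    refine Subgroup.mem_centralizer_iff.2 fun b hb => ?_
    have := congrArg Subtype.val (eH.injective (show eH (⟨b, hb⟩ * ⟨a, ha⟩) = eH (⟨a, ha⟩ * ⟨b, hb⟩) by
      rw [map_mul, map_mul, mul_comm]))
    simpa using this

end

end CfsgLib.ChevCent
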