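import Cfsg.Agent.Lib.ChevCent.Mixed
import Cfsg.Agent.Lib.ChevCent.Checked

/-!
# Kernel checks for the mixed involutions of F4
-/

set_option autoImplicit false
set_option maxHeartbeats 1000000

namespace CfsgLib.ChevCent

open Cfsg.Lie CfsgLib.Chev CfsgLib.ChevField

/-- the orbit of short roots of `F4` -/
def shortF4 (s : ℕ) : Bool :=
  [3, 7, 8, 9, 10, 11, 12, 13, 14, 18, 19, 20, 27, 28, 29, 33, 34, 35, 36, 37, 38, 39, 40, 44].contains s

theorem shortF4_orbit : OrbitOK chevF4 shortF4 44 := by decide +kernel

theorem topF4_orbit : OrbitOK chevF4 (fun _ => true) 47 := by decide +kernel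

/-- the roots outside the centraliser of the mixed involution -/
def outsideV : List ℕ := [27, 25, 34, 26]

/-- positive roots with some of the outside roots removed -/
def posBut (L : List ℕ) : List ℕ := (List.range' 24 24).filter fun r => !L.contains r

theorem formF4 : FormOK chevF4 [8, 15, 21, 11] 11 := by
  decide +kernel

theorem closedA0 : ClosedOK chevF4 [8, 15, 21, 11] 11 [39, 40, 44] := by
  decide +kernel
theorem closedB0 : ClosedOK chevF4 [8, 15, 21, 11] 11 [45, 46, 47] := by
  decide +kernel
theorem closedA : ClosedOK chevF4 [8, 15, 21, 11] 11 [39, 40, 44, 45, 46, 47] := by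
  decide +kernel
theorem closedW : ClosedOK chevF4 [8, 15, 21, 11] 11 [44, 47] := by
  decide +kernel
theorem closedP1 : ClosedOK chevF4 [8, 15, 21, 11] 11 (posBut [27]) := by
  decide +kernel
theorem closedP2 : ClosedOK chevF4 [8, 15, 21, 11] 11 (posBut [27, 34]) := by
  decide +kernel
theorem closedP3 : ClosedOK chevF4 [8, 15, 21, 11] 11 (posBut [27, 34, 25]) := by
  decide +kernel

theorem modShort : ModOK chevF4 (posBut []) 39 [40, 44] := by decide +kernel
theorem modLong : ModOK chevF4 (posBut []) 45 [46, 47] := by decide +kernel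
theorem modP1 : ModOK chevF4 (posBut [27]) 39 [44] := by decide +kernel
theorem modP2 : ModOK chevF4 (posBut [27, 34]) 39 [] := by decide +kernel
theorem modP3 : ModOK chevF4 (posBut [27, 34, 25]) 45 [47] := by decide +kernel
theorem modP4 : ModOK chevF4 (posBut [27, 34, 25, 26]) 45 [] := by decide +kernel

theorem pairInvF4 : PairInv chevF4 := by decide +kernel

theorem orthF4 : ∀ r ∈ [39, 40, 44, 45, 46, 47], ∀ s ∈ [39, 40, 44, 45, 46, 47], shortF4 r = true →
    chevF4.pairing r s = 0 → r = 39 ∧ s = 45 := by decide +kernel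

theorem orth_39_45 : chevF4.pairing 39 45 = 0 := by decide +kernel

set_option synthInstance.maxSize 1024 in
set_option synthInstance.maxHeartbeats 400000 in
theorem patternF4 : ∀ v < 48, 24 ≤ v → v ≠ 33 → v ≠ 24 → ∀ d < 24,
    chevF4.pairing 39 d ≠ chevF4.pairing 39 v ∨ chevF4.pairing 45 d ≠ chevF4.pairing 45 v := by decide +kernel

end CfsgLib.ChevCent
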