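import Cfsg.Agent.Lib.Chev.Order
import Cfsg.Agent.Lib.Chev.Structure
import Mathlib.GroupTheory.FiniteAbelian.Basic

/-!
# The Weyl group as permutations of roots, its action on characters, averaging
-/

set_option autoImplicit false
set_option linter.unusedSectionVars false

namespace CfsgLib.ChevCent

open Cfsg.Lie CfsgLib.Chev

variable {D : ChevalleyDatum} {T : Tabs} {F : Type*} [Field F]

/-- the action of a permutation of the roots on characters -/
noncomputable def permAct (hc : Checked D T) (π : Equiv.Perm (Fin D.nroots)) : (Fin D.rank → Fˣ) →* (Fin D.rank → Fˣ) where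
  toFun χ := fun j => chi χ (rv D T (π ⟨D.simple j.val, simple_lt hc j.2⟩).val)
  map_one' := by funext j; simp [chi_one]
  map_mul' χ ψ := by funext j; simp [chi_mul]

theorem chi_pow' (χ : Fin D.rank → Fˣ) (n : ℕ) (v : Fin D.rank → ℤ) : chi (χ ^ n) v = chi χ v ^ n := by
  induction n with
  | zero => simp [chi_one]
  | succ n ih => rw [pow_succ, pow_succ, chi_mul, ih]

section
variable (hc : Checked D T)
include hc

/-- the permutation of the roots of a word -/
noncomputable def permOf (L : List (Fin D.rank)) : Equiv.Perm (Fin D.nroots) where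
  toFun r := ⟨sigs D T L r, sigs_lt hc L r.2⟩
  invFun r := ⟨sigs D T L.reverse r, sigs_lt hc L.reverse r.2⟩
  left_inv r := Fin.ext (sigs_reverse hc L r.2)
  right_inv r := Fin.ext (by
    have := sigs_reverse hc L.reverse r.2
    rwa [List.reverse_reverse] at this)

/-- the Weyl group as a group of permutations of the roots -/
noncomputable def weylGrp : Subgroup (Equiv.Perm (Fin D.nroots)) where
  carrier := {π | ∃ L : List (Fin D.rank), π = permOf hc L}
  one_mem' := ⟨[], Equiv.ext fun _ => Fin.ext rfl⟩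
  mul_mem' := by
    rintro _ _ ⟨L, rfl⟩ ⟨M, rfl⟩
    exact ⟨L ++ M, Equiv.ext fun r => Fin.ext (sigs_append (T := T) L M r).symm⟩
  inv_mem' := by
    rintro _ ⟨L, rfl⟩
    exact ⟨L.reverse, Equiv.ext fun r => Fin.ext rfl⟩

theorem card_weylGrp {J : List (Fin D.rank)} (hJ : ∀ i, i ∈ J) :
    Nat.card ↥(weylGrp hc) = wsum hc J 1 := by
  classical
  have e : wsum hc J 1 = Nat.card ↥(WSet D T J) := by
    rw [wsum]
    simp only [one_pow, Finset.sum_const, smul_eq_mul, mul_one]
    rw [Nat.card_coe_set_eq, Set.ncard_eq_toFinset_card _ (wset_finite hc J)]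
  rw [e]
  refine Nat.card_congr (Equiv.ofBijective (fun π => ⟨fun r => ((π.1 r : Fin D.nroots) : ℕ), ?_⟩) ⟨?_, ?_⟩)
  · obtain ⟨L, hL⟩ := π.2
    exact ⟨L, fun i _ => hJ i, by rw [hL]; rfl⟩
  · intro a b h
    exact Subtype.ext (Equiv.ext fun r => Fin.ext (congrFun (congrArg Subtype.val h) r))
  · rintro ⟨f, L, -, rfl⟩
    exact ⟨⟨permOf hc L, L, rfl⟩, rfl⟩

theorem chi_reflChars (L : List (Fin D.rank)) (χ : Fin D.rank → Fˣ) (v : Fin D.rank → ℤ) :
    chi (reflChars L χ) v = chi χ (refls D L.reverse v) := by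
  induction L generalizing v with
  | nil => rfl
  | cons i L ih =>
    show chi (reflChar i (reflChars L χ)) v = _
    rw [chi_reflChar, ih, List.reverse_cons]
    simp [refls, List.foldr_append]

theorem permAct_permOf (L : List (Fin D.rank)) (χ : Fin D.rank → Fˣ) :
    permAct hc (permOf hc L) χ = reflChars L.reverse χ := by
  funext j
  have h := chi_reflChars hc L.reverse χ (Pi.single j 1)
  rw [List.reverse_reverse, chi_single, zpow_one] at h
  rw [h]
  show chi χ (rv D T (sigs D T L (D.simple j.val))) = _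
  rw [rv_sigs hc L (simple_lt hc j.2), rv_simple hc]

theorem chi_permAct {π : Equiv.Perm (Fin D.nroots)} (hπ : π ∈ weylGrp hc) (χ : Fin D.rank → Fˣ)
    (r : Fin D.nroots) : chi (permAct hc π χ) (rv D T r.val) = chi χ (rv D T (π r).val) := by
  obtain ⟨L, rfl⟩ := hπ
  rw [permAct_permOf, chi_reflChars hc, List.reverse_reverse, ← rv_sigs hc L r.2]
  rfl

theorem permAct_mul {π π' : Equiv.Perm (Fin D.nroots)} (hπ : π ∈ weylGrp hc) (χ : Fin D.rank → Fˣ) :
    permAct hc (π * π') χ = permAct hc π' (permAct hc π χ) := by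
  funext j
  exact (chi_permAct hc hπ χ (π' ⟨D.simple j.val, simple_lt hc j.2⟩)).symm

theorem permAct_one (χ : Fin D.rank → Fˣ) : permAct hc 1 χ = χ := by
  funext j
  show chi χ (rv D T (D.simple j.val)) = _
  rw [rv_simple hc, chi_single, zpow_one]

theorem sigs_conj_simple (L : List (Fin D.rank)) (i : Fin D.rank) {s : ℕ} (hs : s < D.nroots) :
    ∃ k : ℤ, rv D T (sigs D T (L ++ i :: L.reverse) s) = rv D T s - k • rv D T (sigs D T L (D.simple i.val)) := by
  have hp := simple_lt hc i.2
  have hs' := sigs_lt hc L.reverse hs (T := T)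
  refine ⟨∑ j, cm D i j * rv D T (sigs D T L.reverse s) j, ?_⟩
  set s' := sigs D T L.reverse s
  set k := ∑ j, cm D i j * rv D T s' j with hk
  have e : rv D T (sig D T i s') = rv D T s' + (-k) • rv D T (D.simple i.val) := by
    rw [rv_sig hc i hs', rv_simple hc, CfsgLib.Chev.refl, ← hk, neg_smul, ← sub_eq_add_neg, ← Pi.single_smul,
      smul_eq_mul, mul_one]
  have hback : sigs D T L s' = s := by
    have := sigs_reverse hc L.reverse hs
    rwa [List.reverse_reverse] at this
  rw [sigs_append, sigs_cons, rv_sigs hc L (sig_lt hc i hs'), e, refls_add, refls_smul, ← rv_sigs hc L hs', hback,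
    ← rv_sigs hc L hp, neg_smul, ← sub_eq_add_neg]

/-- every root is sent to its negative by a Weyl element moving each root along it -/
theorem exists_reflection {r : ℕ} (hr : r < D.nroots) :
    ∃ π ∈ weylGrp hc, (π ⟨r, hr⟩).val = D.neg r ∧
      ∀ s : Fin D.nroots, ∃ k : ℤ, rv D T (π s).val = rv D T s.val - k • rv D T r := by
  have key : ∃ (L : List (Fin D.rank)) (i : Fin D.rank), sigs D T L (D.simple i.val) = r := by
    refine root_induction hc (P := fun r => ∃ (L : List (Fin D.rank)) (i : Fin D.rank), sigs D T L (D.simple i.val) = r)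
      (fun i => ⟨[], i, rfl⟩) (fun i s _ ⟨L, j, e⟩ => ⟨i :: L, j, by rw [sigs_cons, e]⟩) hr
  obtain ⟨L, i, e⟩ := key
  refine ⟨permOf hc (L ++ i :: L.reverse), ⟨_, rfl⟩, ?_, fun s => ?_⟩
  · show sigs D T (L ++ i :: L.reverse) r = _
    rw [sigs_append, sigs_cons, ← e, sigs_reverse hc L (simple_lt hc i.2), sig_simple hc i,
      sigs_neg hc L (simple_lt hc i.2)]
  · obtain ⟨k, hk⟩ := sigs_conj_simple hc L i s.2
    exact ⟨k, by rw [e] at hk; exact hk⟩

end

/-- fixed points of a finite group of coprime order have roots among fixed points -/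
theorem exists_fixed_root {A Γ : Type*} [CommGroup A] [Group Γ] [Fintype Γ] (f : Γ → A →* A) (m k : ℕ)
    (hm : 1 < m) (hco : Nat.Coprime (Fintype.card Γ) m)
    (hf : ∀ γ δ z, z ^ m = 1 → f (γ * δ) z = f δ (f γ z)) {x z : A} (hz : z ^ m = 1) (hzx : z ^ k = x)
    (hx : ∀ γ, f γ x = x) : ∃ y : A, y ^ m = 1 ∧ y ^ k = x ∧ ∀ γ, f γ y = y := by
  classical
  obtain ⟨N', -, hN'⟩ := Nat.exists_mul_mod_eq_one_of_coprime hco hm
  set y₀ := ∏ γ, f γ z
  have hy0 : y₀ ^ m = 1 := by
    rw [← Finset.prod_pow]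
    exact Finset.prod_eq_one fun γ _ => by rw [← map_pow, hz, map_one]
  have hfix : ∀ δ, f δ y₀ = y₀ := fun δ => by
    show f δ (∏ γ, f γ z) = _
    rw [map_prod]
    exact Fintype.prod_equiv (Equiv.mulRight δ) _ _ fun γ => (hf γ δ z hz).symm
  refine ⟨y₀ ^ N', by rw [← pow_mul, mul_comm, pow_mul, hy0, one_pow], ?_, fun γ => by rw [map_pow, hfix]⟩
  have hxm : x ^ m = 1 := by rw [← hzx, ← pow_mul, mul_comm, pow_mul, hz, one_pow]
  have h1 : y₀ ^ k = x ^ Fintype.card Γ := by
    rw [← Finset.prod_pow, ← Finset.card_univ, ← Finset.prod_const]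
    exact Finset.prod_congr rfl fun γ _ => by rw [← map_pow, hzx, hx]
  rw [← pow_mul, mul_comm, pow_mul, h1, ← pow_mul, ← Nat.mod_add_div (Fintype.card Γ * N') m, hN', pow_add,
    pow_one, pow_mul, hxm, one_pow, mul_one]

/-- a finite abelian group of exponent `r^k` with every element of order `r` an `r^(k-1)`-th power is homocyclic -/
theorem homocyclic {A : Type*} [CommGroup A] [Finite A] {r k a : ℕ} (hr : r.Prime) (hk : 1 ≤ k)
    (hexp : ∀ x : A, x ^ r ^ k = 1) (hdiv : ∀ x : A, x ^ r = 1 → ∃ y : A, y ^ r ^ (k - 1) = x)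
    (hcard : Nat.card A = (r ^ k) ^ a) : Nonempty (A ≃* (Fin a → Multiplicative (ZMod (r ^ k)))) := by
  classical
  obtain ⟨ι, hι, n, hn, ⟨e⟩⟩ := CommGroup.equiv_prod_multiplicative_zmod_of_finite A
  have hne : ∀ i, n i = r ^ k := by
    intro i
    have hd : n i ∣ r ^ k := by
      have h := congrArg (fun w => w i) (congrArg e (hexp (e.symm (Pi.mulSingle i (Multiplicative.ofAdd (1 : ZMod (n i)))))))
      simp only [map_pow, MulEquiv.apply_symm_apply, map_one, Pi.pow_apply, Pi.mulSingle_eq_same, Pi.one_apply,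
        ← ofAdd_nsmul, nsmul_one] at h
      exact (ZMod.natCast_eq_zero_iff (r ^ k) (n i)).1 (Multiplicative.ofAdd.injective (h.trans ofAdd_zero.symm))
    obtain ⟨j, hj, hnj⟩ := (Nat.dvd_prime_pow hr).1 hd
    rcases hj.eq_or_lt with rfl | hlt
    · exact hnj
    exfalso
    have hj1 : 1 ≤ j := by
      rcases Nat.eq_zero_or_pos j with rfl | h
      · have := hn i; rw [hnj, pow_zero] at this; omega
      · exact h
    set g : (i : ι) → Multiplicative (ZMod (n i)) := Pi.mulSingle i (Multiplicative.ofAdd ((r ^ (j - 1) : ℕ) : ZMod (n i)))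
    obtain ⟨y, hy⟩ := hdiv (e.symm g) (by
      rw [← map_pow, ← map_one e.symm]
      congr 1
      rw [← Pi.mulSingle_pow, ← ofAdd_nsmul, nsmul_eq_mul, ← Nat.cast_mul, ← pow_succ',
        show j - 1 + 1 = j by omega, ← hnj, ZMod.natCast_self, ofAdd_zero, Pi.mulSingle_one])
    have h := congrArg (fun w => w i) (congrArg e hy)
    simp only [map_pow, MulEquiv.apply_symm_apply, Pi.pow_apply, g, Pi.mulSingle_eq_same] at h
    have h0 : e y i ^ r ^ (k - 1) = 1 := by
      obtain ⟨c, hc⟩ : n i ∣ r ^ (k - 1) := hnj ▸ pow_dvd_pow r (by omega)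
      rw [hc, pow_mul]
      refine (congrArg (· ^ c) ?_).trans (one_pow c)
      apply Multiplicative.toAdd.injective
      rw [toAdd_pow, toAdd_one, nsmul_eq_mul, ZMod.natCast_self, zero_mul]
    rw [h0] at h
    have h1 : ((r ^ (j - 1) : ℕ) : ZMod (n i)) = 0 := (Multiplicative.ofAdd.injective (h.symm.trans ofAdd_zero.symm))
    rw [ZMod.natCast_eq_zero_iff, hnj] at h1
    have := Nat.le_of_dvd (pow_pos hr.pos _) h1
    have := Nat.pow_lt_pow_right hr.one_lt (show j - 1 < j by omega)
    omega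
  have hca : Fintype.card ι = a := by
    have h := Nat.card_congr e.toEquiv
    rw [hcard, Nat.card_pi] at h
    simp only [show ∀ i, Nat.card (Multiplicative (ZMod (n i))) = r ^ k from fun i => by
      rw [Nat.card_congr Multiplicative.toAdd, Nat.card_zmod, hne]] at h
    rw [Finset.prod_const, Finset.card_univ] at h
    exact (Nat.pow_right_injective (Nat.one_lt_pow (by omega) hr.one_lt) h).symm
  let e₁ : ((i : ι) → Multiplicative (ZMod (n i))) ≃* (ι → Multiplicative (ZMod (r ^ k))) :=
    MulEquiv.piCongrRight fun i => AddEquiv.toMultiplicative (ZMod.ringEquivCongr (hne i)).toAddEquiv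
  let σ : ι ≃ Fin a := (Fintype.equivFin ι).trans (finCongr hca)
  let e₂ : (ι → Multiplicative (ZMod (r ^ k))) ≃* (Fin a → Multiplicative (ZMod (r ^ k))) :=
    { toFun := fun f j => f (σ.symm j)
      invFun := fun g i => g (σ i)
      left_inv := fun f => funext fun i => by simp
      right_inv := fun g => funext fun j => by simp
      map_mul' := fun f g => rfl }
  exact ⟨(e.trans e₁).trans e₂⟩

end CfsgLib.ChevCent
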