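import Cfsg.Agent.Lib.Steinberg.Embed
import Cfsg.Agent.Lib.ChevCent.WeylAct
import Cfsg.Agent.Lib.ChevField.Descent

/-!
# Lifting a fixed torus element to the simply connected torus seen in a larger type

A subsystem of a larger type carries the simply connected group; pairs of corresponding root elements generate
its graph, which is functorial in the field.
-/

set_option autoImplicit false
set_option linter.unusedSectionVars false

namespace CfsgLib.ChevCent

open Cfsg.Lie CfsgLib.Chev CfsgLib.ChevField CfsgLib.Steinberg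
open scoped Matrix

variable {D D' : ChevalleyDatum} {T T' : Tabs} {F E K : Type*} [Field F] [Field E] [Field K] {io : List ℕ}

/-- the reflection in a fundamental root on weights in fundamental coordinates -/
def wRefl (D : ChevalleyDatum) (i : Fin D.rank) (w : Fin D.rank → ℤ) : Fin D.rank → ℤ :=
  fun k => w k - w i * cm D k i

/-- a product of fundamental reflections on weights -/
def wRefls (D : ChevalleyDatum) (L : List (Fin D.rank)) (w : Fin D.rank → ℤ) : Fin D.rank → ℤ :=
  L.foldr (fun i x => wRefl D i x) w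

section
variable (hr : D.rank ≤ D'.rank)
include hr

/-- the node of the larger type -/
def upNode (i : Fin D.rank) : Fin D'.rank := ⟨i.val, lt_of_lt_of_le i.2 hr⟩

/-- the weight on the subsystem of a vector of the larger type -/
def resC (v : Fin D'.rank → ℤ) : Fin D.rank → ℤ := fun i => ∑ j, cm D' (upNode hr i) j * v j

/-- the character of the larger type at a parameter of the subsystem -/
noncomputable def upPar (K : Type*) [Field K] : (Fin D.rank → Kˣ) →* (Fin D'.rank → Kˣ) :=
  MonoidHom.mk' (fun c j => ∏ i, c i ^ cm D' (upNode hr i) j) fun a b => by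
    funext j; simp [mul_zpow, Finset.prod_mul_distrib]

theorem chi_upPar (c : Fin D.rank → Kˣ) (v : Fin D'.rank → ℤ) : chi (upPar hr K c) v = chi c (resC hr v) := by
  show ∏ j, (∏ i, c i ^ cm D' (upNode hr i) j) ^ v j = ∏ i, c i ^ resC hr v i
  simp only [← Finset.prod_zpow, ← zpow_mul]
  rw [Finset.prod_comm]
  exact Finset.prod_congr rfl fun i _ => prod_zpow_sum _ _ _

theorem upPar_map (f : F →+* K) (c : Fin D.rank → Fˣ) :
    (fun j => Units.map f.toMonoidHom (upPar hr F c j)) = upPar hr K fun i => Units.map f.toMonoidHom (c i) := by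
  funext j
  show Units.map f.toMonoidHom (∏ i, c i ^ cm D' (upNode hr i) j) = _
  simp only [map_prod, map_zpow]
  rfl

theorem resC_refls (hcart : ∀ i l : Fin D.rank, cm D' (upNode hr l) (upNode hr i) = cm D l i)
    (L : List (Fin D.rank)) (v : Fin D'.rank → ℤ) :
    resC hr (refls D' (L.map (upNode hr)) v) = wRefls D L (resC hr v) := by
  induction L with
  | nil => rfl
  | cons i L ih =>
    show resC hr (refl D' (upNode hr i) (refls D' (L.map (upNode hr)) v)) = wRefl D i (wRefls D L (resC hr v))
    rw [← ih]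
    funext k
    simp only [resC, wRefl, Chev.refl, Pi.sub_apply, mul_sub, Finset.sum_sub_distrib, Pi.single_apply, mul_ite, mul_zero,
      Finset.sum_ite_eq', Finset.mem_univ, if_true, hcart]
    ring

/-- the image of the simply connected torus lies in the diagonal subgroup of the larger type -/
theorem upPar_eq_hPar (c : Fin D.rank → Kˣ) :
    upPar hr K c = hPar D' K (fun l => if h : l.val < D.rank then c ⟨l.val, h⟩ else 1) := by
  classical
  funext j
  show ∏ i, c i ^ cm D' (upNode hr i) j =
    ∏ l : Fin D'.rank, (if h : l.val < D.rank then c ⟨l.val, h⟩ else 1) ^ cm D' l j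
  rw [← Finset.prod_subset (Finset.subset_univ (Finset.univ.image (upNode hr))) (fun l _ hl => by
      have hlt : ¬ l.val < D.rank := fun h => hl (Finset.mem_image.2 ⟨⟨l.val, h⟩, Finset.mem_univ _, rfl⟩)
      rw [dif_neg hlt, one_zpow]),
    Finset.prod_image (g := upNode hr) (fun a _ b _ e => Fin.ext (show a.val = b.val from congrArg (fun z : Fin D'.rank => z.val) e))]
  exact Finset.prod_congr rfl fun i _ => by rw [dif_pos (show (upNode hr i).val < D.rank from i.2)]; rfl

end

/-- pairs of corresponding root elements -/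
def embGraph (D D' : ChevalleyDatum) (io : List ℕ) (K : Type*) [Field K] : Subgroup (GL D.Idx K × GL D'.Idx K) :=
  Subgroup.closure {p | ∃ r t, r < D.nroots ∧ p = (elX D K r t, elX D' K (io.getD r 0) t)}

variable (S : Setup D T) (S' : Setup D' T')
include S S'

theorem embGraph_map (h : EmbOk D D' io) (f : F →+* K) {p : GL D.Idx F × GL D'.Idx F} (hp : p ∈ embGraph D D' io F) :
    ((glMap D f) p.1, (glMap D' f) p.2) ∈ embGraph D D' io K := by
  let φ : GL D.Idx F × GL D'.Idx F →* GL D.Idx K × GL D'.Idx K := MonoidHom.prodMap (glMap D f) (glMap D' f)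
  suffices hle : (embGraph D D' io F).map φ ≤ embGraph D D' io K from hle ⟨p, hp, rfl⟩
  rw [embGraph, MonoidHom.map_closure, Subgroup.closure_le]
  rintro _ ⟨_, ⟨r, t, hr, rfl⟩, rfl⟩
  exact Subgroup.subset_closure ⟨r, f t, hr, Prod.ext (glMap_elX S.checked f hr t)
    (glMap_elX S'.checked f (h.2.2.2.2.1 r hr).1 t)⟩

theorem exists_embGraph {g : GL D.Idx K} (hg : g ∈ D.group K) : ∃ g', (g, g') ∈ embGraph D D' io K := by
  have hle : D.group K ≤ (embGraph D D' io K).map (MonoidHom.fst _ _) := by
    rw [group_eq S.checked, uGen_le_iff]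
    exact fun r hr _ t => ⟨_, Subgroup.subset_closure ⟨r, t, hr, rfl⟩, rfl⟩
  obtain ⟨⟨a, b⟩, hab, rfl⟩ := hle hg
  exact ⟨b, hab⟩

/-- the simply connected torus and the monomial representatives lie in the graph -/
theorem nProd_mem_embGraph (h : EmbOk D D' io) (L : List (Fin D.rank)) :
    (nProd D K L, nProd D' K (L.map (upNode h.1))) ∈ embGraph D D' io K := by
  induction L with
  | nil => exact one_mem _
  | cons i L ih =>
    rw [List.map_cons, nProd_cons, nProd_cons]
    obtain ⟨-, hsimp, -, -, hio, -⟩ := id h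
    have hp := simple_lt S.checked i.2
    have hneg : io.getD (D.neg (D.simple i)) 0 = D'.neg (D'.simple i) := by
      obtain ⟨hlt, hsum⟩ := hio _ hp
      rw [hsimp i.val i.2] at hlt hsum
      rw [neg_eq S.checked hp, neg_eq S'.checked hlt,
        show D.nroots - (D.simple i + 1) = D.nroots - 1 - D.simple i by omega]
      omega
    have hgen : ∀ r t, r < D.nroots → (elX D K r t, elX D' K (io.getD r 0) t) ∈ embGraph D D' io K :=
      fun r t hr => Subgroup.subset_closure ⟨r, t, hr, rfl⟩
    refine mul_mem (a := (elN D K (D.simple i.val) 1, elN D' K (D'.simple i.val) 1)) ?_ ih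
    show (elN D K (D.simple i.val) 1, elN D' K (D'.simple i.val) 1) ∈ _
    have h1 := hgen _ (1 : K) hp
    have h2 := hgen _ (-(1 : K)⁻¹) (neg_lt S.checked hp)
    rw [hsimp i.val i.2] at h1
    rw [hneg] at h2
    exact mul_mem (mul_mem h1 h2) h1

/-- the kernel of the first projection consists of torus elements of parameters killed by the pairing -/
theorem embGraph_spec [Finite K] (hd : ShortChains D) (hd' : ShortChains D') (h : EmbOk D D' io) :
    (∀ c : Fin D.rank → Kˣ, (torus D T K (hPar D K c), torus D' T' K (upPar h.1 K c)) ∈ embGraph D D' io K) ∧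
      ∀ z, (1, z) ∈ embGraph D D' io K → ∃ c, hPar D K c = 1 ∧ z = torus D' T' K (upPar h.1 K c) := by
  have Sc := coverSys K S
  obtain ⟨ν, hν⟩ := exists_embHom (K := K) S S' hd hd' h
  obtain ⟨hrank, hsimp, -, -, hio, -⟩ := id h
  have hN : ∀ (i : Fin D.rank) (t : K), ν (nE D (D.scGen K) (D.simple i) t) = elN D' K (D'.simple i) t := fun i t => by
    have hp := simple_lt S.checked i.2
    have hneg : io.getD (D.neg (D.simple i)) 0 = D'.neg (D'.simple i) := by
      obtain ⟨hlt, hsum⟩ := hio _ hp
      rw [hsimp i.val i.2] at hlt hsum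
      rw [neg_eq S.checked hp, neg_eq S'.checked hlt,
        show D.nroots - (D.simple i + 1) = D.nroots - 1 - D.simple i by omega]
      omega
    simp only [nE, elN, map_mul, hν _ _ hp, hν _ _ (neg_lt S.checked hp), hneg, hsimp i.val i.2]
  have key : ∀ c, ν (Sc.hTorus (cover_top K) c) = torus D' T' K (upPar h.1 K c) := by
    have key : (⊤ : Subgroup (Fin D.rank → Kˣ)) ≤
        (ν.comp (Sc.hTorus (cover_top K))).eqLocus ((torus D' T' K).comp (upPar h.1 K)) := by
      intro b _
      rw [← Finset.univ_prod_mulSingle b]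
      refine Subgroup.prod_mem _ fun i _ => ?_
      show ν (Sc.hTorus (cover_top K) (Pi.mulSingle i (b i))) = torus D' T' K (upPar h.1 K (Pi.mulSingle i (b i)))
      rw [Sc.hTorus_single, hE, map_mul, hN, hN, show ∀ p t, elN D' K p t * elN D' K p (-1) = elH D' K p t from
        fun _ _ => rfl, show D'.simple i.val = D'.simple (upNode h.1 i).val from rfl,
        elH_eq_torus S'.checked (simple_lt S'.checked (upNode h.1 i).2)]
      congr 1
      funext k
      show _ = ∏ l, (Pi.mulSingle i (b i) : Fin D.rank → Kˣ) l ^ cm D' (upNode h.1 l) k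
      rw [Finset.prod_eq_single i (fun l _ hl => by rw [Pi.mulSingle_eq_of_ne hl, one_zpow]) (by simp),
        Pi.mulSingle_eq_same, corChar, Finset.sum_eq_single (upNode h.1 i)]
      · rw [cv_simple S'.checked (upNode h.1 i).2 (upNode h.1 i).2, if_pos rfl, one_mul]
      · intro l _ hl
        rw [cv_simple S'.checked (upNode h.1 i).2 l.2, if_neg (fun e => hl (Fin.ext e.symm)), zero_mul]
      · simp
    exact fun c => key (Subgroup.mem_top c)
  have hgen : ∀ s, (coverHom K S s, ν s) ∈ embGraph D D' io K := by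
    have hle : (⊤ : Subgroup (D.SteinbergCover K)) ≤ (embGraph D D' io K).comap ((coverHom K S).prod ν) := by
      rw [← cover_top K, yGen, Subgroup.closure_le]
      rintro _ ⟨r, t, hr, -, rfl⟩
      exact Subgroup.subset_closure ⟨r, t, hr, Prod.ext (coverHom_scGen K S hr t) (hν r t hr)⟩
    exact fun s => hle (Subgroup.mem_top s)
  constructor
  · intro c
    have h1 := hgen (Sc.hTorus (cover_top K) c)
    rwa [Sc.proj_hTorus, key] at h1
  · intro z hz
    have hle : embGraph D D' io K ≤ ((coverHom K S).prod ν).range := by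
      rw [embGraph, Subgroup.closure_le]
      rintro _ ⟨r, t, hr, rfl⟩
      exact ⟨D.scGen K r t, Prod.ext (coverHom_scGen K S hr t) (hν r t hr)⟩
    obtain ⟨s, hs⟩ := hle hz
    obtain ⟨c, hc, rfl⟩ := Sc.ker_torus (cover_top K) (congrArg Prod.fst hs)
    exact ⟨c, hc, (congrArg Prod.snd hs).symm.trans (key c)⟩

/-- the parameter of a fixed element of the twisted torus comes from a twisted parameter of the simply connected
torus -/
theorem exists_lift [Finite E] (hd : ShortChains D) (hd' : ShortChains D') (h : EmbOk D D' io)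
    (hcart : ∀ i l : Fin D.rank, cm D' (upNode h.1 l) (upNode h.1 i) = cm D l i)
    {R : Fin D'.rank → Fin D.rank → ℤ}
    (hR : ∀ i k : Fin D.rank, ∑ j, cm D' (upNode h.1 i) j * R j k = if i = k then 1 else 0)
    (ι : F →+* E) (σ : E →+* E) (hσι : ∀ a, σ (ι a) = ι a) {q : ℕ} (hσ : ∀ a, σ a = a ^ q) {g : GL D.Idx E}
    (hg : g ∈ D.group E) {L : List (Fin D.rank)} {a : Fin D.rank → Eˣ}
    (hL : glMap D σ g * g⁻¹ = torus D T E (hPar D E a) * nProd D E L) {b : GL D.Idx F} (hb : b ∈ D.group F)
    {χ : Fin D.rank → Eˣ} (hχd : torus D T E χ ∈ D.diagonalSubgroup E)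
    (hbχ : g * glMap D ι b * g⁻¹ = torus D T E χ) :
    ∃ c, hPar D E c = χ ∧ ∀ w, chi c (wRefls D L.reverse w) = chi c w ^ q := by
  obtain ⟨htor, hker⟩ := embGraph_spec (K := E) S S' hd hd' h
  obtain ⟨b', hb'⟩ := exists_embGraph (K := F) (io := io) S S' hb
  obtain ⟨g', hg'⟩ := exists_embGraph (K := E) (io := io) S S' hg
  have hιb := embGraph_map S S' h ι hb'
  have hσg := embGraph_map S S' h σ hg'
  obtain ⟨c₀, hc₀⟩ := (mem_diagonal S.checked).1 hχd
  have hcχ : hPar D E c₀ = χ := torus_injective S.checked hc₀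
  obtain ⟨c₁, hc₁, e₁⟩ := hker (g' * glMap D' ι b' * g'⁻¹ * (torus D' T' E (upPar h.1 E c₀))⁻¹) (by
    have h1 := mul_mem (mul_mem (mul_mem hg' hιb) (inv_mem hg')) (inv_mem (htor c₀))
    simp only [Prod.mk_mul_mk, Prod.inv_mk] at h1
    rw [hbχ, hc₀, mul_inv_cancel] at h1
    exact h1)
  set c := c₁ * c₀ with hcdef
  have hc : hPar D E c = χ := by rw [hcdef, map_mul, hc₁, one_mul, hcχ]
  have hup : g' * glMap D' ι b' * g'⁻¹ = torus D' T' E (upPar h.1 E c) := by
    rw [hcdef, map_mul, map_mul, ← e₁]; group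
  have hσt : glMap D' σ (torus D' T' E (upPar h.1 E c)) = torus D' T' E (upPar h.1 E (c ^ q)) := by
    rw [glMap_torus, upPar_map]
    congr 2
    funext j
    exact Units.ext (hσ _)
  have hup' : glMap D' σ g' * glMap D' ι b' * (glMap D' σ g')⁻¹ = torus D' T' E (upPar h.1 E (c ^ q)) := by
    rw [← hσt, ← hup, map_mul, map_mul, map_inv]
    congr 2
    ext i j
    exact (hσι _).symm
  set C := glMap D' σ g' * g'⁻¹ with hC
  have hCc : C * torus D' T' E (upPar h.1 E c) * C⁻¹ = torus D' T' E (upPar h.1 E (c ^ q)) := by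
    rw [← hup', ← hup, hC]; group
  obtain ⟨a₁, -, ea⟩ := hker (C * (torus D' T' E (upPar h.1 E a) * nProd D' E (L.map (upNode h.1)))⁻¹) (by
    have h1 := mul_mem (mul_mem hσg (inv_mem hg'))
      (inv_mem (mul_mem (htor a) (nProd_mem_embGraph S S' h (K := E) L)))
    simp only [Prod.mk_mul_mk, Prod.inv_mk] at h1
    rw [hL, mul_inv_cancel] at h1
    exact h1)
  have hCform : C = torus D' T' E (upPar h.1 E (a₁ * a)) * nProd D' E (L.map (upNode h.1)) := by
    rw [map_mul, map_mul, ← ea]; group
  have hrefl : reflChars (L.map (upNode h.1)) (upPar h.1 E c) = upPar h.1 E (c ^ q) := by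
    refine torus_injective S'.checked ?_
    rw [← hCc, hCform, mul_inv_rev, ← nProd_conj_torus S'.checked (L.map (upNode h.1)) (upPar h.1 E c)]
    set A := torus D' T' E (upPar h.1 E (a₁ * a))
    set n := nProd D' E (L.map (upNode h.1))
    set t := torus D' T' E (upPar h.1 E c)
    have e : A * (n * t * n⁻¹) * A⁻¹ = n * t * n⁻¹ := by
      rw [nProd_conj_torus S'.checked]
      simp only [A, ← map_inv (torus D' T' E)]
      rw [← map_mul, ← map_mul, mul_comm, inv_mul_cancel_left]
    rw [show A * n * t * (n⁻¹ * A⁻¹) = A * (n * t * n⁻¹) * A⁻¹ by group, e]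
  refine ⟨c, hc, fun w => ?_⟩
  set v : Fin D'.rank → ℤ := fun j => ∑ k, R j k * w k
  have hv : resC h.1 v = w := by
    funext i
    simp only [resC, v, Finset.mul_sum, ← mul_assoc]
    rw [Finset.sum_comm]
    simp only [← Finset.sum_mul, hR, ite_mul, one_mul, zero_mul, Finset.sum_ite_eq, Finset.mem_univ, if_true]
  have h2 : chi (reflChars (L.map (upNode h.1)) (upPar h.1 E c)) v = chi (upPar h.1 E (c ^ q)) v := by rw [hrefl]
  rw [chi_reflChars S'.checked, ← List.map_reverse] at h2
  rw [chi_upPar, chi_upPar, resC_refls h.1 hcart, hv, chi_pow'] at h2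
  exact h2

/-- a Lang conjugator of the subsystem gives one of the larger type -/
theorem exists_lift_twist [Finite E] (hd : ShortChains D) (hd' : ShortChains D') (h : EmbOk D D' io) (σ : E →+* E)
    {g : GL D.Idx E} (hg : g ∈ D.group E) {L : List (Fin D.rank)} {a : Fin D.rank → Eˣ}
    (hL : glMap D σ g * g⁻¹ = torus D T E (hPar D E a) * nProd D E L) :
    ∃ g' ∈ D'.group E, ∃ a' : Fin D.rank → Eˣ,
      glMap D' σ g' * g'⁻¹ = torus D' T' E (upPar h.1 E a') * nProd D' E (L.map (upNode h.1)) := by
  obtain ⟨htor, hker⟩ := embGraph_spec (K := E) S S' hd hd' h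
  obtain ⟨g', hg'⟩ := exists_embGraph (K := E) (io := io) S S' hg
  have hσg := embGraph_map S S' h σ hg'
  have hsnd : embGraph D D' io E ≤ (D'.group E).comap (MonoidHom.snd _ _) := by
    rw [embGraph, Subgroup.closure_le]
    rintro _ ⟨r, t, hr, rfl⟩
    exact elX_mem_group S'.checked (h.2.2.2.2.1 r hr).1 t
  obtain ⟨a₁, -, ea⟩ := hker (glMap D' σ g' * g'⁻¹ *
      (torus D' T' E (upPar h.1 E a) * nProd D' E (L.map (upNode h.1)))⁻¹) (by
    have h1 := mul_mem (mul_mem hσg (inv_mem hg'))
      (inv_mem (mul_mem (htor a) (nProd_mem_embGraph S S' h (K := E) L)))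
    simp only [Prod.mk_mul_mk, Prod.inv_mk] at h1
    rw [hL, mul_inv_cancel] at h1
    exact h1)
  refine ⟨g', hsnd hg', a₁ * a, ?_⟩
  rw [map_mul, map_mul, ← ea]; group

end CfsgLib.ChevCent
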