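import Cfsg.Agent.Lib.ChevCent.TorusSet
import Cfsg.Agent.Lib.ChevCent.WeightLift

/-!
# Cyclic self-centralising maximal tori in the adjoint group when the pairing is not surjective
-/

set_option autoImplicit false
set_option linter.unusedSectionVars false

namespace CfsgLib.ChevCent

open Cfsg.Lie CfsgLib.Chev CfsgLib.ChevField CfsgLib.Steinberg
open scoped Matrix

variable {D D' : ChevalleyDatum} {T T' : Tabs} {F E : Type*} [Field F] [Field E]

/-- the Cartan matrix -/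
def cmMat (D : ChevalleyDatum) : Matrix (Fin D.rank) (Fin D.rank) ℤ := Matrix.of (cm D)

/-- the matrix of a product of reflections on weights -/
def wMat (D : ChevalleyDatum) (L : List (Fin D.rank)) : Matrix (Fin D.rank) (Fin D.rank) ℤ :=
  Matrix.of fun i j => wRefls D L (Pi.single j 1) i

theorem wRefl_add (i : Fin D.rank) (v w : Fin D.rank → ℤ) : wRefl D i (v + w) = wRefl D i v + wRefl D i w := by
  funext k; simp only [wRefl, Pi.add_apply]; ring

theorem wRefls_add (L : List (Fin D.rank)) (v w : Fin D.rank → ℤ) :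
    wRefls D L (v + w) = wRefls D L v + wRefls D L w := by
  induction L with
  | nil => rfl
  | cons i L ih =>
    show wRefl D i (wRefls D L (v + w)) = wRefl D i (wRefls D L v) + wRefl D i (wRefls D L w)
    rw [ih, wRefl_add]

theorem wMat_mulVec (L : List (Fin D.rank)) (w : Fin D.rank → ℤ) : wMat D L *ᵥ w = wRefls D L w := by
  let φ : (Fin D.rank → ℤ) →+ (Fin D.rank → ℤ) := AddMonoidHom.mk' (wRefls D L) (wRefls_add L)
  have e : w = ∑ i, w i • (Pi.single i 1 : Fin D.rank → ℤ) := by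
    funext j
    simp [Finset.sum_apply, Pi.single_apply]
  show _ = φ w
  conv_rhs => rw [e, map_sum]
  funext i
  simp only [Matrix.mulVec, dotProduct, wMat, Matrix.of_apply, Finset.sum_apply, map_zsmul, Pi.smul_apply,
    smul_eq_mul]
  exact Finset.sum_congr rfl fun j _ => mul_comm _ _

theorem wRefl_cmMat (i : Fin D.rank) (v : Fin D.rank → ℤ) :
    wRefl D i (cmMat D *ᵥ v) = cmMat D *ᵥ Chev.refl D i v := by
  funext k
  simp only [wRefl, cmMat, Chev.refl, Matrix.mulVec, dotProduct, Matrix.of_apply, Pi.sub_apply, mul_sub,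
    Finset.sum_sub_distrib, Pi.single_apply, mul_ite, mul_zero, Finset.sum_ite_eq', Finset.mem_univ, if_true]
  ring

theorem wRefls_cmMat (L : List (Fin D.rank)) (v : Fin D.rank → ℤ) :
    wRefls D L (cmMat D *ᵥ v) = cmMat D *ᵥ refls D L v := by
  induction L with
  | nil => rfl
  | cons i L ih =>
    show wRefl D i (wRefls D L (cmMat D *ᵥ v)) = cmMat D *ᵥ Chev.refl D i (refls D L v)
    rw [ih, wRefl_cmMat]

theorem chi_cmMat (c : Fin D.rank → Eˣ) (v : Fin D.rank → ℤ) : chi c (cmMat D *ᵥ v) = chi (hPar D E c) v := by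
  simp only [chi]
  rw [prod_zpow_hPar]
  rfl

theorem det_cmMat_ne_zero {Nadj : Fin D.rank → Fin D.rank → ℤ} {dd : ℕ} (hdd : dd ≠ 0)
    (hadj : ∀ i j, ∑ k, Nadj i k * cm D k j = if i = j then (dd : ℤ) else 0) :
    (cmMat D).det ≠ 0 ∧ ∀ l : ℕ, l.Prime → ¬ l ∣ dd → ¬ (l : ℤ) ∣ (cmMat D).det := by
  have h : Matrix.of Nadj * cmMat D = (dd : ℤ) • (1 : Matrix (Fin D.rank) (Fin D.rank) ℤ) := by
    ext i j
    simp only [Matrix.mul_apply, Matrix.of_apply, cmMat, hadj, Matrix.smul_apply, Matrix.one_apply, smul_eq_mul]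
    split <;> simp
  have h2 := congrArg Matrix.det h
  rw [Matrix.det_mul, Matrix.det_smul, Matrix.det_one, mul_one] at h2
  refine ⟨fun h0 => ?_, fun l hl hld hdvd => ?_⟩
  · rw [h0, mul_zero] at h2
    exact pow_ne_zero _ (Int.natCast_ne_zero.2 hdd) h2.symm
  · have h3 : (l : ℤ) ∣ (dd : ℤ) ^ Fintype.card (Fin D.rank) := h2 ▸ dvd_mul_of_dvd_right hdvd _
    exact hld (Int.natCast_dvd_natCast.1 ((Nat.prime_iff_prime_int.1 hl).dvd_of_dvd_pow h3))

theorem charpoly_of_intertwine {n : Type*} [Fintype n] [DecidableEq n] {A A' C : Matrix n n ℤ} (hC : C.det ≠ 0)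
    (h : C * A = A' * C) : A'.charpoly = A.charpoly := by
  set φ := (Polynomial.C : ℤ →+* Polynomial ℤ).mapMatrix (m := n)
  have hA : ∀ M : Matrix n n ℤ, Matrix.charmatrix M = Matrix.scalar n (Polynomial.X : Polynomial ℤ) - φ M :=
    fun M => rfl
  have h1 : Matrix.charmatrix A' * φ C = φ C * Matrix.charmatrix A := by
    rw [hA, hA, sub_mul, mul_sub, ← map_mul, ← map_mul, h]
    congr 1
    exact (Matrix.scalar_commute (Polynomial.X : Polynomial ℤ) (fun r => Commute.all _ r) (φ C)).eq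
  have h2 := congrArg Matrix.det h1
  rw [Matrix.det_mul, Matrix.det_mul, mul_comm, ← RingHom.map_det] at h2
  exact mul_left_cancel₀ (Polynomial.C_ne_zero.2 hC) h2

theorem cof_of_intertwine {n : Type*} [Fintype n] [DecidableEq n] {B B' C : Matrix n n ℤ} {l : ℕ} (hl : l.Prime)
    (hC : ¬ (l : ℤ) ∣ C.det) (h : C * B = B' * C) (hB : ∃ i j, ¬ (l : ℤ) ∣ B.adjugate i j) :
    ∃ i j, ¬ (l : ℤ) ∣ B'.adjugate i j := by
  by_contra hall
  push Not at hall
  obtain ⟨i, j, hij⟩ := hB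
  have h1 : B.adjugate * C.adjugate = C.adjugate * B'.adjugate := by
    rw [← Matrix.adjugate_mul_distrib, ← Matrix.adjugate_mul_distrib, h]
  have h2 : (C.det • B.adjugate : Matrix n n ℤ) = C.adjugate * B'.adjugate * C := by
    rw [← h1, Matrix.mul_assoc, Matrix.adjugate_mul, Matrix.mul_smul, Matrix.mul_one]
  have h3 : (l : ℤ) ∣ C.det * B.adjugate i j := by
    rw [← smul_eq_mul, ← Matrix.smul_apply, h2, Matrix.mul_apply]
    refine Finset.dvd_sum fun k _ => dvd_mul_of_dvd_left ?_ _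
    rw [Matrix.mul_apply]
    exact Finset.dvd_sum fun m _ => dvd_mul_of_dvd_right (hall m k) _
  rcases (Nat.prime_iff_prime_int.1 hl).dvd_mul.1 h3 with h | h
  · exact hC h
  · exact hij h

theorem chi_twist_iff (A : Matrix (Fin D.rank) (Fin D.rank) ℤ) (q : ℕ) (χ : Fin D.rank → Eˣ) :
    (∀ v, chi χ ((Matrix.scalar (Fin D.rank) (q : ℤ) - A) *ᵥ v) = 1) ↔ ∀ v, chi χ (A *ᵥ v) = chi χ v ^ q := by
  refine forall_congr' fun v => ?_
  rw [Matrix.sub_mulVec, Matrix.scalar_apply,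
    show (Matrix.diagonal fun _ => (q : ℤ)) *ᵥ v = (q : ℤ) • v by
      funext i; simp [Matrix.mulVec_diagonal],
    chi_sub, chi_smul, zpow_natCast, div_eq_one]
  exact eq_comm

section
variable (hc : Checked D T)
include hc

theorem wMat_intertwine (L : List (Fin D.rank)) :
    cmMat D * permMat hc (permOf hc L) = wMat D L * cmMat D := by
  refine Matrix.ext_of_mulVec_single fun j => ?_
  rw [← Matrix.mulVec_mulVec, ← Matrix.mulVec_mulVec, permMat_single, wMat_mulVec, wRefls_cmMat]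
  congr 1
  show rv D T (sigs D T L (D.simple j.val)) = _
  rw [rv_sigs hc L (simple_lt hc j.2), rv_simple hc]

theorem fixedChar_iff (L : List (Fin D.rank)) (q : ℕ) (χ : Fin D.rank → Eˣ) :
    reflChars L χ = χ ^ q ↔
      ∀ v, chi χ ((Matrix.scalar (Fin D.rank) (q : ℤ) - permMat hc (permOf hc L.reverse)) *ᵥ v) = 1 := by
  rw [chi_twist_iff]
  constructor
  · intro h v; rw [chi_permMat, permAct_permOf, List.reverse_reverse, h, chi_pow']
  · intro h
    refine chi_ext fun v => ?_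
    have := h v
    rwa [chi_permMat, permAct_permOf, List.reverse_reverse, ← chi_pow'] at this

end

section
variable (hc : Checked D T) (hcomm : CommOne D T)
include hc hcomm

/-- a power of a fixed element of the group is defined over the small field -/
theorem fixed_descent_pow (ι : F →+* E) (σ : E →+* E) (hfix : ∀ a, σ a = a → a ∈ Set.range ι)
    {N : Fin D.rank → Fin D.rank → ℤ} {dd : ℕ}
    (hN : ∀ i j, ∑ k, N i k * cm D k j = if i = j then (dd : ℤ) else 0)
    {g : GL D.Idx E} (hg : g ∈ D.group E) (hσ : glMap D σ g = g) :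
    g ^ dd ∈ (D.group F).map (glMap D ι) := by
  set K := (D.group F).map (glMap D ι)
  obtain ⟨L, u, h, v, hu, hh, hv, e⟩ := ChevField.exists_bruhat hc hcomm hg
  have hσ' := hσ
  rw [e, map_mul, map_mul, map_mul, glMap_nProd hc] at hσ'
  obtain ⟨hu', hh', hv'⟩ := ChevField.bruhat_unique hc hcomm (glMap_uGen hc σ hu) hu (glMap_diagonal hc σ hh) hh
    (glMap_uGen hc σ hv) hv hσ'
  have huK := pos_descent hc hcomm ι σ hfix hu hu'
  have hvK := pos_descent hc hcomm ι σ hfix (uGen_mono (fun r _ hP => hP.1) hv) hv'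
  have hnK : nProd D E L ∈ K := ⟨nProd D F L, monomial_le_group hc (nProd_mem_monomial hc L), glMap_nProd hc ι L⟩
  obtain ⟨c, rfl⟩ := (mem_diagonal hc).1 hh
  choose χ₀ hχ₀ using fun j => hfix _ (torus_fixed hc hh' j)
  have hne : ∀ j, χ₀ j ≠ 0 := fun j h0 => (hPar D E c j).ne_zero (by rw [← hχ₀ j, h0, map_zero])
  set χ : Fin D.rank → Fˣ := fun j => Units.mk0 (χ₀ j) (hne j)
  have hH : torus D T E (hPar D E c) = glMap D ι (torus D T F χ) := by
    rw [glMap_torus]
    congr 1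
    funext j
    exact Units.ext (hχ₀ j).symm
  set H := torus D T E (hPar D E c)
  have hnorm : ∀ k ∈ K, H * k * H⁻¹ ∈ K := by
    rintro _ ⟨k, hk, rfl⟩
    exact ⟨_, torus_normalizes_group hc χ hk, by rw [hH, map_mul, map_mul, map_inv]⟩
  have hHd : H ^ dd ∈ K := by
    refine ⟨torus D T F (χ ^ dd), ?_, by rw [map_pow, map_pow, hH]⟩
    rw [← hPar_pow_of_adj hc hN]
    exact diagonal_le_group hc ((mem_diagonal hc).2 ⟨_, rfl⟩)
  have hgK : ∃ k ∈ K, g = k * H := by
    refine ⟨u * (H * (nProd D E L * v) * H⁻¹), mul_mem huK (hnorm _ (mul_mem hnK hvK)), ?_⟩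
    rw [e]; group
  obtain ⟨k, hk, ek⟩ := hgK
  have hpow : ∀ j : ℕ, ∃ k' ∈ K, g ^ j = k' * H ^ j := by
    intro j
    induction j with
    | zero => exact ⟨1, one_mem _, by simp⟩
    | succ j ih =>
      obtain ⟨k', hk', e'⟩ := ih
      refine ⟨k * (H * k' * H⁻¹), mul_mem hk (hnorm _ hk'), ?_⟩
      rw [pow_succ', e', pow_succ', ek]; group
  obtain ⟨k', hk', e'⟩ := hpow dd
  have hgd : g ^ dd ∈ K := e' ▸ mul_mem hk' hHd
  exact hgd

/-- the elements of `G(F)` in a torus conjugate over `E` to the split one -/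
noncomputable def torusSub (ι : F →+* E) (g : GL D.Idx E) : Subgroup ↥(D.group F) :=
  (((D.diagonalSubgroup E).comap (MulAut.conj g).toMonoidHom).comap (glMap D ι)).subgroupOf (D.group F)

/-- a twisted parameter of the adjoint torus which does not come from `G(F)` -/
theorem exists_not_descent [Fintype E] (hwit : HasWit D) (S' : Setup D' T') (hd : ShortChains D) (hd' : ShortChains D')
    {io : List ℕ} (h : EmbOk D D' io)
    (hcart : ∀ i l : Fin D.rank, cm D' (upNode h.1 l) (upNode h.1 i) = cm D l i)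
    {R : Fin D'.rank → Fin D.rank → ℤ}
    (hR : ∀ i k : Fin D.rank, ∑ j, cm D' (upNode h.1 i) j * R j k = if i = k then 1 else 0)
    (ι : F →+* E) (σ : E →+* E) (hσι : ∀ a, σ (ι a) = ι a) {q : ℕ} (hσ : ∀ a, σ a = a ^ q) {g : GL D.Idx E}
    (hg : g ∈ D.group E) {L : List (Fin D.rank)} {a : Fin D.rank → Eˣ}
    (hL : glMap D σ g * g⁻¹ = torus D T E (hPar D E a) * nProd D E L)
    {Nadj : Fin D.rank → Fin D.rank → ℤ} {dd : ℕ} (hdd : dd.Prime)
    (hadj : ∀ i j, ∑ k, Nadj i k * cm D k j = if i = j then (dd : ℤ) else 0)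
    {N : ℕ} (hN : 0 < N) (hNQ : N ∣ Nat.card Eˣ)
    (hdet : (Matrix.scalar (Fin D.rank) (q : ℤ) - permMat hc (permOf hc L.reverse)).det = (N : ℤ))
    (hcof : ∀ l : ℕ, l.Prime → l ∣ N →
      ∃ i j, ¬ (l : ℤ) ∣ (Matrix.scalar (Fin D.rank) (q : ℤ) - wMat D L.reverse).adjugate i j)
    (K : Subgroup (Fin D.rank → Eˣ)) (hK : ∀ χ, χ ∈ K ↔ reflChars L χ = χ ^ q) (hKcard : Nat.card ↥K = N)
    {c₀ : Fin D.rank → Eˣ} (hc₀ : hPar D E c₀ = 1) (hc₀q : c₀ ^ q = c₀) (hc₀1 : c₀ ≠ 1) :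
    ∃ χ ∈ K, ∀ b ∈ D.group F, torus D T E χ ∈ D.diagonalSubgroup E →
      g * glMap D ι b * g⁻¹ ≠ torus D T E χ := by
  classical
  have S : Setup D T := ⟨hc, hcomm, hwit⟩
  set B' := Matrix.scalar (Fin D.rank) (q : ℤ) - wMat D L.reverse with hB'
  let K' : Subgroup (Fin D.rank → Eˣ) :=
    { carrier := {c | ∀ v, chi c (B' *ᵥ v) = 1}
      one_mem' := fun v => chi_one _
      mul_mem' := fun {x y} hx hy v => by rw [chi_mul, hx v, hy v, one_mul]
      inv_mem' := fun {x} hx v => by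
        have := chi_mul x⁻¹ x (B' *ᵥ v)
        rw [inv_mul_cancel, chi_one, hx v, mul_one] at this
        exact this.symm }
  have hK'mem : ∀ c, c ∈ K' ↔ ∀ w, chi c (wRefls D L.reverse w) = chi c w ^ q := by
    intro c
    show (∀ v, chi c (B' *ᵥ v) = 1) ↔ _
    rw [hB', chi_twist_iff]
    simp only [wMat_mulVec]
  have hdet' : B'.det = (N : ℤ) := by
    rw [← hdet, hB', ← Matrix.eval_charpoly, ← Matrix.eval_charpoly,
      charpoly_of_intertwine (det_cmMat_ne_zero hdd.ne_zero hadj).1 (wMat_intertwine hc L.reverse)]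
  obtain ⟨-, hK'card⟩ := detKernel hN hdet' hNQ hcof K' fun _ => Iff.rfl
  have hmap : ∀ c ∈ K', hPar D E c ∈ K := by
    intro c hc'
    rw [hK, fixedChar_iff hc, chi_twist_iff]
    intro v
    rw [← chi_cmMat, ← chi_cmMat, Matrix.mulVec_mulVec, wMat_intertwine hc, ← Matrix.mulVec_mulVec, wMat_mulVec]
    exact (hK'mem c).1 hc' _
  have hwfix : ∀ (L : List (Fin D.rank)) w, chi c₀ (wRefls D L w) = chi c₀ w := by
    intro L w
    induction L with
    | nil => rfl
    | cons i L ih =>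
      show chi c₀ (wRefl D i (wRefls D L w)) = chi c₀ w
      rw [← ih]
      have e : wRefl D i (wRefls D L w) =
          wRefls D L w - wRefls D L w i • (cmMat D *ᵥ Pi.single i 1) := by
        funext k
        simp [wRefl, cmMat, Matrix.mulVec_single_one]
      rw [e, chi_sub, chi_smul, chi_cmMat, hc₀, chi_one, one_zpow, div_one]
  have hc₀K : c₀ ∈ K' := (hK'mem c₀).2 fun w => by rw [hwfix, ← chi_pow', hc₀q]
  let f : ↥K' →* ↥K := ((hPar D E).comp K'.subtype).codRestrict K fun c => hmap c.1 c.2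
  have hf : ¬ Function.Surjective f := by
    intro hs
    haveI : Finite ↥K' := inferInstance
    have hb := (Nat.bijective_iff_surjective_and_card f).2 ⟨hs, by rw [hK'card, hKcard]⟩
    have h1 : f ⟨c₀, hc₀K⟩ = f 1 := Subtype.ext (show hPar D E c₀ = hPar D E 1 by rw [hc₀, map_one])
    exact hc₀1 (congrArg Subtype.val (hb.1 h1))
  obtain ⟨χ, hχ⟩ : ∃ χ : ↥K, ∀ c, f c ≠ χ := by
    simp only [Function.Surjective, not_forall, not_exists] at hf
    exact hf
  refine ⟨χ.1, χ.2, fun b hb hd₀ e => ?_⟩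
  obtain ⟨c, hc', hcw⟩ := exists_lift S S' hd hd' h hcart hR ι σ hσι hσ hg hL hb hd₀ e
  exact hχ ⟨c, (hK'mem c).2 hcw⟩ (Subtype.ext hc')

/-- the torus subgroup is cyclic of index `gcd(dd, N)` in the fixed characters and is its own centraliser -/
theorem exists_max_torus [Fintype E] (ι : F →+* E) (σ : E →+* E) (hfix : ∀ a, σ a = a ↔ a ∈ Set.range ι)
    {q : ℕ} (hσ : ∀ a, σ a = a ^ q) {g : GL D.Idx E} (hg : g ∈ D.group E) {L : List (Fin D.rank)}
    {a : Fin D.rank → Eˣ} (hL : glMap D σ g * g⁻¹ = torus D T E (hPar D E a) * nProd D E L)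
    {Nadj : Fin D.rank → Fin D.rank → ℤ} {dd : ℕ} (hdd : dd.Prime)
    (hadj : ∀ i j, ∑ k, Nadj i k * cm D k j = if i = j then (dd : ℤ) else 0)
    {N : ℕ} (hN : 0 < N) (K : Subgroup (Fin D.rank → Eˣ)) (hK : ∀ χ, χ ∈ K ↔ reflChars L χ = χ ^ q)
    (hKc : IsCyclic ↥K) (hKcard : Nat.card ↥K = N) (hKexp : ∀ χ ∈ K, ∀ j, ∃ v : Eˣ, v ^ dd = χ j)
    (hnot : dd ∣ N → ∃ χ ∈ K, ∀ b ∈ D.group F, torus D T E χ ∈ D.diagonalSubgroup E →
      g * glMap D ι b * g⁻¹ ≠ torus D T E χ)
    (hreg : ∀ s, s < D.nroots → ∃ χ ∈ K, chi (χ ^ dd) (rv D T s) ≠ 1)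
    (hstab : ∀ π ∈ weylGrp hc, (∀ χ ∈ K, permAct hc π (χ ^ dd) = χ ^ dd) → π = 1) :
    ∃ H : Subgroup ↥(D.group F), IsCyclic ↥H ∧ Nat.card ↥H = N / Nat.gcd dd N ∧
      Subgroup.centralizer (H : Set ↥(D.group F)) = H := by
  classical
  have hσι : ∀ b : GL D.Idx F, glMap D σ (glMap D ι b) = glMap D ι b := fun b => by
    ext i j; exact (hfix _).2 ⟨_, rfl⟩
  have hσt : ∀ y : Fin D.rank → Eˣ, glMap D σ (torus D T E y) = torus D T E (y ^ q) := fun y => by
    rw [glMap_torus]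
    congr 1
    funext j
    exact Units.ext (hσ _)
  have hKfix : ∀ χ, χ ∈ K ↔ glMap D σ (g⁻¹ * torus D T E χ * g) = g⁻¹ * torus D T E χ * g := by
    intro χ
    rw [hK, ← (torus_injective hc).eq_iff, ← twist_form_conj hc (L := L) (a := a), ← hL, map_mul, map_mul, map_inv,
      hσt]
    constructor
    · intro h
      rw [← h]; group
    · intro h
      calc glMap D σ g * g⁻¹ * torus D T E χ * (glMap D σ g * g⁻¹)⁻¹
          = glMap D σ g * (g⁻¹ * torus D T E χ * g) * (glMap D σ g)⁻¹ := by group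
        _ = _ := by rw [← h]; group
  have hKd : ∀ χ ∈ K, torus D T E χ ∈ D.diagonalSubgroup E := by
    intro χ hχ
    choose v hv using hKexp χ hχ
    refine (mem_diagonal hc).2 ⟨fun i => ∏ k, v k ^ Nadj k i, ?_⟩
    rw [hPar_pow_of_adj hc hadj]
    congr 1
    funext j
    exact hv j
  set H := torusSub (D := D) ι g
  have hHmem : ∀ b : ↥H, g * glMap D ι (b.1 : GL D.Idx F) * g⁻¹ ∈ D.diagonalSubgroup E := fun b => b.2
  choose par hpar using fun b : ↥H => (mem_diagonal hc).1 (hHmem b)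
  let P : ↥H →* (Fin D.rank → Eˣ) := MonoidHom.mk' (fun b => hPar D E (par b)) fun x y => by
    refine torus_injective hc ?_
    rw [map_mul, hpar, hpar, hpar, Subgroup.coe_mul, Subgroup.coe_mul, map_mul]; group
  have hP : ∀ b : ↥H, g * glMap D ι (b.1 : GL D.Idx F) * g⁻¹ = torus D T E (P b) := fun b => (hpar b).symm
  have hPinj : Function.Injective P := fun x y e => by
    have h1 : g * glMap D ι (x.1 : GL D.Idx F) * g⁻¹ = g * glMap D ι (y.1 : GL D.Idx F) * g⁻¹ := by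
      rw [hP, hP, e]
    exact Subtype.ext (Subtype.ext (glMap_injective ι (mul_left_cancel (mul_right_cancel h1))))
  have hle : P.range ≤ K := by
    rintro _ ⟨b, rfl⟩
    rw [hKfix, ← hP, show g⁻¹ * (g * glMap D ι (b.1 : GL D.Idx F) * g⁻¹) * g = glMap D ι (b.1 : GL D.Idx F) by group]
    exact hσι _
  have hpow : ∀ χ ∈ K, χ ^ dd ∈ P.range := by
    intro χ hχ
    obtain ⟨b, hb, eb⟩ := fixed_descent_pow hc hcomm ι σ (fun a => (hfix a).1) hadj
      (mul_mem (mul_mem (inv_mem hg) (diagonal_le_group hc (hKd χ hχ))) hg) ((hKfix χ).1 hχ)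
    have e : g * glMap D ι b * g⁻¹ = torus D T E (χ ^ dd) := by
      rw [eb, ← MulAut.conj_apply, map_pow, map_pow, MulAut.conj_apply]
      congr 1
      group
    have hbH : (⟨b, hb⟩ : ↥(D.group F)) ∈ H := by
      show g * glMap D ι b * g⁻¹ ∈ D.diagonalSubgroup E
      rw [e, map_pow]; exact pow_mem (hKd χ hχ) dd
    exact ⟨⟨⟨b, hb⟩, hbH⟩, torus_injective hc ((hP _).symm.trans e)⟩
  haveI := hKc
  haveI : IsCyclic ↥P.range := Subgroup.isCyclic_of_le hle
  let eH : ↥H ≃* ↥P.range := MonoidHom.ofInjective hPinj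
  refine ⟨H, isCyclic_of_surjective eH.symm eH.symm.surjective, ?_, le_antisymm ?_ ?_⟩
  · rw [Nat.card_congr eH.toEquiv]
    obtain ⟨γ, hγ⟩ := hKc.exists_generator
    have hγo : orderOf (γ : Fin D.rank → Eˣ) = N := by
      rw [Subgroup.orderOf_coe, orderOf_eq_card_of_forall_mem_zpowers hγ, hKcard]
    have hKz : K = Subgroup.zpowers (γ : Fin D.rank → Eˣ) := by
      refine le_antisymm (fun χ hχ => ?_) (Subgroup.zpowers_le.2 γ.2)
      obtain ⟨n, hn⟩ := Subgroup.mem_zpowers_iff.1 (hγ ⟨χ, hχ⟩)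
      exact ⟨n, by simpa using congrArg Subtype.val hn⟩
    have hge : Subgroup.zpowers ((γ : Fin D.rank → Eˣ) ^ dd) ≤ P.range := Subgroup.zpowers_le.2 (hpow _ γ.2)
    have h1 : N / Nat.gcd dd N ∣ Nat.card ↥P.range := by
      have := Subgroup.card_dvd_of_le hge
      rwa [Nat.card_zpowers, orderOf_pow, hγo, Nat.gcd_comm] at this
    have h2 : Nat.card ↥P.range ∣ N := hKcard ▸ Subgroup.card_dvd_of_le hle
    rcases Nat.coprime_or_dvd_of_prime hdd N with hcop | hdvd
    · rw [hcop.gcd_eq_one, Nat.div_one] at h1 ⊢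
      exact Nat.dvd_antisymm h2 h1
    rw [Nat.gcd_eq_left hdvd] at h1 ⊢
    obtain ⟨m, hm⟩ := id hdvd
    rw [hm, Nat.mul_div_cancel_left _ hdd.pos] at h1 ⊢
    obtain ⟨k, hk⟩ := h1
    rw [hk, hm, mul_comm dd m] at h2
    have hm0 : 0 < m := Nat.pos_of_ne_zero fun h => by rw [h, mul_zero] at hm; omega
    rcases hdd.eq_one_or_self_of_dvd k (Nat.dvd_of_mul_dvd_mul_left hm0 h2) with rfl | rfl
    · rw [hk, mul_one]
    exfalso
    have heq : P.range = K := Subgroup.eq_of_le_of_card_ge hle (by rw [hKcard, hk, hm, mul_comm])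
    obtain ⟨χ, hχK, hχ⟩ := hnot hdvd
    obtain ⟨b, hb⟩ : χ ∈ P.range := heq ▸ hχK
    exact hχ _ b.1.2 (hKd χ hχK) (by rw [hP, hb])
  · intro z hz
    show g * glMap D ι (z : GL D.Idx F) * g⁻¹ ∈ D.diagonalSubgroup E
    refine mem_diagonal_of_commute_set hc hcomm (X := {x | ∃ χ ∈ K, x = χ ^ dd}) ?_ ?_ ?_
      (mul_mem (mul_mem hg (glMap_group hc ι z.2)) (inv_mem hg)) ?_
    · rintro _ ⟨χ, hχ, rfl⟩
      rw [map_pow]; exact pow_mem (hKd χ hχ) dd
    · intro s hs
      obtain ⟨χ, hχ, hne⟩ := hreg s hs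
      exact ⟨_, ⟨χ, hχ, rfl⟩, hne⟩
    · exact fun π hπ hfix => hstab π hπ fun χ hχ => hfix _ ⟨χ, hχ, rfl⟩
    · rintro _ ⟨χ, hχ, rfl⟩
      obtain ⟨b, hb⟩ := hpow χ hχ
      have hcom := congrArg (fun b : ↥(D.group F) => glMap D ι (b : GL D.Idx F))
        (Subgroup.mem_centralizer_iff.1 hz b.1 b.2)
      simp only [Subgroup.coe_mul, map_mul] at hcom
      rw [← hb, ← hP]
      set w := glMap D ι (z : GL D.Idx F)
      set y := glMap D ι (b.1 : GL D.Idx F)
      calc g * w * g⁻¹ * (g * y * g⁻¹) * (g * w * g⁻¹)⁻¹ = g * (w * y) * w⁻¹ * g⁻¹ := by group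
        _ = g * y * g⁻¹ := by rw [← hcom]; group
  · intro x hx
    refine Subgroup.mem_centralizer_iff.2 fun b hb => ?_
    have := congrArg Subtype.val (hPinj (show P (⟨b, hb⟩ * ⟨x, hx⟩) = P (⟨x, hx⟩ * ⟨b, hb⟩) by
      rw [map_mul, map_mul, mul_comm]))
    simpa using this

end

end CfsgLib.ChevCent
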