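import Cfsg.Agent.Lib.ChevCent.Subfield
import Cfsg.Agent.Lib.Chev.UWord
import Cfsg.Prelude.Def_ChevAutomorphisms

/-!
# Tools for centralisers of products of orthogonal root elements in characteristic two
-/

set_option autoImplicit false
set_option linter.unusedSectionVars false

namespace CfsgLib.ChevCent

open Cfsg.Lie CfsgLib.Chev CfsgLib.ChevField

variable {D : ChevalleyDatum} {T : Tabs} {F : Type*} [Field F]

/-- a linear form in the values of a root on the fundamental coroots -/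
def formVal (D : ChevalleyDatum) (w : List ℤ) (v : ℕ) : ℤ :=
  ((List.range D.rank).map fun i => w.getD i 0 * D.cartan i v).sum

/-- `w` is positive on positive roots and bounded by `N` -/
def FormOK (D : ChevalleyDatum) (w : List ℤ) (N : ℕ) : Prop :=
  ∀ r < D.nroots, D.nroots / 2 ≤ r → 1 ≤ formVal D w r ∧ formVal D w r ≤ N

/-- no positive combination of two members of the list is a positive root outside it -/
def ClosedOK (D : ChevalleyDatum) (w : List ℤ) (N : ℕ) (L : List ℕ) : Prop :=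
  (∀ r ∈ L, r < D.nroots ∧ D.nroots / 2 ≤ r) ∧
    ∀ v < D.nroots, D.nroots / 2 ≤ v → v ∉ L → ∀ r ∈ L, ∀ s ∈ L, ∀ a < N + 1, ∀ b < N + 1,
      a = 0 ∨ b = 0 ∨ formVal D w v ≠ a * formVal D w r + b * formVal D w s ∨
        ∃ i < D.rank, D.cartan i v ≠ a * D.cartan i r + b * D.cartan i s

/-- conjugation by `X_s` for `s` in `P` moves `x_r` only inside the list `M`, which it stabilises -/
def ModOK (D : ChevalleyDatum) (P : List ℕ) (r : ℕ) (M : List ℕ) : Prop :=
  (∀ m ∈ M, m < D.nroots ∧ D.nroots / 2 ≤ m) ∧ r < D.nroots ∧ D.nroots / 2 ≤ r ∧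
    (∀ s ∈ P, s < D.nroots ∧ D.nroots / 2 ≤ s) ∧
    (∀ s ∈ P, s ≠ r → ∀ q ∈ D.commTerms s r, (2 : ℤ) ∣ q.2.1 ∨ q.1 ∈ M) ∧
    ∀ s ∈ P, ∀ m ∈ M, s ≠ m → ∀ q ∈ D.commTerms s m, (2 : ℤ) ∣ q.2.1 ∨ q.1 ∈ M

/-- the pairing of roots is invariant under the fundamental reflections -/
def PairInv (D : ChevalleyDatum) : Prop :=
  ∀ i < D.rank, ∀ r < D.nroots, ∀ s < D.nroots, D.pairing r s = D.pairing (D.reflectRoot i r) (D.reflectRoot i s)

set_option synthInstance.maxSize 1024 in
set_option synthInstance.maxHeartbeats 400000 in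
instance (w : List ℤ) (N : ℕ) : Decidable (FormOK D w N) := by
  unfold FormOK
  infer_instance

set_option synthInstance.maxSize 1024 in
set_option synthInstance.maxHeartbeats 400000 in
instance (w : List ℤ) (N : ℕ) (L : List ℕ) : Decidable (ClosedOK D w N L) := by
  unfold ClosedOK
  infer_instance

set_option synthInstance.maxSize 1024 in
set_option synthInstance.maxHeartbeats 400000 in
instance (P : List ℕ) (r : ℕ) (M : List ℕ) : Decidable (ModOK D P r M) := by
  unfold ModOK
  infer_instance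

set_option synthInstance.maxSize 1024 in
set_option synthInstance.maxHeartbeats 400000 in
instance : Decidable (PairInv D) := by
  unfold PairInv
  infer_instance

section
variable (hc : Checked D T)
include hc

theorem formVal_comb (w : List ℤ) {r s v : ℕ} (hr : r < D.nroots) (hs : s < D.nroots) (hv : v < D.nroots) {a b : ℤ}
    (e : rv D T v = a • rv D T r + b • rv D T s) :
    formVal D w v = a * formVal D w r + b * formVal D w s ∧
      ∀ i < D.rank, D.cartan i v = a * D.cartan i r + b * D.cartan i s := by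
  have h : ∀ i < D.rank, D.cartan i v = a * D.cartan i r + b * D.cartan i s := by
    intro i hi
    have hv' := cartan_linear hc ⟨i, hi⟩ hv
    have hr' := cartan_linear hc ⟨i, hi⟩ hr
    have hs' := cartan_linear hc ⟨i, hi⟩ hs
    simp only at hv' hr' hs'
    rw [hv', hr', hs', e, Finset.mul_sum, Finset.mul_sum, ← Finset.sum_add_distrib]
    refine Finset.sum_congr rfl fun j _ => ?_
    simp only [Pi.add_apply, Pi.smul_apply, smul_eq_mul]
    ring
  refine ⟨?_, h⟩
  have key : ∀ l : List ℕ, (∀ i ∈ l, i < D.rank) → (l.map fun i => w.getD i 0 * D.cartan i v).sum =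
      a * (l.map fun i => w.getD i 0 * D.cartan i r).sum + b * (l.map fun i => w.getD i 0 * D.cartan i s).sum := by
    intro l
    induction l with
    | nil => simp
    | cons i l ih =>
      intro hl
      simp only [List.map_cons, List.sum_cons]
      rw [ih (fun j hj => hl j (List.mem_cons_of_mem _ hj)), h i (hl i (List.mem_cons_self ..))]
      ring
  exact key _ fun i hi => List.mem_range.1 hi

theorem closedPos_list {w : List ℤ} {N : ℕ} {L : List ℕ} (hw : FormOK D w N) (h : ClosedOK D w N L) :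
    ClosedPos D T (fun r => r ∈ L) := by
  refine ⟨fun r _ hr => (h.1 r hr).2, fun r s v hr hs hrL hsL hv => ?_⟩
  by_contra hvL
  have hvp := (closedPos_pos hc).2 r s v hr hs (h.1 r hrL).2 (h.1 s hsL).2 hv
  obtain ⟨hvn, a, b, ha, hb, e⟩ := hv
  obtain ⟨hf, hcar⟩ := formVal_comb hc w hr hs hvn e
  have h1 := hw r hr (h.1 r hrL).2
  have h2 := hw s hs (h.1 s hsL).2
  have h3 := hw v hvn hvp
  have ha' : (1 : ℤ) ≤ a := by exact_mod_cast ha
  have hb' : (1 : ℤ) ≤ b := by exact_mod_cast hb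
  have haN : a < N + 1 := by
    have : (a : ℤ) < N + 1 := by nlinarith
    exact_mod_cast this
  have hbN : b < N + 1 := by
    have : (b : ℤ) < N + 1 := by nlinarith
    exact_mod_cast this
  rcases h.2 v hvn hvp hvL r hrL s hsL a haN b hbN with g | g | g | ⟨i, hi, g⟩
  · omega
  · omega
  · exact g hf
  · exact g (hcar i hi)

/-- the image of the kept roots of a set under a word -/
theorem closedPos_img (L : List (Fin D.rank)) {A : ℕ → Prop} (hA : ClosedPos D T A) :
    ClosedPos D T (fun r => D.nroots / 2 ≤ r ∧ ∃ s, s < D.nroots ∧ A s ∧ sigs D T L s = r) := by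
  refine ⟨fun r _ h => h.1, fun r r' v hr hr' h1 h2 hv => ⟨(closedPos_pos hc).2 r r' v hr hr' h1.1 h2.1 hv, ?_⟩⟩
  obtain ⟨s, hs, hsA, rfl⟩ := h1.2
  obtain ⟨s', hs', hsA', rfl⟩ := h2.2
  obtain ⟨hvn, a, b, ha, hb, e⟩ := hv
  have hv0 := sigs_lt hc L.reverse hvn
  have hback : sigs D T L (sigs D T L.reverse v) = v := by
    have := sigs_reverse hc L.reverse hvn
    rwa [List.reverse_reverse] at this
  refine ⟨_, hv0, hA.2 s s' _ hs hs' hsA hsA' ⟨hv0, a, b, ha, hb, ?_⟩, hback⟩
  rw [rv_sigs hc L.reverse hvn, e, refls_add, refls_smul, refls_smul, ← rv_sigs hc L.reverse hr,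
    ← rv_sigs hc L.reverse hr', sigs_reverse hc L hs, sigs_reverse hc L hs']

theorem closedPos_and {P Q : ℕ → Prop} (hP : ClosedPos D T P) (hQ : ClosedPos D T Q) :
    ClosedPos D T (fun r => P r ∧ Q r) :=
  ⟨fun r hr h => hP.1 r hr h.1, fun r s v hr hs h1 h2 hv =>
    ⟨hP.2 r s v hr hs h1.1 h2.1 hv, hQ.2 r s v hr hs h1.2 h2.2 hv⟩⟩

variable (hcomm : CommOne D T)
include hcomm

theorem uGen_inter {P Q : ℕ → Prop} (hP : ClosedPos D T P) (hQ : ClosedPos D T Q) {g : GL D.Idx F}
    (h1 : g ∈ uGen D F P) (h2 : g ∈ uGen D F Q) : g ∈ uGen D F (fun r => P r ∧ Q r) := by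
  classical
  obtain ⟨t, ht⟩ := uGen_exists hc hcomm hP h1
  obtain ⟨t', ht'⟩ := uGen_exists hc hcomm hQ h2
  set R : ℕ → Prop := fun r => D.nroots / 2 ≤ r
  have e := (uProd_extend hc (P := P) (Q := R) (fun s hs hsn => hP.1 s hsn hs) 0 t).symm.trans
    ((ht.symm.trans ht').trans (uProd_extend hc (P := Q) (Q := R) (fun s hs hsn => hQ.1 s hsn hs) 0 t'))
  have h := uProd_inj hc (P := R) (fun s _ hs => hs) 0 e
  rw [ht]
  refine Subgroup.list_prod_mem _ fun x hx => ?_
  obtain ⟨r, hr, rfl⟩ := List.mem_map.1 hx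
  obtain ⟨-, hrn, hrP⟩ := mem_rootsFrom.1 hr
  have hr' := h r (mem_rootsFrom.2 ⟨Nat.zero_le _, hrn, hP.1 r hrn hrP⟩)
  by_cases hrQ : Q r
  · exact elX_mem_uGen hrn (P := fun r => P r ∧ Q r) ⟨hrP, hrQ⟩ _
  · simp only [hrP, hrQ, true_and, false_and, if_false, Nat.zero_le, if_true] at hr'
    rw [hr', elX_zero hc F hrn]
    exact one_mem _

theorem uGen_disjoint {P Q : ℕ → Prop} (hP : ClosedPos D T P) (hQ : ClosedPos D T Q)
    (hd : ∀ r, r < D.nroots → P r → Q r → False) {g : GL D.Idx F} (h1 : g ∈ uGen D F P) (h2 : g ∈ uGen D F Q) :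
    g = 1 := by
  have h := uGen_inter hc hcomm hP hQ h1 h2
  have hb : uGen D F (fun r => P r ∧ Q r) = ⊥ := by
    rw [eq_bot_iff, uGen_le_iff]; intro r hr h'; exact (hd r hr h'.1 h'.2).elim
  rwa [hb, Subgroup.mem_bot] at h

/-- a unipotent element carried into the Borel subgroup is generated by kept roots -/
theorem mem_keep (L : List (Fin D.rank)) {k : GL D.Idx F} (hk : k ∈ uGen D F (fun r => D.nroots / 2 ≤ r))
    (hn : nProd D F L * k * (nProd D F L)⁻¹ ∈ D.borelSubgroup F) : k ∈ uGen D F (KeepRoot D T L) := by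
  obtain ⟨p, hp, q, hq, hpq⟩ := uGen_split hc hcomm (closedPos_pos hc)
    (Q := KeepRoot D T L) (R := Flip D T L)
    (fun r _ hr => by
      rcases Nat.lt_or_ge (sigs D T L r) (D.nroots / 2) with g | g
      · exact Or.inr ⟨hr, g⟩
      · exact Or.inl ⟨hr, g⟩) hk
  have hpn : nProd D F L * p * (nProd D F L)⁻¹ ∈ D.borelSubgroup F :=
    pos_le_borel hc (nProd_conj_uGen hc L (fun r _ hP => hP.2) hp)
  have hq1 : nProd D F L * q * (nProd D F L)⁻¹ = 1 := by
    refine borel_inf_neg hc ?_ (nProd_conj_uGen hc L (fun r _ hP => hP.2) hq)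
    have := mul_mem (inv_mem hpn) hn
    rw [hpq] at this
    convert this using 1
    group
  rw [hpq, conj_eq_one_iff.1 hq1, mul_one]
  exact hp

/-- conjugation of a root element modulo a stable list of roots -/
theorem conj_mod [CharP F 2] {P : List ℕ} {r : ℕ} {M : List ℕ} (h : ModOK D P r M) {u : GL D.Idx F}
    (hu : u ∈ uGen D F (fun s => s ∈ P)) :
    u ∈ Subgroup.normalizer (uGen D F (fun m => m ∈ M) : Set (GL D.Idx F)) ∧
      ∀ c : F, (elX D F r c)⁻¹ * (u * elX D F r c * u⁻¹) ∈ uGen D F (fun m => m ∈ M) := by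
  obtain ⟨hM, hr, hrp, hP, h1, h2⟩ := h
  set N := uGen D F (fun m => m ∈ M)
  have hword : ∀ {s m : ℕ}, s < D.nroots → m < D.nroots → (∀ q ∈ D.commTerms s m, (2 : ℤ) ∣ q.2.1 ∨ q.1 ∈ M) →
      ∀ a b : F, wordGL D F (D.commWord F s m a b) ∈ N := by
    intro s m hs hm h a b
    refine Subgroup.list_prod_mem _ fun g hg => ?_
    obtain ⟨p, hp, rfl⟩ := List.mem_map.1 hg
    obtain ⟨q, hq, rfl⟩ := List.mem_map.1 hp
    have hqn := (commTerms_weight hc hs hm q hq).1
    rcases h q hq with hev | hmem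
    · have h0 : ((q.2.1 : ℤ) : F) = 0 := (CharP.intCast_eq_zero_iff F 2 _).2 (by exact_mod_cast hev)
      simp only [h0, zero_mul]
      rw [elX_zero hc F hqn]
      exact one_mem _
    · exact elX_mem_uGen (P := fun m => m ∈ M) hqn hmem _
  have hgen : ∀ s ∈ P, ∀ a : F, ∀ y ∈ N, elX D F s a * y * (elX D F s a)⁻¹ ∈ N := by
    intro s hs a y hy
    obtain ⟨hsn, hsp⟩ := hP s hs
    induction hy using Subgroup.closure_induction with
    | mem z hz =>
      obtain ⟨m, b, hm, hmM, rfl⟩ := hz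
      by_cases hsm : m = s
      · subst hsm
        rw [elX_add hc F hm, elX_inv hc F hm, elX_add hc F hm]
        exact elX_mem_uGen (P := fun m => m ∈ M) hm hmM _
      · rw [elX_conj_elX hc hcomm hsn hm hsm (ne_neg_of_pos hc hsn hsp (hM m hmM).2)]
        exact mul_mem (elX_mem_uGen (P := fun m => m ∈ M) hm hmM _)
          (hword hsn hm (h2 s hs m hmM (Ne.symm hsm)) _ _)
    | one => simp
    | mul y z _ _ hy hz =>
      rw [show elX D F s a * (y * z) * (elX D F s a)⁻¹
        = elX D F s a * y * (elX D F s a)⁻¹ * (elX D F s a * z * (elX D F s a)⁻¹) by group]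
      exact mul_mem hy hz
    | inv y _ hy =>
      rw [show elX D F s a * y⁻¹ * (elX D F s a)⁻¹ = (elX D F s a * y * (elX D F s a)⁻¹)⁻¹ by group]
      exact inv_mem hy
  have hnorm : uGen D F (fun s => s ∈ P) ≤ Subgroup.normalizer (N : Set (GL D.Idx F)) := by
    rw [uGen_le_iff]
    intro s hsn hs a
    refine Subgroup.mem_normalizer_iff.2 fun y => ⟨hgen s hs a y, fun hy => ?_⟩
    have := hgen s hs (-a) _ hy
    rwa [← elX_inv hc F hsn, inv_inv, ← mul_assoc, ← mul_assoc, inv_mul_cancel, one_mul, inv_mul_cancel_right] at this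
  refine ⟨hnorm hu, fun c => ?_⟩
  induction hu using Subgroup.closure_induction generalizing c with
  | mem x hx =>
    obtain ⟨s, a, hsn, hs, rfl⟩ := hx
    by_cases hsr : r = s
    · subst hsr
      rw [elX_add hc F hr, elX_inv hc F hr a, elX_add hc F hr, show a + c + -a = c by ring, inv_mul_cancel]
      exact one_mem _
    · rw [elX_conj_elX hc hcomm hsn hr hsr (ne_neg_of_pos hc hsn (hP s hs).2 hrp), inv_mul_cancel_left]
      exact hword hsn hr (h1 s hs (Ne.symm hsr)) _ _
  | one => simp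
  | mul a b hma _ iha ihb =>
    have h := mul_mem (iha c) (((Subgroup.mem_normalizer_iff).1 (hnorm hma) _).1 (ihb c))
    convert h using 1
    group
  | inv a hma iha =>
    have h := inv_mem ((Subgroup.mem_normalizer_iff''.1 (hnorm hma) _).1 (iha c))
    convert ((Subgroup.mem_normalizer_iff''.1 (hnorm hma) _).1 (inv_mem (iha c))) using 1
    group

/-- an element fixing `x_r` modulo the list `M` avoids the root `s` -/
theorem peel [CharP F 2] {P Q M : List ℕ} {s r m : ℕ} (hP : ClosedPos D T (fun z => z ∈ P))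
    (hmc : ClosedPos D T (fun z => z ∈ [m])) (hMc : ClosedPos D T (fun z => z ∈ M)) (hmM : m ∉ M)
    (hcov : ∀ z, z < D.nroots → z ∈ P → z ∈ Q ∨ z = s) (hs : s < D.nroots) (hsp : D.nroots / 2 ≤ s) (hrs : r ≠ s)
    (hr : ModOK D Q r M) (hm : ModOK D Q m M) (hterm : D.commTerms s r = [(m, 1, 1, 1)])
    {u : GL D.Idx F} (hu : u ∈ uGen D F (fun z => z ∈ P)) (hfu : u * elX D F r 1 * u⁻¹ = elX D F r 1) :
    u ∈ uGen D F (fun z => z ∈ Q) := by
  obtain ⟨q, hq, x', hx', rfl⟩ := uGen_split hc hcomm hP (Q := fun z => z ∈ Q) (R := fun z => z = s) hcov hu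
  rw [← rootSubgroup_eq hc hs, mem_rootSubgroup hc hs] at hx'
  obtain ⟨α, rfl⟩ := hx'
  have hrn := hr.2.1
  have hmn := hm.2.1
  have hstep : elX D F s α * elX D F r 1 * (elX D F s α)⁻¹ = elX D F r 1 * elX D F m α := by
    rw [elX_conj_elX hc hcomm hs hrn hrs (ne_neg_of_pos hc hs hsp hr.2.2.1)]
    congr 1
    simp [wordGL, ChevalleyDatum.commWord, hterm]
  have h1 := (conj_mod hc hcomm hr hq).2 (1 : F)
  have h2 := (conj_mod hc hcomm hm hq).2 α
  set e1 := (elX D F r 1)⁻¹ * (q * elX D F r 1 * q⁻¹)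
  set e2 := (elX D F m α)⁻¹ * (q * elX D F m α * q⁻¹)
  have h3 : e1 * (elX D F m α * e2) = 1 := by
    refine mul_left_cancel (a := elX D F r 1) ?_
    rw [mul_one]
    calc elX D F r 1 * (e1 * (elX D F m α * e2)) = q * (elX D F r 1 * elX D F m α) * q⁻¹ := by
          simp only [e1, e2]; group
      _ = q * elX D F s α * elX D F r 1 * (q * elX D F s α)⁻¹ := by rw [← hstep]; group
      _ = elX D F r 1 := hfu
  have hz : elX D F m α = e1⁻¹ * e2⁻¹ := by
    rw [eq_mul_inv_iff_mul_eq]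
    exact eq_inv_of_mul_eq_one_right h3
  have h4 : elX D F m α = 1 := uGen_disjoint hc hcomm hmc hMc
    (fun z _ g1 g2 => hmM (List.mem_singleton.1 g1 ▸ g2))
    (elX_mem_uGen hmn (P := fun z => z ∈ [m]) (List.mem_singleton_self m) α) (hz ▸ mul_mem (inv_mem h1) (inv_mem h2))
  rw [(elX_eq_one_iff hc hmn _).1 h4, elX_zero hc F hs, mul_one]
  exact hq

omit hcomm in
theorem pairing_sigs (h : PairInv D) (L : List (Fin D.rank)) {r s : ℕ} (hr : r < D.nroots) (hs : s < D.nroots) :
    D.pairing (sigs D T L r) (sigs D T L s) = D.pairing r s := by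
  induction L with
  | nil => rfl
  | cons i L ih =>
    rw [sigs_cons, sigs_cons, ← reflectRoot_eq hc i (sigs_lt hc L hr), ← reflectRoot_eq hc i (sigs_lt hc L hs),
      ← h i i.2 _ (sigs_lt hc L hr) _ (sigs_lt hc L hs), ih]

end

end CfsgLib.ChevCent
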