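import Cfsg.Agent.Lib.ChevCent.F4Checks
import Cfsg.Agent.Lib.ChevCent.Checked

/-!
# Centralisers of the mixed involutions of F4 in characteristic two
-/

set_option autoImplicit false
set_option linter.unusedSectionVars false
set_option maxHeartbeats 1000000

namespace CfsgLib.ChevCent

open Cfsg.Lie CfsgLib.Chev CfsgLib.ChevField

variable {D : ChevalleyDatum} {T : Tabs} {F : Type*} [Field F]

section
variable (hc : Checked D T)
include hc

theorem chi_hPar (x : Fin D.rank → Fˣ) {r : ℕ} (hr : r < D.nroots) :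
    chi (hPar D F x) (rv D T r) = ∏ i : Fin D.rank, x i ^ D.cartan i r := by
  rw [hPar_eq_corChar hc]
  have hprod : ∀ s : Finset (Fin D.rank), chi (∏ i ∈ s, corChar D T (D.simple i.val) (x i)) (rv D T r)
      = ∏ i ∈ s, x i ^ D.cartan i r := by
    intro s
    induction s using Finset.induction with
    | empty => simp [chi_one]
    | @insert a s ha ih => rw [Finset.prod_insert ha, Finset.prod_insert ha, chi_mul, ih, chi_corChar_simple hc a hr]
  exact hprod _

theorem torus_mem {K : Subgroup (GL D.Idx F)} (x : Fin D.rank → Fˣ)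
    (h : ∀ i : Fin D.rank, x i = 1 ∨ ∀ a : F, elN D F (D.simple i.val) a ∈ K) :
    torus D T F (hPar D F x) ∈ K := by
  rw [hPar_eq_corChar hc]
  show _ ∈ Subgroup.comap (torus D T F) K
  refine Subgroup.prod_mem _ fun i _ => ?_
  rw [Subgroup.mem_comap]
  rcases h i with h1 | hN
  · rw [h1, show corChar D T (D.simple i.val) (1 : Fˣ) = 1 from funext fun j => by simp [corChar], map_one]
    exact one_mem _
  · rw [← elH_eq_torus hc (simple_lt hc i.2)]
    exact mul_mem (hN _) (hN _)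

theorem stabiliser_mem {K : Subgroup (GL D.Idx F)} (Fix : List (Fin D.rank) → Prop)
    (hstep : ∀ L i, Fix L → sigs D T L (D.simple i.val) < D.nroots / 2 →
      elN D F (D.simple i.val) 1 ∈ K ∧ ∀ L' : List (Fin D.rank),
        (∀ r, r < D.nroots → sigs D T (L ++ [i]) r = sigs D T L' r) → Fix L')
    (L : List (Fin D.rank)) (hL : Fix L) : ∃ h ∈ D.diagonalSubgroup F, ∃ k ∈ K, nProd D F L = h * k := by
  suffices key : ∀ d, ∀ L : List (Fin D.rank), L.length = d → Fix L →
      ∃ h ∈ D.diagonalSubgroup F, ∃ k ∈ K, nProd D F L = h * k from key _ L rfl hL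
  intro d
  induction d using Nat.strong_induction_on with
  | _ d ih =>
    intro L hd hL
    by_cases h : ∀ i : Fin D.rank, D.nroots / 2 ≤ sigs D T L (D.simple i.val)
    · exact ⟨_, nProd_mem_of_pos hc L h, 1, one_mem _, (mul_one _).symm⟩
    · push Not at h
      obtain ⟨i, hi⟩ := h
      obtain ⟨hK, hnext⟩ := hstep L i hL hi
      obtain ⟨L', h1, h2, h3⟩ := exchange hc (F := F) L i hi
      obtain ⟨a, ha, k, hk, e⟩ := ih L'.length (by omega) L' rfl (hnext L' h2)
      refine ⟨_, mul_mem h3 ha, k * (elN D F (D.simple i.val) 1)⁻¹, mul_mem hk (inv_mem hK), ?_⟩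
      rw [nProd_append, nProd_cons, nProd_nil, mul_one, mul_assoc, ← mul_assoc a, ← e]
      group

theorem elN_mem {K : Subgroup (GL D.Idx F)} {i : ℕ} (hi : i < D.rank)
    (h1 : ∀ a : F, elX D F (D.simple i) a ∈ K) (h2 : ∀ a : F, elX D F (D.neg (D.simple i)) a ∈ K) (a : F) :
    elN D F (D.simple i) a ∈ K := mul_mem (mul_mem (h1 _) (h2 _)) (h1 _)

end

section
variable {T : Tabs} (hc : Checked chevF4 T) (hcomm : CommOne chevF4 T) [CharP F 2]
include hc hcomm

theorem mem_pos_list {u : GL chevF4.Idx F} (hu : u ∈ uGen chevF4 F (fun r => chevF4.nroots / 2 ≤ r)) :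
    u ∈ uGen chevF4 F (fun r => r ∈ posBut []) := by
  refine uGen_mono (fun r hr hp => ?_) hu
  have h : ∀ r < 48, 24 ≤ r → r ∈ posBut [] := by decide +kernel
  exact h r hr hp

/-- the centraliser of `x_47(1) x_44(1)` -/
theorem centralizer_w :
    chevF4.group F ⊓ Subgroup.centralizer {elX chevF4 F 47 (1 : F) * elX chevF4 F 44 1}
      = uGen chevF4 F (fun r => chevF4.nroots / 2 ≤ r) ⊔ uGen chevF4 F (fun r => r ∈ [20, 22]) := by
  set D := chevF4
  set w := elX D F 47 (1 : F) * elX D F 44 1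
  set K := uGen D F (fun r => D.nroots / 2 ≤ r) ⊔ uGen D F (fun r => r ∈ [20, 22])
  have hc47 : ∀ s < 48, (24 ≤ s ∨ s ∈ [20, 22]) → (s ≠ D.neg 47 ∧ s ≠ D.neg 44 ∧
      (∀ q ∈ D.commTerms 47 s, (2 : ℤ) ∣ q.2.1) ∧ ∀ q ∈ D.commTerms 44 s, (2 : ℤ) ∣ q.2.1) := by decide +kernel
  have hKC : K ≤ Subgroup.centralizer {w} := by
    have hone : ∀ s < 48, (24 ≤ s ∨ s ∈ [20, 22]) → ∀ a : F, elX D F s a ∈ Subgroup.centralizer {w} := by
      intro s hs h a
      obtain ⟨n1, n2, e1, e2⟩ := hc47 s hs h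
      rw [Subgroup.mem_centralizer_singleton_iff]
      have c1 := commute_elX hc hcomm (show 47 < D.nroots by decide) hs n1 (fun q hq => cast_even (e1 q hq)) (1 : F) a
      have c2 := commute_elX hc hcomm (show 44 < D.nroots by decide) hs n2 (fun q hq => cast_even (e2 q hq)) (1 : F) a
      show elX D F s a * (elX D F 47 1 * elX D F 44 1) = _
      rw [← mul_assoc, ← c1, mul_assoc, ← c2, ← mul_assoc]
    exact sup_le (uGen_le_iff.2 fun s hs (hp : D.nroots / 2 ≤ s) => hone s hs (Or.inl (by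
        have hh : D.nroots / 2 = 24 := by decide +kernel
        omega)))
      (uGen_le_iff.2 fun s hs hp => hone s hs (Or.inr hp))
  have hKG : K ≤ D.group F := by
    rw [group_eq hc]
    exact sup_le (uGen_mono fun _ _ _ => trivial) (uGen_mono fun _ _ _ => trivial)
  refine le_antisymm (fun g hg => ?_) (le_inf hKG hKC)
  obtain ⟨hgG, hgC⟩ := hg
  obtain ⟨u₁, hu₁, n, hn, u₂, hu₂, rfl⟩ := bruhat hc hcomm hgG
  have hu₁' : u₁ ∈ K := Subgroup.mem_sup_left hu₁
  have hu₂' : u₂ ∈ K := Subgroup.mem_sup_left hu₂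
  suffices n ∈ K from mul_mem (mul_mem hu₁' this) hu₂'
  have hnC : n ∈ Subgroup.centralizer {w} := by
    have := mul_mem (mul_mem (inv_mem (hKC hu₁')) hgC) (inv_mem (hKC hu₂'))
    rwa [show u₁⁻¹ * (u₁ * n * u₂) * u₂⁻¹ = n by group] at this
  obtain ⟨h, hh, L, rfl⟩ := monomial_cases hc hn
  have hcm : elX D F 47 (1 : F) * elX D F 44 1 = elX D F 44 1 * elX D F 47 1 :=
    commute_elX hc hcomm (show 47 < D.nroots by decide) (show 44 < D.nroots by decide) (by decide +kernel)
      (fun q hq => cast_even ((hc47 44 (by omega) (Or.inl (by omega))).2.2.1 q hq)) 1 1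
  have hwA : w ∈ uGen D F (fun r => r ∈ [44, 47]) :=
    mul_mem (elX_mem_uGen (show 47 < D.nroots by decide) (P := fun r => r ∈ [44, 47]) (by simp) 1)
      (elX_mem_uGen (show 44 < D.nroots by decide) (P := fun r => r ∈ [44, 47]) (by simp) 1)
  have hA := closedPos_list hc (D := D) formF4 closedW
  have hwpos : w ∈ uGen D F (fun r => D.nroots / 2 ≤ r) := uGen_mono (fun r hr h' => hA.1 r hr h') hwA
  have hfix : nProd D F L * w * (nProd D F L)⁻¹ = h⁻¹ * w * h := by
    have e := Subgroup.mem_centralizer_singleton_iff.1 hnC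
    calc nProd D F L * w * (nProd D F L)⁻¹ = h⁻¹ * (h * nProd D F L * w) * (nProd D F L)⁻¹ := by group
      _ = _ := by rw [e]; group
  have hwK : w ∈ uGen D F (KeepRoot D T L) := by
    refine mem_keep hc hcomm L hwpos ?_
    rw [hfix]
    exact pos_le_borel hc (diag_conj_mem' hc _ hh hwpos)
  have hwI := uGen_inter hc hcomm hA (closedPos_keep hc L) hwA hwK
  set A' : ℕ → Prop := fun r => r ∈ [44, 47] ∧ KeepRoot D T L r
  set P : ℕ → Prop := fun r => D.nroots / 2 ≤ r ∧ ∃ s, s < D.nroots ∧ A' s ∧ sigs D T L s = r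
  have hPc : ClosedPos D T P := closedPos_img hc L (closedPos_and hc hA (closedPos_keep hc L))
  have hwP : w ∈ uGen D F P := by
    have h1 : nProd D F L * w * (nProd D F L)⁻¹ ∈ uGen D F P :=
      nProd_conj_uGen hc L (fun r hr hr' => ⟨hr'.2.2, r, hr, hr', rfl⟩) hwI
    rw [hfix] at h1
    have h2 := diag_conj_mem hc P hh h1
    rwa [show h * (h⁻¹ * w * h) * h⁻¹ = w by group] at h2
  have hw44 : w = elX D F 44 1 * elX D F 47 1 := hcm
  have h44 : P 44 := lead_mem_closed hc hcomm (show 44 < D.nroots by decide) (by decide) hPc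
    (elX_mem_uGen (show 47 < D.nroots by decide) (P := fun s => 44 < s) (by norm_num) 1) (hw44 ▸ hwP)
  have h47 : P 47 := by
    refine lead_mem_closed (F := F) hc hcomm (show 47 < D.nroots by decide) (by decide) hPc (k := 1) (one_mem _) ?_
    have := mul_mem (inv_mem (elX_mem_uGen (show 44 < D.nroots by decide) h44 (1 : F))) hwP
    rwa [hw44, inv_mul_cancel_left, ← mul_one (elX D F 47 (1 : F))] at this
  have hS : IsOrbitTop D shortF4 44 :=
    ⟨shortF4_orbit.1, shortF4_orbit.2.1, shortF4_orbit.2.2.1, shortF4_orbit.2.2.2⟩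
  have hS' : IsOrbitTop D (fun _ => true) 47 :=
    ⟨topF4_orbit.1, topF4_orbit.2.1, topF4_orbit.2.2.1, topF4_orbit.2.2.2⟩
  obtain ⟨-, s, hs, ⟨hsA, -⟩, hs44⟩ := h44
  obtain ⟨-, s', hs', ⟨hsA', -⟩, hs47⟩ := h47
  have hL44 : sigs D T L 44 = 44 := by
    rcases List.mem_cons.1 hsA with rfl | h'
    · exact hs44
    · rw [List.mem_singleton] at h'
      subst h'
      exfalso
      have hb := sigs_orbit hc hS L.reverse (show 44 < D.nroots by decide) (show shortF4 44 = true by decide)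
      rw [← hs44, sigs_reverse hc L hs] at hb
      revert hb
      decide
  have hL47 : sigs D T L 47 = 47 := by
    rcases List.mem_cons.1 hsA' with rfl | h'
    · rw [hL44] at hs47; omega
    · rw [List.mem_singleton] at h'
      subst h'
      exact hs47
  have hK : ∀ i : Fin D.rank, (i.val = 1 ∨ i.val = 2) → ∀ a : F, elN D F (D.simple i.val) a ∈ K := by
    intro i hi
    refine elN_mem hc i.2 (fun a => Subgroup.mem_sup_left (elX_mem_uGen (simple_lt hc i.2)
      (P := fun r => D.nroots / 2 ≤ r) (half_le_simple hc i.2) a))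
      (fun a => Subgroup.mem_sup_right (elX_mem_uGen (neg_lt hc (simple_lt hc i.2))
      (P := fun r => r ∈ [20, 22]) ?_ a))
    rcases hi with hi | hi <;> rw [hi] <;> decide +kernel
  obtain ⟨h', hh', k, hk, e⟩ := stabiliser_mem hc (K := K)
    (fun L => sigs D T L 44 = 44 ∧ sigs D T L 47 = 47) (fun L i hL hi => by
      have f44 := dominant hc hS hL.1 hi
      have f47 := dominant hc hS' hL.2 hi
      refine ⟨hK i ?_ 1, fun L' hL' => ?_⟩
      · have hd : ∀ i < 4, D.reflectRoot i 44 = 44 → D.reflectRoot i 47 = 47 → i = 1 ∨ i = 2 := by decide +kernel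
        exact hd i.val i.2 (by rw [reflectRoot_eq' hc i hS.lt, f44]) (by rw [reflectRoot_eq' hc i hS'.lt, f47])
      · rw [← hL' 44 hS.lt, ← hL' 47 hS'.lt, sigs_append, sigs_append, show sigs D T [i] 44 = sig D T i 44 from rfl,
          show sigs D T [i] 47 = sig D T i 47 from rfl, f44, f47]
        exact hL) L ⟨hL44, hL47⟩
  rw [e, ← mul_assoc] at hnC ⊢
  refine mul_mem ?_ hk
  have hC : h * h' ∈ Subgroup.centralizer {w} := by
    have := mul_mem hnC (inv_mem (hKC hk))
    rwa [mul_inv_cancel_right] at this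
  obtain ⟨x, hx⟩ := (mem_diagonal hc).1 (mul_mem hh hh')
  rw [← hx] at hC ⊢
  have c44 := torus_conj_elX hc (hPar D F x) (show 44 < D.nroots by decide) (1 : F)
  have c47 := torus_conj_elX hc (hPar D F x) (show 47 < D.nroots by decide) (1 : F)
  rw [mul_one] at c44 c47
  set t := torus D T F (hPar D F x)
  set χ44 : F := ((chi (hPar D F x) (rv D T 44) : Fˣ) : F)
  set χ47 : F := ((chi (hPar D F x) (rv D T 47) : Fˣ) : F)
  have heq : elX D F 44 χ44 * elX D F 47 χ47 = elX D F 44 1 * elX D F 47 1 := by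
    rw [← c44, ← c47, ← hw44]
    have e1 := Subgroup.mem_centralizer_singleton_iff.1 hC
    calc t * elX D F 44 1 * t⁻¹ * (t * elX D F 47 1 * t⁻¹) = t * (elX D F 44 1 * elX D F 47 1) * t⁻¹ := by group
      _ = t * w * t⁻¹ := by rw [hw44]
      _ = w := by rw [e1, mul_inv_cancel_right]
  have h44' : χ44 = 1 := by
    obtain ⟨j, hj⟩ := exists_cv_ne_zero hc F (show 44 < D.nroots by decide)
    have e1 := coord_eq hc (show 44 < D.nroots by decide) (by decide) χ44
      (elX_mem_uGen (show 47 < D.nroots by decide) (P := fun r => 44 < r) (by norm_num) χ47) j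
    have e2 := coord_eq hc (show 44 < D.nroots by decide) (by decide) (1 : F)
      (elX_mem_uGen (show 47 < D.nroots by decide) (P := fun r => 44 < r) (by norm_num) 1) j
    rw [heq, e2] at e1
    exact (mul_left_cancel₀ hj e1).symm
  have h47' : χ47 = 1 := by
    rw [h44'] at heq
    have h2 := mul_left_cancel heq
    have h3 : elX D F 47 (χ47 - 1) = 1 := by
      rw [sub_eq_add_neg, ← elX_add hc F (show 47 < D.nroots by decide), h2,
        elX_add hc F (show 47 < D.nroots by decide), add_neg_cancel, elX_zero hc F (show 47 < D.nroots by decide)]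
    exact sub_eq_zero.1 ((elX_eq_one_iff hc (show 47 < D.nroots by decide) _).1 h3)
  have hcar : ∀ i < 4, (D.cartan i 44 = if i = 0 then 1 else 0) ∧ D.cartan i 47 = if i = 3 then 1 else 0 := by
    decide +kernel
  refine torus_mem hc x fun i => ?_
  by_cases hi : i.val = 1 ∨ i.val = 2
  · exact Or.inr (hK i hi)
  left
  have key : ∀ (r : ℕ) (hr : r < D.nroots) (j : ℕ) (hj : j < 4), (∀ i < 4, D.cartan i r = if i = j then 1 else 0) →
      ((chi (hPar D F x) (rv D T r) : Fˣ) : F) = 1 → x ⟨j, hj⟩ = 1 := by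
    intro r hr j hj hcr hχ
    rw [chi_hPar hc x hr, Finset.prod_eq_single (⟨j, hj⟩ : Fin D.rank), hcr j hj, if_pos rfl, zpow_one] at hχ
    · exact Units.ext hχ
    · intro b _ hb
      rw [hcr b.val b.2, if_neg fun e => hb (Fin.ext e), zpow_zero]
    · simp
  have hi4 : i.val < 4 := i.2
  rcases (show i.val = 0 ∨ i.val = 3 by omega) with h0 | h3
  · have := key 44 (by decide) 0 (by omega) (fun i hi => (hcar i hi).1) h44'
    rwa [show (⟨0, by omega⟩ : Fin D.rank) = i from Fin.ext h0.symm] at this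
  · have := key 47 (by decide) 3 (by omega) (fun i hi => (hcar i hi).2) h47'
    rwa [show (⟨3, by omega⟩ : Fin D.rank) = i from Fin.ext h3.symm] at this

/-- the centraliser of `x_39(1) x_45(1)` -/
theorem centralizer_v :
    chevF4.group F ⊓ Subgroup.centralizer {elX chevF4 F 39 (1 : F) * elX chevF4 F 45 1}
      = uGen chevF4 F (fun r => r ∈ [33, 14, 24, 23]) ⊔ uGen chevF4 F (fun r => r ∈ posBut outsideV) := by
  set D := chevF4
  have h39 : 39 < D.nroots := by decide
  have hh24 : D.nroots / 2 = 24 := by decide +kernel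
  have h45 : 45 < D.nroots := by decide
  set v := elX D F 39 (1 : F) * elX D F 45 1 with hvdef
  set K := uGen D F (fun r => r ∈ [33, 14, 24, 23]) ⊔ uGen D F (fun r => r ∈ posBut outsideV)
  have hchk : ∀ s < 48, (s ∈ [33, 14, 24, 23] ∨ s ∈ posBut outsideV) → (s ≠ D.neg 39 ∧ s ≠ D.neg 45 ∧
      (∀ q ∈ D.commTerms 39 s, (2 : ℤ) ∣ q.2.1) ∧ ∀ q ∈ D.commTerms 45 s, (2 : ℤ) ∣ q.2.1) := by decide +kernel
  have hKC : K ≤ Subgroup.centralizer {v} := by
    have hone : ∀ s < 48, (s ∈ [33, 14, 24, 23] ∨ s ∈ posBut outsideV) → ∀ a : F,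
        elX D F s a ∈ Subgroup.centralizer {v} := by
      intro s hs h a
      obtain ⟨n1, n2, e1, e2⟩ := hchk s hs h
      rw [Subgroup.mem_centralizer_singleton_iff]
      have c1 := commute_elX hc hcomm h39 hs n1 (fun q hq => cast_even (e1 q hq)) (1 : F) a
      have c2 := commute_elX hc hcomm h45 hs n2 (fun q hq => cast_even (e2 q hq)) (1 : F) a
      show elX D F s a * (elX D F 39 1 * elX D F 45 1) = _
      rw [← mul_assoc, ← c1, mul_assoc, ← c2, ← mul_assoc]
    exact sup_le (uGen_le_iff.2 fun s hs hp => hone s hs (Or.inl hp))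
      (uGen_le_iff.2 fun s hs hp => hone s hs (Or.inr hp))
  have hKG : K ≤ D.group F := by
    rw [group_eq hc]
    exact sup_le (uGen_mono fun _ _ _ => trivial) (uGen_mono fun _ _ _ => trivial)
  refine le_antisymm (fun g hg => ?_) (le_inf hKG hKC)
  obtain ⟨hgG, hgC⟩ := hg
  obtain ⟨L, u, d, y, hu, hd, hy, rfl⟩ := ChevField.exists_bruhat hc hcomm hgG
  have hyp : y ∈ uGen D F (fun r => D.nroots / 2 ≤ r) := uGen_mono (fun r _ hP => hP.1) hy
  have hA0 := closedPos_list hc (D := D) formF4 closedA0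
  have hB0 := closedPos_list hc (D := D) formF4 closedB0
  have hA := closedPos_list hc (D := D) formF4 closedA
  set A0 := uGen D F (fun r => r ∈ [39, 40, 44])
  set B0 := uGen D F (fun r => r ∈ [45, 46, 47])
  set N1 := uGen D F (fun m => m ∈ [40, 44])
  set N2 := uGen D F (fun m => m ∈ [46, 47])
  have hN1 : N1 ≤ A0 := uGen_mono fun r _ h => by
    simp only [List.mem_cons, List.not_mem_nil, or_false] at h ⊢; omega
  have hN2 : N2 ≤ B0 := uGen_mono fun r _ h => by
    simp only [List.mem_cons, List.not_mem_nil, or_false] at h ⊢; omega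
  have hX39 : ∀ c : F, elX D F 39 c ∈ A0 := fun c => elX_mem_uGen h39 (P := fun r => r ∈ [39, 40, 44]) (by simp) c
  have hX45 : ∀ c : F, elX D F 45 c ∈ B0 := fun c => elX_mem_uGen h45 (P := fun r => r ∈ [45, 46, 47]) (by simp) c
  have hconj : ∀ {z : GL D.Idx F}, z ∈ uGen D F (fun r => D.nroots / 2 ≤ r) → ∀ c c' : F,
      ∃ a ∈ N1, ∃ b ∈ N2, z * (elX D F 39 c * elX D F 45 c') * z⁻¹ = elX D F 39 c * a * (elX D F 45 c' * b) := by
    intro z hz c c'
    refine ⟨_, (conj_mod hc hcomm modShort (mem_pos_list hc hcomm hz)).2 c, _,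
      (conj_mod hc hcomm modLong (mem_pos_list hc hcomm hz)).2 c', ?_⟩
    group
  -- the word fixes both roots
  obtain ⟨a, ha, b, hb, hk⟩ := hconj hyp 1 1
  obtain ⟨a', ha', b', hb', hk'⟩ := hconj (inv_mem hu) 1 1
  rw [inv_inv, ← hvdef] at hk'
  rw [← hvdef] at hk
  set k := y * v * y⁻¹
  have hAB : ∀ {p q : GL D.Idx F}, p ∈ A0 → q ∈ B0 → p * q ∈ uGen D F (fun r => r ∈ [39, 40, 44, 45, 46, 47]) :=
    fun hp hq => mul_mem (uGen_mono (fun r _ h => by simp only [List.mem_cons, List.not_mem_nil, or_false] at h ⊢; omega) hp)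
      (uGen_mono (fun r _ h => by simp only [List.mem_cons, List.not_mem_nil, or_false] at h ⊢; omega) hq)
  have hkA : k ∈ uGen D F (fun r => r ∈ [39, 40, 44, 45, 46, 47]) := by
    rw [hk]; exact hAB (mul_mem (hX39 1) (hN1 ha)) (mul_mem (hX45 1) (hN2 hb))
  have hrhs : u⁻¹ * v * u ∈ uGen D F (fun r => r ∈ [39, 40, 44, 45, 46, 47]) := by
    rw [hk']; exact hAB (mul_mem (hX39 1) (hN1 ha')) (mul_mem (hX45 1) (hN2 hb'))
  have hfix : nProd D F L * k * (nProd D F L)⁻¹ = d⁻¹ * (u⁻¹ * v * u) * d := by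
    have e := Subgroup.mem_centralizer_singleton_iff.1 hgC
    calc nProd D F L * k * (nProd D F L)⁻¹
        = d⁻¹ * (u⁻¹ * (u * d * nProd D F L * y * v)) * y⁻¹ * (nProd D F L)⁻¹ := by simp only [k]; group
      _ = _ := by rw [e]; group
  have hkK : k ∈ uGen D F (KeepRoot D T L) := by
    refine mem_keep hc hcomm L (uGen_mono (fun r hr h => hA.1 r hr h) hkA) ?_
    rw [hfix]
    exact pos_le_borel hc (diag_conj_mem' hc _ hd (uGen_mono (fun r hr h => hA.1 r hr h) hrhs))
  have hkI := uGen_inter hc hcomm hA (closedPos_keep hc L) hkA hkK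
  set P : ℕ → Prop := fun r => D.nroots / 2 ≤ r ∧
    ∃ s, s < D.nroots ∧ (s ∈ [39, 40, 44, 45, 46, 47] ∧ KeepRoot D T L s) ∧ sigs D T L s = r
  have hPc : ClosedPos D T P := closedPos_img hc L (closedPos_and hc hA (closedPos_keep hc L))
  have hrP : u⁻¹ * v * u ∈ uGen D F P := by
    have h1 : nProd D F L * k * (nProd D F L)⁻¹ ∈ uGen D F P :=
      nProd_conj_uGen hc L (fun r hr hr' => ⟨hr'.2.2, r, hr, hr', rfl⟩) hkI
    rw [hfix] at h1
    have h2 := diag_conj_mem hc P hd h1
    rwa [show d * (d⁻¹ * (u⁻¹ * v * u) * d) * d⁻¹ = u⁻¹ * v * u by group] at h2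
  have hPA := closedPos_and hc hA hPc
  obtain ⟨p, hp, q, hq, hpq⟩ := uGen_split hc hcomm hPA
    (Q := fun r => r ∈ [39, 40, 44] ∧ P r) (R := fun r => r ∈ [45, 46, 47] ∧ P r)
    (fun r _ h => by
      have h1 := h.1
      simp only [List.mem_cons, List.not_mem_nil, or_false] at h1 ⊢
      rcases h1 with h1 | h1 | h1 | h1 | h1 | h1 <;>
        first | exact Or.inl ⟨by omega, h.2⟩ | exact Or.inr ⟨by omega, h.2⟩)
    (uGen_inter hc hcomm hA hPc hrhs hrP)
  have hsplit : elX D F 39 1 * a' = p ∧ elX D F 45 1 * b' = q := by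
    have e : p⁻¹ * (elX D F 39 1 * a') = q * (elX D F 45 1 * b')⁻¹ := by
      rw [inv_mul_eq_iff_eq_mul, ← mul_assoc, eq_mul_inv_iff_mul_eq, ← hk', hpq]
    have h1 : p⁻¹ * (elX D F 39 1 * a') = 1 := uGen_disjoint hc hcomm hA0 hB0
      (fun r _ h1 h2 => by simp only [List.mem_cons, List.not_mem_nil, or_false] at h1 h2; omega)
      (mul_mem (inv_mem (uGen_mono (fun _ _ h => h.1) hp)) (mul_mem (hX39 1) (hN1 ha')))
      (e ▸ mul_mem (uGen_mono (fun _ _ h => h.1) hq) (inv_mem (mul_mem (hX45 1) (hN2 hb'))))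
    rw [h1] at e
    exact ⟨(inv_mul_eq_one.1 h1).symm, (mul_inv_eq_one.1 e.symm).symm⟩
  have hP39 : P 39 := by
    refine lead_mem_closed hc hcomm h39 (by decide) hPc (k := a')
      (uGen_mono (fun r _ h => by simp only [List.mem_cons, List.not_mem_nil, or_false] at h; omega) ha') ?_
    rw [hsplit.1]; exact uGen_mono (fun _ _ h => h.2) hp
  have hP45 : P 45 := by
    refine lead_mem_closed hc hcomm h45 (by decide) hPc (k := b')
      (uGen_mono (fun r _ h => by simp only [List.mem_cons, List.not_mem_nil, or_false] at h; omega) hb') ?_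
    rw [hsplit.2]; exact uGen_mono (fun _ _ h => h.2) hq
  obtain ⟨-, r₀, hr₀, ⟨hr₀A, -⟩, hr39⟩ := hP39
  obtain ⟨-, s₀, hs₀, ⟨hs₀A, -⟩, hs45⟩ := hP45
  have hS : IsOrbitTop D shortF4 44 :=
    ⟨shortF4_orbit.1, shortF4_orbit.2.1, shortF4_orbit.2.2.1, shortF4_orbit.2.2.2⟩
  have hr₀S : shortF4 r₀ = true := by
    have := sigs_orbit hc hS L.reverse h39 (show shortF4 39 = true by decide)
    rwa [← hr39, sigs_reverse hc L hr₀] at this
  have horth : D.pairing r₀ s₀ = 0 := by
    rw [← pairing_sigs hc pairInvF4 L hr₀ hs₀, hr39, hs45]; exact orth_39_45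
  obtain ⟨rfl, rfl⟩ := orthF4 r₀ hr₀A s₀ hs₀A hr₀S horth
  have hflip : ∀ L : List (Fin D.rank), sigs D T L 39 = 39 ∧ sigs D T L 45 = 45 → ∀ r < 48, 24 ≤ r →
      sigs D T L r < 24 → r = 33 ∨ r = 24 := by
    intro L hL r hr hrp hneg
    by_contra hne
    push Not at hne
    have h1 := pairing_sigs hc pairInvF4 L h39 (show r < D.nroots from hr)
    have h2 := pairing_sigs hc pairInvF4 L h45 (show r < D.nroots from hr)
    rw [hL.1] at h1
    rw [hL.2] at h2
    rcases patternF4 r hr hrp hne.1 hne.2 _ hneg with g | g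
    · exact g h1
    · exact g h2
  have hKL : ∀ r, r ∈ [33, 14, 24, 23] → r < 48 → ∀ a : F, elX D F r a ∈ K := fun r hr hr' a =>
    Subgroup.mem_sup_left (elX_mem_uGen hr' (P := fun r => r ∈ [33, 14, 24, 23]) hr a)
  have hK : ∀ i : Fin D.rank, (i.val = 0 ∨ i.val = 3) → ∀ a : F, elN D F (D.simple i.val) a ∈ K := by
    intro i hi
    have hm : D.simple i.val ∈ [33, 14, 24, 23] ∧ D.neg (D.simple i.val) ∈ [33, 14, 24, 23] := by
      rcases hi with hi | hi <;> rw [hi] <;> decide +kernel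
    exact elN_mem hc i.2 (hKL _ hm.1 (simple_lt hc i.2)) (hKL _ hm.2 (neg_lt hc (simple_lt hc i.2)))
  obtain ⟨h', hh', l, hl, e⟩ := stabiliser_mem hc (K := K)
    (fun L => sigs D T L 39 = 39 ∧ sigs D T L 45 = 45) (fun L i hL hi => by
      have hsimple : ∀ i < 4, (D.simple i = 33 ∨ D.simple i = 24) →
          (i = 0 ∨ i = 3) ∧ D.reflectRoot i 39 = 39 ∧ D.reflectRoot i 45 = 45 := by decide +kernel
      obtain ⟨hi03, f39, f45⟩ := hsimple i.val i.2
        (hflip L hL _ (simple_lt hc i.2) (by rw [← hh24]; exact half_le_simple hc i.2) (by rw [← hh24]; exact hi))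
      refine ⟨hK i hi03 1, fun L' hL' => ?_⟩
      rw [← hL' 39 h39, ← hL' 45 h45, sigs_append, sigs_append, show sigs D T [i] 39 = sig D T i 39 from rfl,
        show sigs D T [i] 45 = sig D T i 45 from rfl, ← reflectRoot_eq' hc i h39, ← reflectRoot_eq' hc i h45, f39, f45]
      exact hL) L ⟨hr39, hs45⟩
  have hyK : y ∈ K := by
    refine (uGen_le_iff.2 fun r hr hr' a => ?_) hy
    exact hKL r (by rcases hflip L ⟨hr39, hs45⟩ r hr (by rw [← hh24]; exact hr'.1) (by rw [← hh24]; exact hr'.2) with rfl | rfl <;> simp) hr a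
  rw [show u * d * nProd D F L * y = u * (d * h') * (l * y) by rw [e]; group] at hgC ⊢
  have hly : l * y ∈ K := mul_mem hl hyK
  refine mul_mem ?_ hly
  have htC : u * (d * h') ∈ Subgroup.centralizer {v} := by
    have hgC' : u * (d * h') * (l * y) ∈ Subgroup.centralizer {v} := hgC
    have := mul_mem hgC' (inv_mem (hKC hly))
    rwa [mul_inv_cancel_right] at this
  obtain ⟨x, hx⟩ := (mem_diagonal hc).1 (mul_mem hd hh')
  rw [← hx] at htC ⊢
  have c39 := torus_conj_elX hc (hPar D F x) h39 (1 : F)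
  have c45 := torus_conj_elX hc (hPar D F x) h45 (1 : F)
  rw [mul_one] at c39 c45
  set t := torus D T F (hPar D F x)
  set χ39 : F := ((chi (hPar D F x) (rv D T 39) : Fˣ) : F)
  set χ45 : F := ((chi (hPar D F x) (rv D T 45) : Fˣ) : F)
  have hux : u * (elX D F 39 χ39 * elX D F 45 χ45) * u⁻¹ = v := by
    rw [← c39, ← c45]
    have e1 := Subgroup.mem_centralizer_singleton_iff.1 htC
    calc u * (t * elX D F 39 1 * t⁻¹ * (t * elX D F 45 1 * t⁻¹)) * u⁻¹ = u * t * v * (u * t)⁻¹ := by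
          simp only [hvdef]; group
      _ = v := by rw [e1, mul_inv_cancel_right]
  have hu' := mem_pos_list hc hcomm hu
  have ha₁ := (conj_mod hc hcomm modShort hu').2 χ39
  have hb₁ := (conj_mod hc hcomm modLong hu').2 χ45
  set a₁ := (elX D F 39 χ39)⁻¹ * (u * elX D F 39 χ39 * u⁻¹)
  set b₁ := (elX D F 45 χ45)⁻¹ * (u * elX D F 45 χ45 * u⁻¹)
  have hsep : elX D F 39 χ39 * a₁ = elX D F 39 1 ∧ elX D F 45 χ45 * b₁ = elX D F 45 1 := by
    have e0 : elX D F 39 χ39 * a₁ * (elX D F 45 χ45 * b₁) = elX D F 39 1 * elX D F 45 1 := by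
      rw [← hvdef, ← hux]; simp only [a₁, b₁]; group
    have e : (elX D F 39 1)⁻¹ * (elX D F 39 χ39 * a₁) = elX D F 45 1 * (elX D F 45 χ45 * b₁)⁻¹ := by
      calc (elX D F 39 1)⁻¹ * (elX D F 39 χ39 * a₁)
          = (elX D F 39 1)⁻¹ * (elX D F 39 χ39 * a₁ * (elX D F 45 χ45 * b₁)) * (elX D F 45 χ45 * b₁)⁻¹ := by group
        _ = _ := by rw [e0]; group
    have h1 : (elX D F 39 1)⁻¹ * (elX D F 39 χ39 * a₁) = 1 := uGen_disjoint hc hcomm hA0 hB0
      (fun r _ h1 h2 => by simp only [List.mem_cons, List.not_mem_nil, or_false] at h1 h2; omega)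
      (mul_mem (inv_mem (hX39 1)) (mul_mem (hX39 _) (hN1 ha₁)))
      (e ▸ mul_mem (hX45 1) (inv_mem (mul_mem (hX45 _) (hN2 hb₁))))
    rw [h1] at e
    exact ⟨(inv_mul_eq_one.1 h1).symm, (mul_inv_eq_one.1 e.symm).symm⟩
  have hcoef : ∀ (r : ℕ) (hr : r < D.nroots) (hrp : D.nroots / 2 ≤ r) (c : F) (z : GL D.Idx F),
      z ∈ uGen D F (fun s => r < s) → elX D F r c * z = elX D F r 1 → c = 1 := by
    intro r hr hrp c z hz heq
    obtain ⟨j, hj⟩ := exists_cv_ne_zero hc F hr
    have e1 := coord_eq hc hr hrp c hz j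
    have e2 := coord_eq hc hr hrp (1 : F) (one_mem (uGen D F (fun s => r < s))) j
    rw [mul_one] at e2
    rw [heq, e2] at e1
    exact (mul_left_cancel₀ hj e1).symm
  have hχ39 : χ39 = 1 := hcoef 39 h39 (by decide) _ _
    (uGen_mono (fun r _ h => by simp only [List.mem_cons, List.not_mem_nil, or_false] at h; omega) ha₁) hsep.1
  have hχ45 : χ45 = 1 := hcoef 45 h45 (by decide) _ _
    (uGen_mono (fun r _ h => by simp only [List.mem_cons, List.not_mem_nil, or_false] at h; omega) hb₁) hsep.2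
  have htK : t ∈ K := by
    refine torus_mem hc x fun i => ?_
    by_cases hi : i.val = 0 ∨ i.val = 3
    · exact Or.inr (hK i hi)
    left
    have hcar : D.cartan 0 39 = 0 ∧ D.cartan 1 39 = -1 ∧ D.cartan 2 39 = 1 ∧ D.cartan 3 39 = 0 ∧
        D.cartan 0 45 = 0 ∧ D.cartan 1 45 = 2 ∧ D.cartan 2 45 = -1 ∧ D.cartan 3 45 = 0 := by decide +kernel
    obtain ⟨k0, k1, k2, k3, m0, m1, m2, m3⟩ := hcar
    let x' : Fin 4 → Fˣ := x
    have e39 : ∏ i : Fin 4, (x' i) ^ D.cartan i 39 = 1 := (chi_hPar hc x h39).symm.trans (Units.ext hχ39)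
    have e45 : ∏ i : Fin 4, (x' i) ^ D.cartan i 45 = 1 := (chi_hPar hc x h45).symm.trans (Units.ext hχ45)
    rw [Fin.prod_univ_four] at e39 e45
    simp only [Fin.val_zero, Fin.val_one, show ((2 : Fin 4) : ℕ) = 2 from rfl, show ((3 : Fin 4) : ℕ) = 3 from rfl,
      k0, k1, k2, k3, m0, m1, m2, m3, zpow_zero, zpow_one, zpow_neg, zpow_two, one_mul, mul_one] at e39 e45
    rw [inv_mul_eq_one] at e39
    rw [← e39, mul_inv_cancel_right] at e45
    have hi4 : i.val < 4 := i.2
    rcases (show i.val = 1 ∨ i.val = 2 by omega) with h1 | h2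
    · exact (congrArg x (Fin.ext h1 : i = (⟨1, by decide⟩ : Fin D.rank))).trans e45
    · exact (congrArg x (Fin.ext h2 : i = (⟨2, by decide⟩ : Fin D.rank))).trans (e39.symm.trans e45)
  refine mul_mem ?_ htK
  -- the unipotent part
  rw [hχ39] at hsep
  rw [hχ45] at hsep
  have f39 : u * elX D F 39 1 * u⁻¹ = elX D F 39 1 := by
    refine Eq.trans ?_ hsep.1; simp only [a₁, hχ39]; group
  have f45 : u * elX D F 45 1 * u⁻¹ = elX D F 45 1 := by
    refine Eq.trans ?_ hsep.2; simp only [b₁, hχ45]; group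
  have hsg : ∀ m, m = 40 ∨ m = 44 ∨ m = 46 ∨ m = 47 → ClosedPos D T (fun z => z ∈ [m]) := by
    intro m hm
    rcases hm with rfl | rfl | rfl | rfl <;> exact closedPos_list hc (D := D) (T := T) formF4 (by decide +kernel)
  have hnil : ClosedPos D T (fun z => z ∈ ([] : List ℕ)) := closedPos_list hc (D := D) formF4 (by decide +kernel)
  have hall : ClosedPos D T (fun z => z ∈ posBut []) := by
    refine ⟨fun r hr h => ?_, fun r s v hr hs h1 h2 hv => ?_⟩
    · exact (modShort.2.2.2.1 r h).2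
    · have h := (closedPos_pos hc).2 r s v hr hs (modShort.2.2.2.1 r h1).2 (modShort.2.2.2.1 s h2).2 hv
      have hh : ∀ z < 48, 24 ≤ z → z ∈ posBut [] := by decide +kernel
      have h' : D.nroots / 2 ≤ v := h
      exact hh v hv.1 (by omega)
  have cov1 : ∀ z < 48, z ∈ posBut [] → z ∈ posBut [27] ∨ z = 27 := by decide +kernel
  have cov2 : ∀ z < 48, z ∈ posBut [27] → z ∈ posBut [27, 34] ∨ z = 34 := by decide +kernel
  have cov3 : ∀ z < 48, z ∈ posBut [27, 34] → z ∈ posBut [27, 34, 25] ∨ z = 25 := by decide +kernel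
  have cov4 : ∀ z < 48, z ∈ posBut [27, 34, 25] → z ∈ posBut [27, 34, 25, 26] ∨ z = 26 := by decide +kernel
  have u1 := peel hc hcomm hall (hsg 40 (by tauto)) (hsg 44 (by tauto)) (by decide) cov1 (show 27 < D.nroots by decide)
    (by decide) (by decide) modP1 (by decide +kernel) (by decide +kernel) hu' f39
  have u2 := peel hc hcomm (closedPos_list hc (D := D) formF4 closedP1) (hsg 44 (by tauto)) hnil (by decide) cov2
    (show 34 < D.nroots by decide) (by decide) (by decide) modP2 (by decide +kernel) (by decide +kernel) u1 f39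
  have u3 := peel hc hcomm (closedPos_list hc (D := D) formF4 closedP2) (hsg 46 (by tauto)) (hsg 47 (by tauto))
    (by decide) cov3 (show 25 < D.nroots by decide) (by decide) (by decide) modP3 (by decide +kernel)
    (by decide +kernel) u2 f45
  have u4 := peel hc hcomm (closedPos_list hc (D := D) formF4 closedP3) (hsg 47 (by tauto)) hnil (by decide) cov4
    (show 26 < D.nroots by decide) (by decide) (by decide) modP4 (by decide +kernel) (by decide +kernel) u3 f45
  exact Subgroup.mem_sup_right u4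

end

end CfsgLib.ChevCent
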