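import Cfsg.Agent.Lib.ChevCent.Mixed
import Cfsg.Agent.Lib.ChevCent.Checked

/-!
# The centraliser of a short root involution of G2 in characteristic two
-/

set_option autoImplicit false
set_option linter.unusedSectionVars false
set_option maxHeartbeats 800000

namespace CfsgLib.ChevCent

open Cfsg.Lie CfsgLib.Chev CfsgLib.ChevField

variable {D : ChevalleyDatum} {T : Tabs} {F : Type*} [Field F]

section
variable (hc : Checked D T) (hcomm : CommOne D T)
include hc hcomm

/-- an element fixing `x_r` modulo the list `M` avoids the root `s` -/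
theorem peel_odd [CharP F 2] {P Q M : List ℕ} {s r m : ℕ} {c : ℤ} (hodd : ¬ (2 : ℤ) ∣ c) (hP : ClosedPos D T (fun z => z ∈ P))
    (hmc : ClosedPos D T (fun z => z ∈ [m])) (hMc : ClosedPos D T (fun z => z ∈ M)) (hmM : m ∉ M)
    (hcov : ∀ z, z < D.nroots → z ∈ P → z ∈ Q ∨ z = s) (hs : s < D.nroots) (hsp : D.nroots / 2 ≤ s) (hrs : r ≠ s)
    (hr : ModOK D Q r M) (hm : ModOK D Q m M) (hterm : D.commTerms s r = [(m, c, 1, 1)])
    {u : GL D.Idx F} (hu : u ∈ uGen D F (fun z => z ∈ P)) (hfu : u * elX D F r 1 * u⁻¹ = elX D F r 1) :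
    u ∈ uGen D F (fun z => z ∈ Q) := by
  obtain ⟨q, hq, x', hx', rfl⟩ := uGen_split hc hcomm hP (Q := fun z => z ∈ Q) (R := fun z => z = s) hcov hu
  rw [← rootSubgroup_eq hc hs, mem_rootSubgroup hc hs] at hx'
  obtain ⟨α, rfl⟩ := hx'
  have hrn := hr.2.1
  have hmn := hm.2.1
  have hstep : elX D F s α * elX D F r 1 * (elX D F s α)⁻¹ = elX D F r 1 * elX D F m ((c : F) * α) := by
    rw [elX_conj_elX hc hcomm hs hrn hrs (ne_neg_of_pos hc hs hsp hr.2.2.1)]
    congr 1
    simp [wordGL, ChevalleyDatum.commWord, hterm]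
  have h1 := (conj_mod hc hcomm hr hq).2 (1 : F)
  have h2 := (conj_mod hc hcomm hm hq).2 ((c : F) * α)
  set e1 := (elX D F r 1)⁻¹ * (q * elX D F r 1 * q⁻¹)
  set e2 := (elX D F m ((c : F) * α))⁻¹ * (q * elX D F m ((c : F) * α) * q⁻¹)
  have h3 : e1 * (elX D F m ((c : F) * α) * e2) = 1 := by
    refine mul_left_cancel (a := elX D F r 1) ?_
    rw [mul_one]
    calc elX D F r 1 * (e1 * (elX D F m ((c : F) * α) * e2)) = q * (elX D F r 1 * elX D F m ((c : F) * α)) * q⁻¹ := by
          simp only [e1, e2]; group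
      _ = q * elX D F s α * elX D F r 1 * (q * elX D F s α)⁻¹ := by rw [← hstep]; group
      _ = elX D F r 1 := hfu
  have hz : elX D F m ((c : F) * α) = e1⁻¹ * e2⁻¹ := by
    rw [eq_mul_inv_iff_mul_eq]
    exact eq_inv_of_mul_eq_one_right h3
  have h4 : elX D F m ((c : F) * α) = 1 := uGen_disjoint hc hcomm hmc hMc
    (fun z _ g1 g2 => hmM (List.mem_singleton.1 g1 ▸ g2))
    (elX_mem_uGen hmn (P := fun z => z ∈ [m]) (List.mem_singleton_self m) _) (hz ▸ mul_mem (inv_mem h1) (inv_mem h2))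
  have hc0 : (c : F) ≠ 0 := fun h0 => hodd (by exact_mod_cast (CharP.intCast_eq_zero_iff F 2 c).1 h0)
  rw [(mul_eq_zero.1 ((elX_eq_one_iff hc hmn _).1 h4)).resolve_left hc0, elX_zero hc F hs, mul_one]
  exact hq

end

/-- the orbit of short roots of `G2` -/
def shortG2 (s : ℕ) : Bool := [2, 3, 4, 7, 8, 9].contains s

theorem shortG2_orbit : OrbitOK chevG2 shortG2 9 := by decide +kernel
theorem g2form : FormOK chevG2 [3, 5] 5 := by decide +kernel
theorem g2A : ClosedOK chevG2 [3, 5] 5 [9, 10, 11] := by decide +kernel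
theorem g2P : ClosedOK chevG2 [3, 5] 5 [6, 7, 8, 9, 10, 11] := by decide +kernel
theorem g2P1 : ClosedOK chevG2 [3, 5] 5 [6, 8, 9, 10, 11] := by decide +kernel
theorem g2S10 : ClosedOK chevG2 [3, 5] 5 [10] := by decide +kernel
theorem g2S11 : ClosedOK chevG2 [3, 5] 5 [11] := by decide +kernel
theorem g2Nil : ClosedOK chevG2 [3, 5] 5 [] := by decide +kernel
theorem g2mod : ModOK chevG2 [6, 7, 8, 9, 10, 11] 9 [10, 11] := by decide +kernel
theorem g2mod1 : ModOK chevG2 [6, 8, 9, 10, 11] 9 [11] := by decide +kernel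
theorem g2mod1' : ModOK chevG2 [6, 8, 9, 10, 11] 10 [11] := by decide +kernel
theorem g2mod2 : ModOK chevG2 [6, 9, 10, 11] 9 [] := by decide +kernel
theorem g2mod2' : ModOK chevG2 [6, 9, 10, 11] 11 [] := by decide +kernel
theorem g2inv : PairInv chevG2 := by decide +kernel
theorem g2pattern : ∀ r < 12, 6 ≤ r → r ≠ 6 → ∀ d < 6, chevG2.pairing 9 d ≠ chevG2.pairing 9 r := by decide +kernel

section
variable {T : Tabs} (hc : Checked chevG2 T) (hcomm : CommOne chevG2 T) [CharP F 2]
include hc hcomm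

theorem centralizer_g2 :
    chevG2.group F ⊓ Subgroup.centralizer {elX chevG2 F 9 (1 : F)}
      = uGen chevG2 F (fun r => r ∈ [5, 6, 9, 10, 11]) := by
  set D := chevG2
  have h9 : 9 < D.nroots := by decide
  have hh6 : D.nroots / 2 = 6 := by decide +kernel
  have hn12 : D.nroots = 12 := by decide +kernel
  set v := elX D F 9 (1 : F)
  set K := uGen D F (fun r => r ∈ [5, 6, 9, 10, 11])
  have hchk : ∀ s < 12, s ∈ [5, 6, 9, 10, 11] → s ≠ D.neg 9 ∧ ∀ q ∈ D.commTerms 9 s, (2 : ℤ) ∣ q.2.1 := by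
    decide +kernel
  have hKC : K ≤ Subgroup.centralizer {v} := uGen_le_iff.2 fun s hs hp a => by
    obtain ⟨n1, e1⟩ := hchk s hs hp
    rw [Subgroup.mem_centralizer_singleton_iff]
    exact (commute_elX hc hcomm h9 hs n1 (fun q hq => cast_even (e1 q hq)) (1 : F) a).symm
  have hKG : K ≤ D.group F := by rw [group_eq hc]; exact uGen_mono fun _ _ _ => trivial
  refine le_antisymm (fun g hg => ?_) (le_inf hKG hKC)
  obtain ⟨hgG, hgC⟩ := hg
  obtain ⟨L, u, d, y, hu, hd, hy, rfl⟩ := ChevField.exists_bruhat hc hcomm hgG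
  have hA := closedPos_list hc (D := D) g2form g2A
  have hall : ∀ {z : GL D.Idx F}, z ∈ uGen D F (fun r => D.nroots / 2 ≤ r) →
      z ∈ uGen D F (fun r => r ∈ [6, 7, 8, 9, 10, 11]) := by
    intro z hz
    refine uGen_mono (fun r hr hp => ?_) hz
    have h : ∀ r < 12, 6 ≤ r → r ∈ [6, 7, 8, 9, 10, 11] := by decide +kernel
    exact h r (hn12 ▸ hr) (hh6 ▸ hp)
  have hM : ∀ {z : GL D.Idx F}, z ∈ uGen D F (fun r => r ∈ [10, 11]) →
      z ∈ uGen D F (fun r => r ∈ [9, 10, 11]) ∧ z ∈ uGen D F (fun s => 9 < s) := fun hz =>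
    ⟨uGen_mono (fun r _ h => List.mem_cons_of_mem _ h) hz, uGen_mono (fun r _ h => by
      simp only [List.mem_cons, List.not_mem_nil, or_false] at h; omega) hz⟩
  have hX9 : ∀ c : F, elX D F 9 c ∈ uGen D F (fun r => r ∈ [9, 10, 11]) := fun c =>
    elX_mem_uGen h9 (P := fun r => r ∈ [9, 10, 11]) (by simp) c
  have hconj : ∀ {z : GL D.Idx F}, z ∈ uGen D F (fun r => D.nroots / 2 ≤ r) → ∀ c : F,
      ∃ a ∈ uGen D F (fun r => r ∈ [10, 11]), z * elX D F 9 c * z⁻¹ = elX D F 9 c * a := fun hz c =>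
    ⟨_, (conj_mod hc hcomm g2mod (hall hz)).2 c, by group⟩
  obtain ⟨a, ha, hk⟩ := hconj (uGen_mono (fun r _ hP => hP.1) hy) 1
  obtain ⟨a', ha', hk'⟩ := hconj (inv_mem hu) 1
  rw [inv_inv] at hk'
  set k := y * v * y⁻¹
  have hkA : k ∈ uGen D F (fun r => r ∈ [9, 10, 11]) := by rw [hk]; exact mul_mem (hX9 1) (hM ha).1
  have hrhs : u⁻¹ * v * u ∈ uGen D F (fun r => r ∈ [9, 10, 11]) := by rw [hk']; exact mul_mem (hX9 1) (hM ha').1
  have hfix : nProd D F L * k * (nProd D F L)⁻¹ = d⁻¹ * (u⁻¹ * v * u) * d := by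
    have e := Subgroup.mem_centralizer_singleton_iff.1 hgC
    calc nProd D F L * k * (nProd D F L)⁻¹
        = d⁻¹ * (u⁻¹ * (u * d * nProd D F L * y * v)) * y⁻¹ * (nProd D F L)⁻¹ := by simp only [k]; group
      _ = _ := by rw [e]; group
  have hkK : k ∈ uGen D F (KeepRoot D T L) := by
    refine mem_keep hc hcomm L (uGen_mono (fun r hr h => hA.1 r hr h) hkA) ?_
    rw [hfix]
    exact pos_le_borel hc (diag_conj_mem' hc _ hd (uGen_mono (fun r hr h => hA.1 r hr h) hrhs))
  have hkI := uGen_inter hc hcomm hA (closedPos_keep hc L) hkA hkK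
  set P : ℕ → Prop := fun r => D.nroots / 2 ≤ r ∧
    ∃ s, s < D.nroots ∧ (s ∈ [9, 10, 11] ∧ KeepRoot D T L s) ∧ sigs D T L s = r
  have hPc : ClosedPos D T P := closedPos_img hc L (closedPos_and hc hA (closedPos_keep hc L))
  have hrP : u⁻¹ * v * u ∈ uGen D F P := by
    have h1 : nProd D F L * k * (nProd D F L)⁻¹ ∈ uGen D F P :=
      nProd_conj_uGen hc L (fun r hr hr' => ⟨hr'.2.2, r, hr, hr', rfl⟩) hkI
    rw [hfix] at h1
    have h2 := diag_conj_mem hc P hd h1
    rwa [show d * (d⁻¹ * (u⁻¹ * v * u) * d) * d⁻¹ = u⁻¹ * v * u by group] at h2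
  have hP9 : P 9 := lead_mem_closed hc hcomm h9 (by omega) hPc (k := a') (hM ha').2 (hk' ▸ hrP)
  obtain ⟨-, r₀, hr₀, ⟨hr₀A, -⟩, hr9⟩ := hP9
  have hS : IsOrbitTop D shortG2 9 :=
    ⟨shortG2_orbit.1, shortG2_orbit.2.1, shortG2_orbit.2.2.1, shortG2_orbit.2.2.2⟩
  have hr₀S : shortG2 r₀ = true := by
    have := sigs_orbit hc hS L.reverse h9 (show shortG2 9 = true by decide)
    rwa [← hr9, sigs_reverse hc L hr₀] at this
  have hr₀9 : r₀ = 9 := by
    have h : ∀ r ∈ [9, 10, 11], shortG2 r = true → r = 9 := by decide +kernel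
    exact h r₀ hr₀A hr₀S
  subst hr₀9
  have hKr : ∀ r, r ∈ [5, 6, 9, 10, 11] → r < D.nroots → ∀ a : F, elX D F r a ∈ K := fun r hr hr' a =>
    elX_mem_uGen hr' (P := fun r => r ∈ [5, 6, 9, 10, 11]) hr a
  have hK : ∀ i : Fin D.rank, i.val = 1 → ∀ a : F, elN D F (D.simple i.val) a ∈ K := by
    intro i hi
    have hm : D.simple 1 ∈ [5, 6, 9, 10, 11] ∧ D.neg (D.simple 1) ∈ [5, 6, 9, 10, 11] := by decide +kernel
    have hmul : ∀ a : F, elN D F (D.simple i.val) a ∈ K := fun a =>
      mul_mem (mul_mem (hKr _ (hi ▸ hm.1) (simple_lt hc i.2) _) (hKr _ (hi ▸ hm.2) (neg_lt hc (simple_lt hc i.2)) _))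
        (hKr _ (hi ▸ hm.1) (simple_lt hc i.2) _)
    exact hmul
  have hfix9 : ∀ i < 2, D.reflectRoot i 9 = 9 → i = 1 := by decide +kernel
  obtain ⟨h', hh', l, hl, e⟩ := nProd_fix_mem hc (F := F) hS (K := K) (fun i hi =>
    hK i (hfix9 i.val i.2 (by rw [reflectRoot_eq' hc i h9]; exact hi)) 1) L hr9
  have hyK : y ∈ K := by
    refine (uGen_le_iff.2 fun r hr hr' a => ?_) hy
    refine hKr r ?_ hr a
    by_contra hne
    have hne6 : r ≠ 6 := fun h => hne (by rw [h]; simp)
    have h1 := pairing_sigs hc g2inv L h9 hr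
    rw [hr9] at h1
    exact g2pattern r (hn12 ▸ hr) (hh6 ▸ hr'.1) hne6 _ (hh6 ▸ hr'.2) h1
  rw [show u * d * nProd D F L * y = u * (d * h') * (l * y) by rw [e]; group] at hgC ⊢
  have hly : l * y ∈ K := mul_mem hl hyK
  refine mul_mem ?_ hly
  have htC : u * (d * h') ∈ Subgroup.centralizer {v} := by
    have hgC' : u * (d * h') * (l * y) ∈ Subgroup.centralizer {v} := hgC
    have := mul_mem hgC' (inv_mem (hKC hly))
    rwa [mul_inv_cancel_right] at this
  obtain ⟨x, hx⟩ := (mem_diagonal hc).1 (mul_mem hd hh')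
  rw [← hx] at htC ⊢
  have c9 := torus_conj_elX hc (hPar D F x) h9 (1 : F)
  rw [mul_one] at c9
  set t := torus D T F (hPar D F x)
  set χ : F := ((chi (hPar D F x) (rv D T 9) : Fˣ) : F)
  have hux : u * elX D F 9 χ * u⁻¹ = v := by
    rw [← c9]
    have e1 := Subgroup.mem_centralizer_singleton_iff.1 htC
    calc u * (t * elX D F 9 1 * t⁻¹) * u⁻¹ = u * t * v * (u * t)⁻¹ := by simp only [v]; group
      _ = v := by rw [e1, mul_inv_cancel_right]
  obtain ⟨a₁, ha₁, he⟩ := hconj hu χ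
  rw [hux] at he
  have hχ : χ = 1 := by
    obtain ⟨j, hj⟩ := exists_cv_ne_zero hc F h9
    have e1 := coord_eq hc h9 (by omega) χ (hM ha₁).2 j
    have e2 := coord_eq hc h9 (by omega) (1 : F) (one_mem (uGen D F (fun s => 9 < s))) j
    rw [mul_one] at e2
    rw [← he] at e1
    exact (mul_left_cancel₀ hj (e2.symm.trans e1)).symm
  refine mul_mem ?_ ?_
  · rw [hχ] at hux
    have u0 := hall hu
    have u1 := peel_odd hc hcomm (c := 3) (s := 7) (m := 10) (Q := [6, 8, 9, 10, 11]) (by decide)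
      (closedPos_list hc (D := D) g2form g2P) (closedPos_list hc (D := D) g2form g2S10)
      (closedPos_list hc (D := D) g2form g2S11) (by decide)
      (fun z _ hz => by simp only [List.mem_cons, List.not_mem_nil, or_false] at hz ⊢; omega)
      (show 7 < D.nroots by decide) (by omega) (by decide) g2mod1 g2mod1' (by decide +kernel) u0 hux
    have u2 := peel_odd hc hcomm (c := 3) (s := 8) (m := 11) (Q := [6, 9, 10, 11]) (by decide)
      (closedPos_list hc (D := D) g2form g2P1) (closedPos_list hc (D := D) g2form g2S11)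
      (closedPos_list hc (D := D) g2form g2Nil) (by decide)
      (fun z _ hz => by simp only [List.mem_cons, List.not_mem_nil, or_false] at hz ⊢; omega)
      (show 8 < D.nroots by decide) (by omega) (by decide) g2mod2 g2mod2' (by decide +kernel) u1 hux
    exact uGen_mono (fun z _ hz => List.mem_cons_of_mem _ hz) u2
  · have hcar : D.cartan 0 9 = 1 ∧ D.cartan 1 9 = 0 := by decide +kernel
    have e9 : chi (hPar D F x) (rv D T 9) = x ⟨0, by decide⟩ := by
      rw [hPar_eq_corChar hc]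
      have hprod : ∀ s : Finset (Fin D.rank), chi (∏ i ∈ s, corChar D T (D.simple i.val) (x i)) (rv D T 9)
          = ∏ i ∈ s, x i ^ D.cartan i 9 := by
        intro s
        induction s using Finset.induction with
        | empty => simp [chi_one]
        | @insert a s ha ih => rw [Finset.prod_insert ha, Finset.prod_insert ha, chi_mul, ih, chi_corChar_simple hc a h9]
      rw [hprod, Finset.prod_eq_single (⟨0, by decide⟩ : Fin D.rank), hcar.1, zpow_one]
      · intro b _ hb
        have h2 : b.val < 2 := b.2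
        have : b.val = 1 := by
          rcases (show b.val = 0 ∨ b.val = 1 by omega) with h | h
          · exact absurd (Fin.ext h) hb
          · exact h
        rw [this, hcar.2, zpow_zero]
      · simp
    show torus D T F (hPar D F x) ∈ K
    rw [hPar_eq_corChar hc]
    show _ ∈ Subgroup.comap (torus D T F) K
    refine Subgroup.prod_mem _ fun i _ => ?_
    rw [Subgroup.mem_comap]
    have hi2 : i.val < 2 := i.2
    rcases (show i.val = 0 ∨ i.val = 1 by omega) with h | h
    · have : x i = 1 := by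
        rw [show i = (⟨0, by decide⟩ : Fin D.rank) from Fin.ext h, ← e9]
        exact Units.ext hχ
      rw [this, show corChar D T (D.simple i.val) (1 : Fˣ) = 1 from funext fun j => by simp [corChar], map_one]
      exact one_mem _
    · rw [← elH_eq_torus hc (simple_lt hc i.2)]
      exact mul_mem (hK i h _) (hK i h _)

end

end CfsgLib.ChevCent
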