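import Cfsg.Agent.Lib.PSpFourSpec.Lower
import Cfsg.Agent.Lib.SpSylowTwo.Embed
import Cfsg.Prelude.Def_Classical

/-!
# Elements of order divisible by 65 in small classical groups over the fields with 8 and 64 elements
-/

set_option autoImplicit false
set_option linter.unusedSectionVars false

namespace CfsgLib.ChevCent.SixtyFive

open Matrix

/-- an injective homomorphism does not lose order modulo the centres -/
theorem dvd_orderOf_mk {A B : Type*} [Group A] [Group B] (f : A →* B) (hf : Function.Injective f) {a : A} {n : ℕ}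
    (h : n ∣ orderOf (QuotientGroup.mk a : A ⧸ Subgroup.center A)) :
    n ∣ orderOf (QuotientGroup.mk (f a) : B ⧸ Subgroup.center B) := by
  refine h.trans (orderOf_dvd_of_pow_eq_one ?_)
  have h1 := pow_orderOf_eq_one (QuotientGroup.mk (f a) : B ⧸ Subgroup.center B)
  rw [← QuotientGroup.mk_pow, QuotientGroup.eq_one_iff, ← map_pow, Subgroup.mem_center_iff] at h1
  rw [← QuotientGroup.mk_pow, QuotientGroup.eq_one_iff, Subgroup.mem_center_iff]
  exact fun b => hf (by rw [map_mul, map_mul]; exact h1 (f b))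

/-- a multiple order gives the order itself -/
theorem exists_order_eq {A : Type*} [Group A] [Finite A] {n : ℕ} (h : ∃ a : A, n ∣ orderOf a) :
    ∃ a : A, orderOf a = n := by
  obtain ⟨a, ha⟩ := h
  exact ⟨a ^ (orderOf a / n), orderOf_pow_orderOf_div (orderOf_pos a).ne' ha⟩

/-- PSL(2, 64) -/
theorem psl_two {K : Type*} [Field K] [Fintype K] (hK : Fintype.card K = 64) :
    ∃ g : Matrix.ProjectiveSpecialLinearGroup (Fin 2) K, 65 ∣ orderOf g := by
  haveI : Fact (Nat.Prime 2) := ⟨Nat.prime_two⟩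
  haveI : CharP K 2 := charP_of_card_eq_prime_pow (f := 6) hK
  obtain ⟨x, l, hlo, hlr⟩ := PSpFourSpec.exists_sl2_eigen (K := K) 2 (T := 65) (Or.inr (by rw [hK]))
  refine ⟨QuotientGroup.mk x, ?_⟩
  set o := orderOf (QuotientGroup.mk x : Matrix.ProjectiveSpecialLinearGroup (Fin 2) K)
  have h1 := pow_orderOf_eq_one (QuotientGroup.mk x : Matrix.ProjectiveSpecialLinearGroup (Fin 2) K)
  rw [← QuotientGroup.mk_pow, QuotientGroup.eq_one_iff, Matrix.SpecialLinearGroup.mem_center_iff] at h1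
  obtain ⟨r, hr, hrM⟩ := h1
  rw [Fintype.card_fin, show r ^ 2 = r * r from sq r] at hr
  have hr1 : r = 1 := (mul_self_eq_one_iff.1 hr).elim id fun h' => by rw [h', CharTwo.neg_eq]
  have hx : ((x : Matrix (Fin 2) (Fin 2) K)) ^ o = (1 : K) • 1 := by
    rw [one_smul, ← Matrix.SpecialLinearGroup.coe_pow, ← hrM, hr1, map_one]
  have h2 := PSpFourSpec.root_pow_eq _ hlr hx
  rw [map_one] at h2
  exact hlo ▸ orderOf_dvd_of_pow_eq_one h2

/-- Sp(4, 8) modulo its centre -/
theorem psp_two {F : Type*} [Field F] [Fintype F] (hF : Fintype.card F = 8) :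
    ∃ a : symplecticGroup (Fin 2) F, 65 ∣ orderOf (QuotientGroup.mk a : Cfsg.PSp 2 F) := by
  haveI : Fact (Nat.Prime 2) := ⟨Nat.prime_two⟩
  haveI : CharP F 2 := charP_of_card_eq_prime_pow (f := 3) hF
  obtain ⟨g, hg⟩ := PSpFourSpec.exists_psp_four_orders (F := F) 2 (e := 1) (Hm := 63) (Hp := 65) (by norm_num)
    (fun _ => rfl) (fun h => absurd rfl h) (by rw [hF]; norm_num) (by rw [hF]; norm_num) 65
    (by simp [PSpFourSpec.specList])
  obtain ⟨a, rfl⟩ := QuotientGroup.mk_surjective g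
  exact ⟨a, hg⟩

/-- Sp(6, 8) modulo its centre -/
theorem psp_three {F : Type*} [Field F] [Fintype F] (hF : Fintype.card F = 8) :
    ∃ g : Cfsg.PSp 3 F, 65 ∣ orderOf g := by
  obtain ⟨a, ha⟩ := psp_two hF
  let f : symplecticGroup (Fin 2) F →* symplecticGroup (Fin 3) F :=
    (SpSylowTwo.spReindex (finSumFinEquiv : Fin 2 ⊕ Fin 1 ≃ Fin 3)).comp
      (SpSylowTwo.spSum.comp (MonoidHom.inl _ _))
  have hf : Function.Injective f := fun x y h =>
    (Prod.ext_iff.1 (SpSylowTwo.spSum_injective (SpSylowTwo.spReindex_injective _ h))).1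
  exact ⟨_, dvd_orderOf_mk f hf ha⟩

/-- Sp(4) as four by four matrices of determinant one -/
noncomputable def spToSL (F : Type*) [Field F] :
    symplecticGroup (Fin 2) F →* Matrix.SpecialLinearGroup (Fin 4) F :=
  MonoidHom.mk'
    (fun g => ⟨Matrix.reindexAlgEquiv F F finSumFinEquiv g.1, by
      rw [Matrix.det_reindexAlgEquiv, SymplecticGroup.det_eq_one g.2]⟩)
    fun g h => Subtype.ext (map_mul (Matrix.reindexAlgEquiv F F finSumFinEquiv) g.1 h.1)

theorem spToSL_injective (F : Type*) [Field F] : Function.Injective (spToSL F) := fun g h e =>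
  Subtype.ext ((Matrix.reindexAlgEquiv F F finSumFinEquiv).injective (congrArg Subtype.val e))

/-- PSL(4, 8) -/
theorem psl_four {F : Type*} [Field F] [Fintype F] (hF : Fintype.card F = 8) :
    ∃ g : Matrix.ProjectiveSpecialLinearGroup (Fin 4) F, 65 ∣ orderOf g := by
  obtain ⟨a, ha⟩ := psp_two hF
  exact ⟨_, dvd_orderOf_mk (spToSL F) (spToSL_injective F) ha⟩

/-- PSU(4, 8) -/
theorem psu_four {F K : Type*} [Field F] [Fintype F] (hF : Fintype.card F = 8) [Field K] [Fintype K]
    (hK : Fintype.card K = 64) : ∃ g : Cfsg.PSU 4 K 8, 65 ∣ orderOf g := by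
  classical
  obtain ⟨a, ha⟩ := psp_two hF
  haveI : Fact (Nat.Prime 2) := ⟨Nat.prime_two⟩
  haveI : CharP K 2 := charP_of_card_eq_prime_pow (f := 6) hK
  haveI : CharP F 2 := charP_of_card_eq_prime_pow (f := 3) hF
  obtain ⟨j⟩ : Nonempty (F →+* K) := by
    let _ : Algebra (ZMod 2) F := ZMod.algebra F 2
    let _ : Algebra (ZMod 2) K := ZMod.algebra K 2
    have h1 : Module.finrank (ZMod 2) F = 3 := Nat.pow_right_injective le_rfl (by
      show 2 ^ Module.finrank (ZMod 2) F = 2 ^ 3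
      rw [FiniteField.pow_finrank_eq_card, hF])
    have h2 : Module.finrank (ZMod 2) K = 6 := Nat.pow_right_injective le_rfl (by
      show 2 ^ Module.finrank (ZMod 2) K = 2 ^ 6
      rw [FiniteField.pow_finrank_eq_card, hK])
    obtain ⟨f⟩ := FiniteField.nonempty_algHom_of_finrank_dvd (F := ZMod 2) (K := F) (L := K)
      (by rw [h1, h2]; norm_num)
    exact ⟨f.toRingHom⟩
  obtain ⟨θ, hθo⟩ : ∃ θ : Kˣ, orderOf θ = 3 := by
    haveI : Fact (Nat.Prime 3) := ⟨Nat.prime_three⟩
    exact exists_prime_orderOf_dvd_card' 3 (by rw [Nat.card_units, Nat.card_eq_fintype_card, hK]; norm_num)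
  have hθ3 : (θ : K) ^ 3 = 1 := by
    rw [← Units.val_pow_eq_pow_val, ← hθo, pow_orderOf_eq_one, Units.val_one]
  have hθq : (θ : K) ^ 2 + θ + 1 = 0 := by
    have h1 : (θ : K) ≠ 1 := fun h => by
      rw [Units.val_eq_one] at h; rw [h, orderOf_one] at hθo; norm_num at hθo
    refine (mul_eq_zero.1 ?_).resolve_left (sub_ne_zero.2 h1)
    linear_combination hθ3
  have h2 : (2 : K) = 0 := CharTwo.two_eq_zero
  set c : K →+* K := iterateFrobenius K 2 3 with hcdef
  have hc : ∀ y : K, c y = y ^ 8 := fun y => by rw [hcdef, iterateFrobenius_def]; norm_num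
  have hcθ : c θ = (θ : K) ^ 2 := by rw [hc]; linear_combination ((θ : K) ^ 5 + (θ : K) ^ 2) * hθ3
  set u : K := (θ : K) with hu
  set P : Matrix (Fin 4) (Fin 4) K := !![1, 0, u, 0; 1, 0, u ^ 2, 0; 0, 1, 0, u; 0, 1, 0, u ^ 2] with hP
  set J4 : Matrix (Fin 4) (Fin 4) K := !![0, 0, 1, 0; 0, 0, 0, 1; 1, 0, 0, 0; 0, 1, 0, 0] with hJ4
  have hPJ : Pᵀ * P.map c = J4 := by
    ext r s
    fin_cases r <;> fin_cases s <;>
      simp [hP, hJ4, Matrix.mul_apply, Fin.sum_univ_four, Matrix.map_apply, hcθ, map_pow] <;>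
      first
        | linear_combination h2
        | linear_combination (u ^ 3 + u) * h2
        | linear_combination u * hθ3 + hθq - h2
        | linear_combination hθq - h2
        | linear_combination (u ^ 3 + 2) * hθ3 + h2
  have hJ4u : IsUnit J4.det := by
    have hJJ : J4 * J4 = 1 := by
      ext r s
      fin_cases r <;> fin_cases s <;> simp [hJ4, Matrix.mul_apply, Fin.sum_univ_four]
    exact (Matrix.isUnit_iff_isUnit_det _).1 ⟨⟨J4, J4, hJJ, hJJ⟩, rfl⟩
  have hPu : IsUnit P.det := by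
    rw [← hPJ, Matrix.det_mul, Matrix.det_transpose] at hJ4u
    exact isUnit_of_mul_isUnit_left hJ4u
  set jm : Matrix (Fin 4) (Fin 4) F →+* Matrix (Fin 4) (Fin 4) K := j.mapMatrix
  set Φ : symplecticGroup (Fin 2) F → Matrix (Fin 4) (Fin 4) K := fun g =>
    P * jm (spToSL F g).1 * P⁻¹ with hΦ
  have hdet : ∀ g, (Φ g).det = 1 := fun g => by
    rw [hΦ, Matrix.det_mul, Matrix.det_mul, ← RingHom.map_det, (spToSL F g).2, map_one, mul_one,
      Matrix.det_nonsing_inv, Ring.mul_inverse_cancel _ hPu]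
  let ψ : symplecticGroup (Fin 2) F →* Matrix.SpecialLinearGroup (Fin 4) K :=
    MonoidHom.mk' (fun g => ⟨Φ g, hdet g⟩) fun g h => Subtype.ext (by
      show P * jm (spToSL F (g * h)).1 * P⁻¹ = P * jm (spToSL F g).1 * P⁻¹ * (P * jm (spToSL F h).1 * P⁻¹)
      rw [map_mul, Matrix.SpecialLinearGroup.coe_mul, map_mul]
      simp only [Matrix.mul_assoc, Matrix.nonsing_inv_mul_cancel_left _ _ hPu])
  have hform : ∀ g, (Φ g)ᵀ * (Φ g).map c = 1 := by
    intro g
    set M := jm (spToSL F g).1 with hM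
    have hfix : M.map c = M := by
      ext r s
      show c (j _) = j _
      rw [hc, ← map_pow]
      congr 1
      conv_lhs => rw [← hF]
      exact FiniteField.pow_card _
    have hJ : Mᵀ * J4 * M = J4 := by
      have h1 := congrArg jm (congrArg (Matrix.reindexAlgEquiv F F finSumFinEquiv)
        (SymplecticGroup.mem_iff'.1 g.2))
      have hJm : jm (Matrix.reindexAlgEquiv F F finSumFinEquiv (Matrix.J (Fin 2) F)) = J4 := by
        ext r s
        fin_cases r <;> fin_cases s <;>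
          simp [jm, hJ4, Matrix.J, Matrix.fromBlocks, finSumFinEquiv, Fin.addCases, CharTwo.neg_eq]
      rw [map_mul, map_mul, map_mul, map_mul, hJm] at h1
      have htr : jm (Matrix.reindexAlgEquiv F F finSumFinEquiv (g.1ᵀ)) = Mᵀ := by
        ext r s; rfl
      rw [htr] at h1
      exact h1
    have hPc : IsUnit (P.map c).det := by
      rw [← RingHom.mapMatrix_apply, ← RingHom.map_det]; exact hPu.map c
    have hinv : P⁻¹.map c = (P.map c)⁻¹ := by
      refine (Matrix.inv_eq_right_inv ?_).symm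
      rw [← Matrix.map_mul, Matrix.mul_nonsing_inv _ hPu, Matrix.map_one _ (map_zero c) (map_one c)]
    have hPPc : P⁻¹ᵀ * J4 * (P.map c)⁻¹ = 1 := by
      rw [← hPJ, ← Matrix.mul_assoc, ← Matrix.transpose_mul, Matrix.mul_nonsing_inv _ hPu, Matrix.transpose_one,
        Matrix.one_mul, Matrix.mul_nonsing_inv _ hPc]
    calc (P * M * P⁻¹)ᵀ * (P * M * P⁻¹).map c
        = P⁻¹ᵀ * (Mᵀ * (Pᵀ * P.map c) * M) * (P.map c)⁻¹ := by
          rw [Matrix.transpose_mul, Matrix.transpose_mul, Matrix.map_mul, Matrix.map_mul, hfix, hinv]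
          simp only [Matrix.mul_assoc]
      _ = 1 := by rw [hPJ, hJ, hPPc]
  have hmem : ∀ g, ψ g ∈ Cfsg.SU 4 K 8 := by
    intro g v w
    show Cfsg.hermForm 4 K 8 (Φ g *ᵥ v) (Φ g *ᵥ w) = Cfsg.hermForm 4 K 8 v w
    have e1 : ∀ v w : Fin 4 → K, Cfsg.hermForm 4 K 8 v w = v ⬝ᵥ fun i => c (w i) := fun v w => by
      simp only [Cfsg.hermForm, dotProduct, hc]
    rw [e1, e1, show (fun i => c ((Φ g *ᵥ w) i)) = (Φ g).map c *ᵥ fun i => c (w i) from
      funext fun i => RingHom.map_mulVec c _ _ i, Matrix.dotProduct_mulVec, ← Matrix.vecMul_transpose (Φ g) v,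
      Matrix.vecMul_vecMul, hform, Matrix.vecMul_one]
  have hψ : Function.Injective (ψ.codRestrict (Cfsg.SU 4 K 8) hmem) := fun g h e => by
    have e' : P * jm (spToSL F g).1 * P⁻¹ = P * jm (spToSL F h).1 * P⁻¹ :=
      congrArg (fun y : ↥(Cfsg.SU 4 K 8) => ((y : Matrix.SpecialLinearGroup (Fin 4) K) : Matrix (Fin 4) (Fin 4) K)) e
    have e'' : jm (spToSL F g).1 = jm (spToSL F h).1 := by
      have := congrArg (fun Y => P⁻¹ * Y * P) e'
      simpa [Matrix.mul_assoc, Matrix.nonsing_inv_mul_cancel_left _ _ hPu, Matrix.nonsing_inv_mul _ hPu] using this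
    exact spToSL_injective F (Subtype.ext (Matrix.map_injective j.injective e''))
  exact ⟨_, dvd_orderOf_mk (ψ.codRestrict (Cfsg.SU 4 K 8) hmem) hψ ha⟩

end CfsgLib.ChevCent.SixtyFive
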