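import Cfsg.Agent.Lib.ChevField.Descent
import Cfsg.Agent.Lib.Chev.Comm
import Cfsg.Agent.Lib.Chev.Structure
import Cfsg.Agent.Lib.Chev.RadicalCentralizer
import Cfsg.Agent.Lib.Chev.Bruhat

/-!
# Centraliser and normaliser of the points over a finite subfield
-/

set_option autoImplicit false
set_option linter.unusedSectionVars false

namespace CfsgLib.ChevCent

open Cfsg.Lie CfsgLib.Chev CfsgLib.ChevField

variable {D : ChevalleyDatum} {T : Tabs} {F : Type*} [Field F]

section
variable (hc : Checked D T)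
include hc

theorem uProd_extend {P Q : ℕ → Prop} [DecidablePred P] (hPQ : ∀ r, P r → r < D.nroots → Q r) (k : ℕ) (t : ℕ → F) :
    uProd D F (rootsFrom D P k) t = uProd D F (rootsFrom D Q 0) (fun r => if P r ∧ k ≤ r then t r else 0) := by
  classical
  set t' : ℕ → F := fun r => if P r ∧ k ≤ r then t r else 0
  have step : ∀ {R : ℕ → Prop} (j : ℕ) (u : ℕ → F), (R j → j < D.nroots → u j = 0) →
      uProd D F (rootsFrom D R j) u = uProd D F (rootsFrom D R (j + 1)) u := by
    intro R j u hu
    by_cases hj : j < D.nroots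
    · by_cases hR : R j
      · rw [rootsFrom_eq_cons hj hR, uProd, List.map_cons, List.prod_cons, hu hR hj, elX_zero hc F hj, one_mul]; rfl
      · rw [rootsFrom_eq_skip hj hR]
    · rw [rootsFrom_ge (by omega), rootsFrom_ge (by omega)]
  have low : ∀ j ≤ k, uProd D F (rootsFrom D Q 0) t' = uProd D F (rootsFrom D Q j) t' := by
    intro j
    induction j with
    | zero => intro _; rfl
    | succ j ih =>
      intro hj
      rw [ih (by omega), step j t' fun _ _ => if_neg fun h => by omega]
  rw [low k le_rfl]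
  have high : ∀ d j, D.nroots - j = d → k ≤ j →
      uProd D F (rootsFrom D P j) t = uProd D F (rootsFrom D Q j) t' := by
    intro d
    induction d with
    | zero => intro j hj _; rw [rootsFrom_ge (by omega), rootsFrom_ge (by omega)]; rfl
    | succ d ih =>
      intro j hj hkj
      have hjn : j < D.nroots := by omega
      by_cases hP : P j
      · rw [rootsFrom_eq_cons hjn hP, rootsFrom_eq_cons hjn (hPQ j hP hjn)]
        have e : t' j = t j := if_pos ⟨hP, hkj⟩
        show elX D F j (t j) * uProd D F _ t = elX D F j (t' j) * uProd D F _ t'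
        rw [e, ih (j + 1) (by omega) (by omega)]
      · rw [rootsFrom_eq_skip hjn hP, step j t' fun _ _ => if_neg fun h => hP h.1, ih (j + 1) (by omega) (by omega)]
  exact high _ k rfl le_rfl

variable (hcomm : CommOne D T)
include hcomm

/-- a product led by the root `r` is not generated by a closed set avoiding `r` -/
theorem lead_mem_closed {r : ℕ} (hr : r < D.nroots) (hrp : D.nroots / 2 ≤ r) {P : ℕ → Prop} (hP : ClosedPos D T P)
    {k : GL D.Idx F} (hk : k ∈ uGen D F (fun s => r < s)) (h : elX D F r 1 * k ∈ uGen D F P) : P r := by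
  classical
  by_contra hPr
  set Q : ℕ → Prop := fun s => D.nroots / 2 ≤ s with hQ
  obtain ⟨t, ht⟩ := uGen_exists hc hcomm hP h
  obtain ⟨t', ht'⟩ := uGen_normal_form hc hcomm (closedPos_pos hc) r
    (mul_mem (elX_mem_uGen hr (P := fun s => D.nroots / 2 ≤ s ∧ r ≤ s) ⟨hrp, le_rfl⟩ 1)
      (uGen_mono (fun s _ hs => ⟨by omega, le_of_lt hs⟩) hk))
  have e := (uProd_extend hc (P := P) (Q := Q) (fun s hs hsn => hP.1 s hsn hs) 0 t).symm.trans
    ((ht.symm.trans ht').trans (uProd_extend hc (Q := Q) (fun _ hs _ => hs) r t'))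
  have h1 := uProd_inj hc (P := Q) (fun s _ hs => hs) 0 e r (mem_rootsFrom.2 ⟨Nat.zero_le _, hr, hrp⟩)
  simp only [hPr, false_and, if_false, hrp, le_refl, and_self, if_true] at h1
  rw [rootsFrom_eq_cons hr hrp, uProd, List.map_cons, List.prod_cons] at ht'
  obtain ⟨j, hj⟩ := exists_cv_ne_zero hc F hr
  have hv : uProd D F (rootsFrom D Q (r + 1)) t' ∈ uGen D F (fun s => r < s) :=
    uGen_mono (fun s _ hs => hs.2) (uProd_mem hc (r + 1) t')
  have c1 := coord_eq hc hr hrp (1 : F) hk j
  have c2 := coord_eq hc hr hrp (t' r) hv j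
  simp only [hQ, hrp, and_self, if_true] at h1
  erw [ht', c2, ← h1, mul_zero, mul_one] at c1
  exact hj c1.symm

/-- an element commuting with the root elements with coefficient one is trivial -/
theorem eq_one_of_commute {g : GL D.Idx F} (hg : g ∈ D.group F)
    (h : ∀ r < D.nroots, g * elX D F r 1 = elX D F r 1 * g) : g = 1 := by
  have hgB : g ∈ D.borelSubgroup F := by
    obtain ⟨L, u, d, v, hu, hd, hv, rfl⟩ := ChevField.exists_bruhat hc hcomm hg
    have hvp : v ∈ uGen D F (fun r => D.nroots / 2 ≤ r) := uGen_mono (fun r _ hP => hP.1) hv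
    have hub : u * d ∈ D.borelSubgroup F := mul_mem (pos_le_borel hc hu) (diagonal_le_borel hc hd)
    refine mul_mem (mul_mem hub (diagonal_le_borel hc (nProd_mem_of_pos hc L fun i => ?_))) (pos_le_borel hc hvp)
    by_contra hneg
    push Not at hneg
    have hi := simple_lt hc i.2
    have hip := half_le_simple hc i.2
    set a := D.simple i.val
    have hlead := pos_conj_lead hc hcomm hi hip hvp (1 : F)
    set y := v * elX D F a 1 * v⁻¹
    have hyp : y ∈ uGen D F (fun r => D.nroots / 2 ≤ r) :=
      mul_mem (mul_mem hvp (elX_mem_uGen hi (P := fun r => D.nroots / 2 ≤ r) hip 1)) (inv_mem hvp)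
    have hyB : nProd D F L * y * (nProd D F L)⁻¹ ∈ D.borelSubgroup F := by
      have := mul_mem (mul_mem (inv_mem hub) (elX_mem_borel hc hi hip (1 : F))) hub
      convert this using 1
      have e := congrArg (fun x => (u * d)⁻¹ * x * (nProd D F L * v)⁻¹) (h a hi)
      simp only [y] at e ⊢
      refine Eq.trans ?_ (e.trans ?_) <;> group
    obtain ⟨p, hp, q, hq, hpq⟩ := uGen_split hc hcomm (closedPos_pos hc)
      (Q := KeepRoot D T L) (R := Flip D T L)
      (fun r _ hr => by
        rcases Nat.lt_or_ge (sigs D T L r) (D.nroots / 2) with g | g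
        · exact Or.inr ⟨hr, g⟩
        · exact Or.inl ⟨hr, g⟩) hyp
    have hpn : nProd D F L * p * (nProd D F L)⁻¹ ∈ D.borelSubgroup F :=
      pos_le_borel hc (nProd_conj_uGen hc L (fun r _ hP => hP.2) hp)
    have hqn : nProd D F L * q * (nProd D F L)⁻¹ ∈ uGen D F (fun r => r < D.nroots / 2) :=
      nProd_conj_uGen hc L (fun r _ hP => hP.2) hq
    have hq1 : nProd D F L * q * (nProd D F L)⁻¹ = 1 := by
      refine borel_inf_neg hc ?_ hqn
      have := mul_mem (inv_mem hpn) hyB
      rw [hpq] at this
      convert this using 1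
      group
    rw [conj_eq_one_iff.1 hq1, mul_one] at hpq
    have hy : elX D F a 1 * ((elX D F a 1)⁻¹ * y) ∈ uGen D F (KeepRoot D T L) := by
      rw [mul_inv_cancel_left, hpq]; exact hp
    have := (lead_mem_closed hc hcomm hi hip (closedPos_keep hc L) hlead hy).2
    omega
  obtain ⟨Lw, hLw⟩ := exists_longest hc
  have hn : g * nProd D F Lw = nProd D F Lw * g := by
    have hC : nProd D F Lw ∈ Subgroup.centralizer ({g} : Set (GL D.Idx F)) := by
      refine Subgroup.list_prod_mem _ fun x hx => ?_
      obtain ⟨i, -, rfl⟩ := List.mem_map.1 hx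
      have hm : ∀ r < D.nroots, elX D F r 1 ∈ Subgroup.centralizer ({g} : Set (GL D.Idx F)) := fun r hr =>
        Subgroup.mem_centralizer_singleton_iff.2 (h r hr).symm
      have hp := simple_lt hc i.2
      have hpn := hm _ (neg_lt hc hp)
      rw [elN, inv_one]
      refine mul_mem (mul_mem (hm _ hp) ?_) (hm _ hp)
      have := inv_mem hpn
      rwa [elX_inv hc F (neg_lt hc hp)] at this
    exact (Subgroup.mem_centralizer_singleton_iff.1 hC).symm
  have hgH : g ∈ D.diagonalSubgroup F := by
    refine borel_inf_negH hc hgB ?_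
    obtain ⟨u, hu, d, hd, rfl⟩ := (mem_borel hc).1 hgB
    have e : u * d = (nProd D F Lw * u * (nProd D F Lw)⁻¹) * (nProd D F Lw * d * (nProd D F Lw)⁻¹) := by
      calc u * d = nProd D F Lw * (u * d) * (nProd D F Lw)⁻¹ := by rw [← hn, mul_inv_cancel_right]
        _ = _ := by group
    rw [e]
    exact Subgroup.mul_mem_sup (nProd_conj_uGen hc Lw (fun r hr hP => hLw r hr hP) hu) (nProd_conj_diagonal hc Lw hd)
  obtain ⟨x, rfl⟩ := (mem_diagonal hc).1 hgH
  have : hPar D F x = 1 := by
    funext i
    have hi := simple_lt hc i.2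
    have e := torus_conj_elX hc (hPar D F x) hi (1 : F)
    rw [h _ hi, mul_inv_cancel_right, rv_simple hc, chi_single, zpow_one, mul_one] at e
    refine Units.ext ?_
    show (hPar D F x i : F) = 1
    have h2 : elX D F (D.simple i) ((hPar D F x i : F) - 1) = 1 := by
      rw [sub_eq_add_neg, ← elX_add hc F hi, ← e, elX_add hc F hi, add_neg_cancel, elX_zero hc F hi]
    exact sub_eq_zero.1 ((elX_eq_one_iff hc hi _).1 h2)
  rw [this, map_one]

/-- the normaliser of a group between the subfield root elements and the fixed points of a field endomorphism -/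
theorem normalizer_iff_fixed (σ : F →+* F) {K : Subgroup (GL D.Idx F)} (hKG : K ≤ D.group F)
    (hroot : ∀ r < D.nroots, ∀ a : F, σ a = a → elX D F r a ∈ K) (hfix : ∀ g ∈ K, glMap D σ g = g)
    {g : GL D.Idx F} (hg : g ∈ D.group F) :
    g ∈ Subgroup.normalizer (K : Set (GL D.Idx F)) ↔ glMap D σ g = g := by
  constructor
  · intro hn
    have h1 : g⁻¹ * glMap D σ g = 1 := by
      refine eq_one_of_commute hc hcomm (mul_mem (inv_mem hg) (glMap_group hc σ hg)) fun r hr => ?_
      have hk := hroot r hr 1 (map_one σ)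
      have hgk := (Subgroup.mem_normalizer_iff.1 hn _).1 hk
      have e := hfix _ hgk
      rw [map_mul, map_mul, map_inv, hfix _ hk] at e
      have e' := congrArg (fun y => g⁻¹ * y * glMap D σ g) e
      refine Eq.trans ?_ (e'.trans ?_) <;> group
    exact (inv_mul_eq_one.1 h1).symm
  · intro hσ
    have hU : ∀ u ∈ uGen D F (fun r => D.nroots / 2 ≤ r), glMap D σ u = u → u ∈ K := by
      intro u hu hσu
      obtain ⟨t, rfl⟩ := uGen_exists hc hcomm (closedPos_pos hc) hu
      set R := rootsFrom D (fun r => D.nroots / 2 ≤ r) 0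
      have hmap : glMap D σ (uProd D F R t) = uProd D F R (fun r => σ (t r)) := by
        rw [uProd, uProd, map_list_prod, List.map_map]
        exact congrArg List.prod (List.map_congr_left fun r hr => glMap_elX hc σ (mem_rootsFrom.1 hr).2.1 (t r))
      rw [hmap] at hσu
      have hfx := uProd_inj hc (fun r _ h => h) 0 hσu
      refine Subgroup.list_prod_mem _ fun x hx => ?_
      obtain ⟨r, hr, rfl⟩ := List.mem_map.1 hx
      exact hroot r (mem_rootsFrom.1 hr).2.1 _ (hfx r hr)
    have hN : ∀ L, nProd D F L ∈ K := fun L => by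
      refine Subgroup.list_prod_mem _ fun x hx => ?_
      obtain ⟨i, -, rfl⟩ := List.mem_map.1 hx
      have hp := simple_lt hc i.2
      rw [elN, inv_one]
      exact mul_mem (mul_mem (hroot _ hp _ (map_one σ)) (hroot _ (neg_lt hc hp) _ (by rw [map_neg, map_one])))
        (hroot _ hp _ (map_one σ))
    have key : ∀ {g : GL D.Idx F}, g ∈ D.group F → glMap D σ g = g →
        ∃ a ∈ K, ∃ d ∈ D.diagonalSubgroup F, ∃ b ∈ K, glMap D σ d = d ∧ g = a * d * b ∧
          ∃ L, ∃ u ∈ uGen D F (fun r => D.nroots / 2 ≤ r), ∃ v ∈ uGen D F (fun r => D.nroots / 2 ≤ r),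
            a = u ∧ b = nProd D F L * v ∧ glMap D σ u = u ∧ glMap D σ v = v := by
      intro g hg hσ
      obtain ⟨L, u, d, v, hu, hd, hv, rfl⟩ := ChevField.exists_bruhat hc hcomm hg
      rw [map_mul, map_mul, map_mul, glMap_nProd hc] at hσ
      obtain ⟨h1, h2, h3⟩ := ChevField.bruhat_unique hc hcomm (glMap_uGen hc σ hu) hu (glMap_diagonal hc σ hd) hd
        (glMap_uGen hc σ hv) hv hσ
      have hvp : v ∈ uGen D F (fun r => D.nroots / 2 ≤ r) := uGen_mono (fun r _ hP => hP.1) hv
      exact ⟨u, hU u hu h1, d, hd, nProd D F L * v, mul_mem (hN L) (hU v hvp h3), h2, by group,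
        L, u, hu, v, hvp, rfl, rfl, h1, h3⟩
    have hH : ∀ d ∈ D.diagonalSubgroup F, glMap D σ d = d → ∀ k ∈ K, d * k * d⁻¹ ∈ K := by
      intro d hd hσd k hk
      have hUd : ∀ u ∈ uGen D F (fun r => D.nroots / 2 ≤ r), glMap D σ u = u → d * u * d⁻¹ ∈ K := fun u hu hu' =>
        hU _ (diag_conj_mem hc _ hd hu) (by rw [map_mul, map_mul, map_inv, hσd, hu'])
      have hNd : ∀ L, d * nProd D F L * d⁻¹ ∈ K := by
        intro L
        induction L with
        | nil => simp
        | cons i L ih =>
          rw [nProd_cons, show ∀ a b : GL D.Idx F, d * (a * b) * d⁻¹ = (d * a * d⁻¹) * (d * b * d⁻¹) from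
            fun a b => by group]
          refine mul_mem ?_ ih
          have hp := simple_lt hc i.2
          have hgen : ∀ r < D.nroots, ∀ a : F, σ a = a → d * elX D F r a * d⁻¹ ∈ K := by
            intro r hr a ha
            obtain ⟨c, hcd⟩ := diagonal_conj_elX hc hd hr
            rw [hcd]
            refine hroot r hr _ ?_
            have e := congrArg (glMap D σ) (hcd a)
            rw [map_mul, map_mul, map_inv, hσd, glMap_elX hc σ hr, glMap_elX hc σ hr, ha, hcd] at e
            have h2 : elX D F r (σ ((c : F) * a) - (c : F) * a) = 1 := by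
              rw [sub_eq_add_neg, ← elX_add hc F hr, ← e, elX_add hc F hr, add_neg_cancel, elX_zero hc F hr]
            exact sub_eq_zero.1 ((elX_eq_one_iff hc hr _).1 h2)
          rw [elN, inv_one, show ∀ a b e : GL D.Idx F, d * (a * b * e) * d⁻¹
            = (d * a * d⁻¹) * (d * b * d⁻¹) * (d * e * d⁻¹) from fun a b e => by group]
          exact mul_mem (mul_mem (hgen _ hp _ (map_one σ)) (hgen _ (neg_lt hc hp) _ (by rw [map_neg, map_one])))
            (hgen _ hp _ (map_one σ))
      obtain ⟨a, ha, d', hd', b, hb, -, rfl, L, u, hu, v, hv, rfl, rfl, hu', hv'⟩ := key (hKG hk) (hfix _ hk)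
      have hd'K : d' ∈ K := by
        have := mul_mem (mul_mem (inv_mem ha) hk) (inv_mem hb)
        convert this using 1
        group
      have hcd : d * d' * d⁻¹ = d' := by
        obtain ⟨x, rfl⟩ := (mem_diagonal hc).1 hd
        obtain ⟨y, rfl⟩ := (mem_diagonal hc).1 hd'
        rw [← map_inv, ← map_mul, ← map_mul, mul_comm (hPar D F x), mul_inv_cancel_right]
      rw [show d * (a * d' * (nProd D F L * v)) * d⁻¹
        = (d * a * d⁻¹) * (d * d' * d⁻¹) * ((d * nProd D F L * d⁻¹) * (d * v * d⁻¹)) by group, hcd]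
      exact mul_mem (mul_mem (hUd _ hu hu') hd'K) (mul_mem (hNd L) (hUd v hv hv'))
    obtain ⟨a, ha, d, hd, b, hb, hσd, rfl, -⟩ := key hg hσ
    have hdn : d ∈ Subgroup.normalizer (K : Set (GL D.Idx F)) := by
      refine Subgroup.mem_normalizer_iff.2 fun k => ⟨hH d hd hσd k, fun hk => ?_⟩
      have := hH d⁻¹ (inv_mem hd) (by rw [map_inv, hσd]) _ hk
      convert this using 1
      group
    exact mul_mem (mul_mem (Subgroup.le_normalizer ha) hdn) (Subgroup.le_normalizer hb)

end

end CfsgLib.ChevCent
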