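import Cfsg.Agent.Lib.ChevCent.WeylAct
import Cfsg.Agent.Lib.ChevField.Descent
import Cfsg.Agent.Lib.ChevField.Bruhat
import Mathlib.GroupTheory.Sylow
import Mathlib.FieldTheory.Finite.Extension

/-!
# Sylow subgroups for primes not dividing the Weyl group order are homocyclic

Over the field with `q^d` elements the `r`-part of the split torus is a Sylow subgroup, so a Sylow subgroup of the
group over the small field is conjugate there to a subgroup of it, on which the Frobenius map is a Weyl element.  By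
maximality it is the fixed group of a group of automorphisms of order prime to `r`, hence homocyclic.
-/

set_option autoImplicit false
set_option linter.unusedSectionVars false

namespace CfsgLib.ChevCent

open Cfsg.Lie CfsgLib.Chev CfsgLib.ChevField

variable {D : ChevalleyDatum} {T : Tabs} {F E : Type*} [Field F] [Field E]

theorem pow_val_mul {G : Type*} [Group G] {m : ℕ} (s t : (ZMod m)ˣ) {x : G} (hx : x ^ m = 1) :
    (x ^ (s : ZMod m).val) ^ (t : ZMod m).val = x ^ ((s * t : (ZMod m)ˣ) : ZMod m).val := by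
  rw [← pow_mul, Units.val_mul, ZMod.val_mul]
  exact pow_eq_pow_mod _ hx

theorem eq_of_pow_coprime {G : Type*} [Monoid G] {m n : ℕ} {x : G} (h : x ^ n = 1) (hm : x ^ m = 1)
    (hco : Nat.Coprime n m) : x = 1 := by
  have h1 := orderOf_dvd_of_pow_eq_one h
  have h2 := orderOf_dvd_of_pow_eq_one hm
  exact orderOf_eq_one_iff.1 (Nat.eq_one_of_dvd_coprimes hco h1 h2)

/-- roots of a cyclic group of units -/
theorem exists_root [Finite E] {r k : ℕ} (hr : r.Prime) (hk : 1 ≤ k) (hm : r ^ k ∣ Nat.card Eˣ) {x : Eˣ}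
    (hx : x ^ r = 1) : ∃ z : Eˣ, z ^ r ^ (k - 1) = x := by
  obtain ⟨g, hg⟩ := IsCyclic.exists_generator (α := Eˣ)
  obtain ⟨j, rfl⟩ := mem_powers_iff_mem_zpowers.2 (hg x)
  have hdvd : Nat.card Eˣ ∣ j * r := by
    rw [← orderOf_eq_card_of_forall_mem_zpowers hg]
    exact orderOf_dvd_of_pow_eq_one (by rw [pow_mul]; exact hx)
  have h1 : r ^ (k - 1) * r ∣ j * r := by
    rw [← pow_succ, show k - 1 + 1 = k by omega]
    exact hm.trans hdvd
  obtain ⟨i, hi⟩ := Nat.dvd_of_mul_dvd_mul_right hr.pos h1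
  exact ⟨g ^ i, by rw [← pow_mul, mul_comm, ← hi]⟩

section
variable (hc : Checked D T) (hcomm : CommOne D T)
include hc

theorem hPar_pow_of_adj {N : Fin D.rank → Fin D.rank → ℤ} {dd : ℕ}
    (hN : ∀ i j, ∑ k, N i k * cm D k j = if i = j then (dd : ℤ) else 0) (χ : Fin D.rank → Fˣ) :
    hPar D F (fun i => ∏ k, χ k ^ N k i) = χ ^ dd := by
  funext j
  show ∏ i, (∏ k, χ k ^ N k i) ^ cm D i j = χ j ^ dd
  simp only [← Finset.prod_zpow, ← zpow_mul]
  rw [Finset.prod_comm]
  simp only [prod_zpow_sum]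
  rw [Finset.prod_eq_single j]
  · rw [hN j j, if_pos rfl, zpow_natCast]
  · intro k _ hk; rw [hN k j, if_neg hk, zpow_zero]
  · simp

theorem torus_normalizes_group (χ : Fin D.rank → Fˣ) {g : GL D.Idx F} (hg : g ∈ D.group F) :
    torus D T F χ * g * (torus D T F χ)⁻¹ ∈ D.group F := by
  rw [group_eq hc] at hg ⊢
  induction hg using Subgroup.closure_induction with
  | mem x hx =>
    obtain ⟨r, t, hr, hP, rfl⟩ := hx
    rw [torus_conj_elX hc χ hr t]
    exact elX_mem_uGen hr hP _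
  | one => simp
  | mul x y _ _ hx hy =>
    rw [show torus D T F χ * (x * y) * (torus D T F χ)⁻¹
      = torus D T F χ * x * (torus D T F χ)⁻¹ * (torus D T F χ * y * (torus D T F χ)⁻¹) by group]
    exact mul_mem hx hy
  | inv x _ hx =>
    rw [show torus D T F χ * x⁻¹ * (torus D T F χ)⁻¹ = (torus D T F χ * x * (torus D T F χ)⁻¹)⁻¹ by group]
    exact inv_mem hx

include hcomm

/-- a positive unipotent element commuting with torus elements is built from roots trivial on them -/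
theorem supp_of_commute (A : Set (Fin D.rank → Eˣ)) {u : GL D.Idx E}
    (hu : u ∈ uGen D E (fun s => D.nroots / 2 ≤ s))
    (h : ∀ a ∈ A, torus D T E a * u * (torus D T E a)⁻¹ = u) :
    u ∈ uGen D E (fun s => ∀ a ∈ A, chi a (rv D T s) = 1) := by
  classical
  obtain ⟨t, rfl⟩ := uGen_exists hc hcomm (closedPos_pos hc) hu
  set R := rootsFrom D (fun s => D.nroots / 2 ≤ s) 0
  refine Subgroup.list_prod_mem _ fun x hx => ?_
  obtain ⟨s, hs, rfl⟩ := List.mem_map.1 hx
  have hsn := (mem_rootsFrom.1 hs).2.1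
  by_cases ht : t s = 0
  · rw [ht, elX_zero hc E hsn]; exact one_mem _
  refine elX_mem_uGen hsn (P := fun s => ∀ a ∈ A, chi a (rv D T s) = 1) (fun a ha => ?_) _
  have hmap : torus D T E a * uProd D E R t * (torus D T E a)⁻¹
      = uProd D E R (fun s => (chi a (rv D T s) : E) * t s) := by
    rw [← MulAut.conj_apply, uProd, uProd, map_list_prod, List.map_map]
    refine congrArg List.prod (List.map_congr_left fun i hi => ?_)
    exact torus_conj_elX hc a (mem_rootsFrom.1 hi).2.1 (t i)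
  have e := h a ha
  rw [hmap] at e
  have h1 : (chi a (rv D T s) : E) * t s = t s := uProd_inj hc (fun r _ h => h) 0 e s hs
  exact Units.ext (mul_right_cancel₀ ht (h1.trans (one_mul _).symm))

/-- an element of `r`-power order fixed by the field automorphism is defined over the small field -/
theorem fixed_descent' (ι : F →+* E) (σ : E →+* E) (hfix : ∀ a, σ a = a → a ∈ Set.range ι)
    {N : Fin D.rank → Fin D.rank → ℤ} {dd : ℕ}
    (hN : ∀ i j, ∑ k, N i k * cm D k j = if i = j then (dd : ℤ) else 0) {m : ℕ} (hdd : Nat.Coprime dd m)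
    {g : GL D.Idx E} (hg : g ∈ D.group E) (hgm : g ^ m = 1) (hσ : glMap D σ g = g) :
    g ∈ (D.group F).map (glMap D ι) := by
  set K := (D.group F).map (glMap D ι)
  obtain ⟨L, u, h, v, hu, hh, hv, e⟩ := ChevField.exists_bruhat hc hcomm hg
  have hσ' := hσ
  rw [e, map_mul, map_mul, map_mul, glMap_nProd hc] at hσ'
  obtain ⟨hu', hh', hv'⟩ := ChevField.bruhat_unique hc hcomm (glMap_uGen hc σ hu) hu (glMap_diagonal hc σ hh) hh
    (glMap_uGen hc σ hv) hv hσ'
  have huK := pos_descent hc hcomm ι σ hfix hu hu'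
  have hvK := pos_descent hc hcomm ι σ hfix (uGen_mono (fun r _ hP => hP.1) hv) hv'
  have hnK : nProd D E L ∈ K := ⟨nProd D F L, monomial_le_group hc (nProd_mem_monomial hc L), glMap_nProd hc ι L⟩
  obtain ⟨c, rfl⟩ := (mem_diagonal hc).1 hh
  choose χ₀ hχ₀ using fun j => hfix _ (torus_fixed hc hh' j)
  have hne : ∀ j, χ₀ j ≠ 0 := fun j h0 => (hPar D E c j).ne_zero (by rw [← hχ₀ j, h0, map_zero])
  set χ : Fin D.rank → Fˣ := fun j => Units.mk0 (χ₀ j) (hne j)
  have hH : torus D T E (hPar D E c) = glMap D ι (torus D T F χ) := by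
    rw [glMap_torus]
    congr 1
    funext j
    exact Units.ext (hχ₀ j).symm
  set H := torus D T E (hPar D E c)
  have hnorm : ∀ k ∈ K, H * k * H⁻¹ ∈ K := by
    rintro _ ⟨k, hk, rfl⟩
    exact ⟨_, torus_normalizes_group hc χ hk, by rw [hH, map_mul, map_mul, map_inv]⟩
  have hHd : H ^ dd ∈ K := by
    refine ⟨torus D T F (χ ^ dd), ?_, by rw [map_pow, map_pow, hH]⟩
    rw [← hPar_pow_of_adj hc hN]
    exact diagonal_le_group hc ((mem_diagonal hc).2 ⟨_, rfl⟩)
  have hgK : ∃ k ∈ K, g = k * H := by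
    refine ⟨u * (H * (nProd D E L * v) * H⁻¹), mul_mem huK (hnorm _ (mul_mem hnK hvK)), ?_⟩
    rw [e]; group
  obtain ⟨k, hk, ek⟩ := hgK
  have hpow : ∀ j : ℕ, ∃ k' ∈ K, g ^ j = k' * H ^ j := by
    intro j
    induction j with
    | zero => exact ⟨1, one_mem _, by simp⟩
    | succ j ih =>
      obtain ⟨k', hk', e'⟩ := ih
      refine ⟨k * (H * k' * H⁻¹), mul_mem hk (hnorm _ hk'), ?_⟩
      rw [pow_succ', e', pow_succ', ek]; group
  obtain ⟨k', hk', e'⟩ := hpow dd
  have hgd : g ^ dd ∈ K := e' ▸ mul_mem hk' hHd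
  rcases Nat.lt_or_ge 1 m with hm | hm
  · obtain ⟨N', -, hN'⟩ := Nat.exists_mul_mod_eq_one_of_coprime hdd hm
    have : g = (g ^ dd) ^ N' := by
      rw [← pow_mul, pow_eq_pow_mod _ hgm, hN', pow_one]
    exact this ▸ pow_mem hgd N'
  · rcases Nat.le_one_iff_eq_zero_or_eq_one.1 hm with rfl | rfl
    · rw [Nat.coprime_zero_right] at hdd
      rw [hdd, pow_one] at hgd; exact hgd
    · rw [pow_one] at hgm; exact hgm ▸ one_mem _

/-- an element raising a family of torus elements to the power `q` does so through a Weyl element, on every torus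
element fixed by the same Weyl element and killed by the roots trivial on the family -/
theorem twist_weyl {q m : ℕ} (hco : Nat.Coprime q m) (A : Set (Fin D.rank → Eˣ))
    (hAd : ∀ y ∈ A, torus D T E y ∈ D.diagonalSubgroup E) (hAm : ∀ y ∈ A, y ^ m = 1) {c : GL D.Idx E}
    (hcG : c ∈ D.group E) (hcA : ∀ y ∈ A, c * torus D T E y * c⁻¹ = torus D T E (y ^ q)) :
    ∃ L : List (Fin D.rank), (∀ y ∈ A, reflChars L y = y ^ q) ∧ ∀ x : Fin D.rank → Eˣ, reflChars L x = x ^ q →
      (∀ s, s < D.nroots → (∀ y ∈ A, chi y (rv D T s) = 1) → chi x (rv D T s) = 1) →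
        c * torus D T E x * c⁻¹ = torus D T E (x ^ q) := by
  obtain ⟨L, u, h, v, hu, hh, hv, hceq⟩ := ChevField.exists_bruhat hc hcomm hcG
  obtain ⟨hp, rfl⟩ := (mem_diagonal hc).1 hh
  set n := nProd D E L with hn
  set H := torus D T E (hPar D E hp) with hH
  have hkey : ∀ y ∈ A, torus D T E (y ^ q) * u * (torus D T E (y ^ q))⁻¹ = u ∧ reflChars L y = y ^ q ∧
      torus D T E y * v * (torus D T E y)⁻¹ = v := by
    intro y hy
    set ty := torus D T E y with hty
    set tq := torus D T E (y ^ q) with htq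
    set tw := torus D T E (reflChars L y) with htw
    have hdy : ty ∈ D.diagonalSubgroup E := hAd y hy
    have hdq : tq ∈ D.diagonalSubgroup E := by rw [htq, map_pow]; exact pow_mem hdy q
    have hcon : n * ty * n⁻¹ = tw := nProd_conj_torus hc L y
    have hdw : tw ∈ D.diagonalSubgroup E := hcon ▸ nProd_conj_diagonal hc L hdy
    have h2 : u * H * n * v * ty = tq * (u * H * n * v) := by
      rw [← hceq]
      calc c * ty = c * ty * c⁻¹ * c := by group
        _ = tq * c := by rw [hcA y hy]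
    have h1 : u * (H * tw) * n * (ty⁻¹ * v * ty) = tq * u * tq⁻¹ * (tq * H) * n * v := by
      calc u * (H * tw) * n * (ty⁻¹ * v * ty) = u * H * n * v * ty := by rw [← hcon]; group
        _ = _ := by rw [h2]; group
    obtain ⟨e1, e2, e3⟩ := ChevField.bruhat_unique hc hcomm hu (diag_conj_mem hc _ hdq hu)
      (mul_mem hh hdw) (mul_mem hdq hh) (diag_conj_mem' hc _ hdy hv) hv h1
    refine ⟨e1.symm, torus_injective hc ?_, ?_⟩
    · show tw = tq
      have hcm : tq * H = H * tq := by rw [htq, hH, ← map_mul, ← map_mul, mul_comm]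
      rw [hcm] at e2
      exact mul_left_cancel e2
    · calc ty * v * ty⁻¹ = ty * (ty⁻¹ * v * ty) * ty⁻¹ := by rw [e3]
        _ = v := by group
  refine ⟨L, fun y hy => (hkey y hy).2.1, fun x hxL hxs => ?_⟩
  have hv' := supp_of_commute hc hcomm A (uGen_mono (fun s _ hs => hs.1) hv) fun y hy => (hkey y hy).2.2
  have hu' : u ∈ uGen D E (fun s => ∀ y ∈ A, chi y (rv D T s) = 1) := by
    refine uGen_mono (fun s hs h1 y hy => ?_)
      (supp_of_commute hc hcomm ((fun y => y ^ q) '' A) hu (by rintro _ ⟨y, hy, rfl⟩; exact (hkey y hy).1))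
    have h2 := h1 _ ⟨y, hy, rfl⟩
    rw [chi_pow'] at h2
    exact eq_of_pow_coprime h2 (by rw [← chi_pow', hAm y hy, chi_one]) hco
  have hcentr : ∀ z : Fin D.rank → Eˣ, (∀ s, s < D.nroots → (∀ y ∈ A, chi y (rv D T s) = 1) →
      chi z (rv D T s) = 1) → ∀ w ∈ uGen D E (fun s => ∀ y ∈ A, chi y (rv D T s) = 1),
      w * torus D T E z = torus D T E z * w := by
    intro z hz w hw
    have hle : uGen D E (fun s => ∀ y ∈ A, chi y (rv D T s) = 1) ≤ Subgroup.centralizer {torus D T E z} := by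
      refine uGen_le_iff.2 fun s hs hA t => Subgroup.mem_centralizer_singleton_iff.2 ?_
      have h1 := torus_conj_elX hc z hs t
      rw [hz s hs hA, Units.val_one, one_mul] at h1
      conv_lhs => rw [← h1]
      group
    exact Subgroup.mem_centralizer_singleton_iff.1 (hle hw)
  have e1 := hcentr x hxs v hv'
  have e2 := hcentr (x ^ q) (fun s hs hA => by rw [chi_pow', hxs s hs hA, one_pow]) u hu'
  set tx := torus D T E x with htx
  set txq := torus D T E (x ^ q) with htxq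
  have e3 : n * tx * n⁻¹ = txq := by rw [hn, htx, nProd_conj_torus hc, hxL]
  have e4 : H * txq = txq * H := by rw [hH, htxq, ← map_mul, ← map_mul, mul_comm]
  rw [hceq]
  calc u * H * n * v * tx * (u * H * n * v)⁻¹ = u * H * n * (v * tx) * v⁻¹ * n⁻¹ * H⁻¹ * u⁻¹ := by group
    _ = u * H * (n * tx * n⁻¹) * H⁻¹ * u⁻¹ := by rw [e1]; group
    _ = u * (H * txq) * H⁻¹ * u⁻¹ := by rw [e3]; group
    _ = u * txq * u⁻¹ := by rw [e4]; group
    _ = txq := by rw [e2]; group

/-- core of the theorem, with the extension field given -/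
theorem sylow_homocyclic_core [Fintype F] [Fintype E] (ι : F →+* E) (σ : E →+* E)
    (hfix : ∀ a, σ a = a ↔ a ∈ Set.range ι) {q d : ℕ} (hσ : ∀ a, σ a = a ^ q)
    (hE : Fintype.card E = q ^ d) {r : ℕ} [Fact r.Prime] (hr2 : r ≠ 2) (hrq : ¬ r ∣ q) (hqd : ¬ r ∣ d)
    {N : Fin D.rank → Fin D.rank → ℤ} {dd : ℕ}
    (hN : ∀ i j, ∑ k, N i k * cm D k j = if i = j then (dd : ℤ) else 0) (hdd : ¬ r ∣ dd)
    {J : List (Fin D.rank)} (hJ : ∀ i, i ∈ J) (hW : ¬ r ∣ wsum hc J 1) {k : ℕ} (hk : 1 ≤ k) {e : ℕ}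
    (hm : q ^ d - 1 = r ^ k * e) (he : ¬ r ∣ e)
    (P : Sylow r ↥(D.group F)) {a : ℕ} (hP : Nat.card ↥(P : Subgroup ↥(D.group F)) = (r ^ k) ^ a) :
    Nonempty (↥(P : Subgroup ↥(D.group F)) ≃* (Fin a → Multiplicative (ZMod (r ^ k)))) := by
  classical
  have hr := (Fact.out : r.Prime)
  set m := r ^ k with hm_def
  have hm1 : 1 < m := Nat.one_lt_pow (by omega) hr.one_lt
  haveI : NeZero m := ⟨by omega⟩
  have hcop : ∀ {n : ℕ}, ¬ r ∣ n → Nat.Coprime n m := fun h =>
    ((hr.coprime_iff_not_dvd.2 h).symm).pow_right k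
  have hq2 : 1 ≤ q ^ d := hE ▸ Fintype.card_pos
  have hcardU : Nat.card Eˣ = m * e := by
    rw [Nat.card_units, Nat.card_eq_fintype_card, hE, hm]
  -- the exponent-`m` part of the split torus
  let S : Subgroup (Fin D.rank → Eˣ) := (powMonoidHom m).ker
  have hS : ∀ x, x ∈ S ↔ x ^ m = 1 := fun _ => Iff.rfl
  have hdiag : ∀ x ∈ S, torus D T E x ∈ D.diagonalSubgroup E := by
    intro x hx
    obtain ⟨N', -, hN'⟩ := Nat.exists_mul_mod_eq_one_of_coprime (hcop hdd) hm1
    refine (mem_diagonal hc).2 ⟨(fun i => ∏ l, x l ^ N l i) ^ N', ?_⟩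
    rw [map_pow, hPar_pow_of_adj hc hN, ← pow_mul, pow_eq_pow_mod _ ((hS x).1 hx), hN', pow_one]
  let φ : ↥S →* ↥(D.group E) :=
    ((torus D T E).comp S.subtype).codRestrict _ fun x => diagonal_le_group hc (hdiag x x.2)
  have hφ : Function.Injective φ := fun x y h => Subtype.ext (torus_injective hc (congrArg Subtype.val h :))
  have hcardS : Nat.card ↥S = m ^ D.rank := by
    let M0 : Subgroup Eˣ := (powMonoidHom m).ker
    let eqv : ↥S ≃ (Fin D.rank → ↥M0) :=
      { toFun := fun x i => ⟨x.1 i, congrFun x.2 i⟩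
        invFun := fun f => ⟨fun i => (f i).1, funext fun i => (f i).2⟩
        left_inv := fun _ => rfl
        right_inv := fun _ => rfl }
    rw [Nat.card_congr eqv, Nat.card_fun, Nat.card_fin]
    congr 1
    rw [IsCyclic.card_powMonoidHom_ker, hcardU, Nat.gcd_comm, Nat.gcd_eq_left (dvd_mul_right m e)]
  have hT : IsPGroup r φ.range := fun x => by
    obtain ⟨y, hy⟩ := x.2
    refine ⟨k, Subtype.ext ?_⟩
    rw [SubmonoidClass.coe_pow, ← hy, ← map_pow, ← hm_def,
      show y ^ m = 1 from Subtype.ext ((hS y.1).1 y.2), map_one, OneMemClass.coe_one]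
  have hTi : ¬ r ∣ φ.range.index := by
    have hcG := card_group hc (F := E) hcomm hJ
    rw [hE] at hcG
    have hH : Nat.card ↥(D.diagonalSubgroup E) ∣ (m * e) ^ D.rank := by
      rw [diagonalSubgroup_eq hc, ← hcardU]
      refine (Subgroup.card_range_dvd _).trans ?_
      rw [Nat.card_fun, Nat.card_fin]
    have h1 := Subgroup.card_mul_index φ.range
    rw [Nat.card_congr (MonoidHom.ofInjective hφ).symm.toEquiv, hcardS, hcG] at h1
    have h2 : φ.range.index ∣ (q ^ d) ^ (D.nroots / 2) * e ^ D.rank * wsum hc J (q ^ d) := by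
      refine (Nat.mul_dvd_mul_iff_left (pow_pos (by omega : 0 < m) D.rank)).1 ?_
      rw [h1]
      refine (Nat.mul_dvd_mul_right (Nat.mul_dvd_mul_left _ hH) _).trans (dvd_of_eq ?_)
      rw [mul_pow]; ring
    intro hd'
    rcases hr.dvd_mul.1 (hd'.trans h2) with h | h
    · rcases hr.dvd_mul.1 h with h | h
      · exact hrq (hr.dvd_of_dvd_pow (hr.dvd_of_dvd_pow h))
      · exact he (hr.dvd_of_dvd_pow h)
    · refine hW ((ZMod.natCast_eq_zero_iff _ r).1 ?_)
      have hQ1 : ((q ^ d : ℕ) : ZMod r) = 1 := by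
        have h3 : q ^ d = r * (r ^ (k - 1) * e) + 1 := by
          rw [← mul_assoc, ← pow_succ', show k - 1 + 1 = k by omega, ← hm]; omega
        rw [h3]; simp
      have h4 : ((wsum hc J (q ^ d) : ℕ) : ZMod r) = ((wsum hc J 1 : ℕ) : ZMod r) := by
        simp only [wsum, Nat.cast_sum, Nat.cast_pow, ← Nat.cast_pow q d, hQ1, Nat.cast_one]
      rw [← h4, ZMod.natCast_eq_zero_iff]; exact h
  let Tr := hT.toSylow hTi
  -- conjugating the Sylow subgroup into the torus
  let ψ : ↥(P : Subgroup ↥(D.group F)) →* ↥(D.group E) :=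
    (((glMap D ι).comp (D.group F).subtype).codRestrict (D.group E) fun x => glMap_group hc ι x.2).comp
      (P : Subgroup ↥(D.group F)).subtype
  have hψ : IsPGroup r ψ.range := P.isPGroup'.of_surjective ψ.rangeRestrict ψ.rangeRestrict_surjective
  obtain ⟨Q, hQ⟩ := hψ.exists_le_sylow
  obtain ⟨g₀, hg₀⟩ := MulAction.exists_smul_eq ↥(D.group E) Q Tr
  set g : GL D.Idx E := (g₀ : GL D.Idx E)
  have hPt : ∀ x : ↥(P : Subgroup ↥(D.group F)), ∃ y ∈ S,
      glMap D ι ((x : ↥(D.group F)) : GL D.Idx F) = g⁻¹ * torus D T E y * g := by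
    intro x
    have h1 : g₀ * ψ x * g₀⁻¹ ∈ (Tr : Subgroup ↥(D.group E)) := by
      rw [← hg₀, Sylow.coe_subgroup_smul]
      exact Subgroup.smul_mem_pointwise_smul _ (MulAut.conj g₀) _ (hQ ⟨x, rfl⟩)
    obtain ⟨y, hy⟩ := h1
    refine ⟨y.1, y.2, ?_⟩
    have h2 : torus D T E y.1 = g * glMap D ι ((x : ↥(D.group F)) : GL D.Idx F) * g⁻¹ := congrArg Subtype.val hy
    rw [h2]; group
  let A : Set (Fin D.rank → Eˣ) := {y | y ^ m = 1 ∧ ∃ x : ↥(P : Subgroup ↥(D.group F)),
    glMap D ι ((x : ↥(D.group F)) : GL D.Idx F) = g⁻¹ * torus D T E y * g}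
  -- the group of automorphisms fixing it
  let uq : (ZMod m)ˣ := ZMod.unitOfCoprime q (hcop hrq)
  let act : (ZMod m)ˣ × Equiv.Perm (Fin D.nroots) → (Fin D.rank → Eˣ) →* (Fin D.rank → Eˣ) := fun γ =>
    (powMonoidHom (γ.1 : ZMod m).val).comp (permAct hc γ.2)
  have hact_mul : ∀ γ δ, γ.2 ∈ weylGrp hc → ∀ z : Fin D.rank → Eˣ, z ^ m = 1 →
      act (γ * δ) z = act δ (act γ z) := by
    intro γ δ hγ z hz
    show permAct hc (γ.2 * δ.2) z ^ ((γ.1 * δ.1 : (ZMod m)ˣ) : ZMod m).val =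
      permAct hc δ.2 (permAct hc γ.2 z ^ (γ.1 : ZMod m).val) ^ (δ.1 : ZMod m).val
    rw [permAct_mul hc hγ, map_pow, pow_val_mul]
    rw [← map_pow, ← map_pow, hz, map_one, map_one]
  have hact_one : ∀ z : Fin D.rank → Eˣ, act 1 z = z := fun z => by
    show permAct hc 1 z ^ ((1 : (ZMod m)ˣ) : ZMod m).val = z
    rw [permAct_one, Units.val_one, ZMod.val_one'' (by omega), pow_one]
  let Γ : Subgroup ((ZMod m)ˣ × Equiv.Perm (Fin D.nroots)) :=
    { carrier := {γ | γ ∈ (Subgroup.zpowers uq).prod (weylGrp hc) ∧ ∀ y ∈ A, act γ y = y}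
      one_mem' := ⟨one_mem _, fun y _ => hact_one y⟩
      mul_mem' := fun {γ δ} h1 h2 => ⟨mul_mem h1.1 h2.1, fun y hy => by
        rw [hact_mul γ δ (Subgroup.mem_prod.1 h1.1).2 y hy.1, h1.2 y hy, h2.2 y hy]⟩
      inv_mem' := fun {γ} h => ⟨inv_mem h.1, fun y hy => by
        conv_lhs => rw [← h.2 y hy]
        rw [← hact_mul γ γ⁻¹ (Subgroup.mem_prod.1 h.1).2 y hy.1, mul_inv_cancel, hact_one]⟩ }
  have hΓcard : Nat.Coprime (Fintype.card ↥Γ) m := by
    refine hcop fun hd' => ?_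
    have h1 : Nat.card ↥Γ ∣ Nat.card ↥((Subgroup.zpowers uq).prod (weylGrp hc)) :=
      Subgroup.card_dvd_of_le fun γ h => h.1
    rw [Nat.card_congr ((Subgroup.zpowers uq).prodEquiv (weylGrp hc)).toEquiv, Nat.card_prod,
      Nat.card_zpowers, card_weylGrp hc hJ, Nat.card_eq_fintype_card] at h1
    rcases hr.dvd_mul.1 (hd'.trans h1) with h | h
    · refine hqd (h.trans (orderOf_dvd_of_pow_eq_one (Units.ext ?_)))
      rw [Units.val_pow_eq_pow_val, Units.val_one]
      show ((q : ZMod m)) ^ d = 1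
      rw [← Nat.cast_pow, show q ^ d = m * e + 1 by omega]
      simp
    · exact hW h
  let X : Subgroup (Fin D.rank → Eˣ) :=
    { carrier := {x | x ^ m = 1 ∧ ∀ γ : ↥Γ, act γ.1 x = x}
      one_mem' := ⟨one_pow _, fun γ => map_one _⟩
      mul_mem' := fun {x y} hx hy => ⟨by rw [mul_pow, hx.1, hy.1, one_mul],
        fun γ => by rw [map_mul, hx.2 γ, hy.2 γ]⟩
      inv_mem' := fun {x} hx => ⟨by rw [inv_pow, hx.1, inv_one], fun γ => by rw [map_inv, hx.2 γ]⟩ }
  have hAX : ∀ y ∈ A, y ∈ X := fun y hy => ⟨hy.1, fun γ => γ.2.2 y hy⟩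
  -- the Frobenius twist
  have hσι : ∀ b : GL D.Idx F, glMap D σ (glMap D ι b) = glMap D ι b := fun b => by
    ext i j; exact (hfix _).2 ⟨_, rfl⟩
  have hσt : ∀ y : Fin D.rank → Eˣ, glMap D σ (torus D T E y) = torus D T E (y ^ q) := fun y => by
    rw [glMap_torus]
    congr 1
    funext j
    exact Units.ext (hσ _)
  set c := glMap D σ g * g⁻¹
  have hcA : ∀ y ∈ A, c * torus D T E y * c⁻¹ = torus D T E (y ^ q) := by
    rintro y ⟨-, x, hx⟩
    have h1 := hσι ((x : ↥(D.group F)) : GL D.Idx F)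
    rw [hx, map_mul, map_mul, map_inv, hσt] at h1
    calc c * torus D T E y * c⁻¹ = glMap D σ g * (g⁻¹ * torus D T E y * g) * (glMap D σ g)⁻¹ := by
          simp only [c]; group
      _ = _ := by rw [← h1]; group
  obtain ⟨L, hLA, hLX⟩ := twist_weyl hc hcomm (hcop hrq) A (fun y hy => hdiag y ((hS y).2 hy.1))
    (fun y hy => hy.1) (mul_mem (glMap_group hc σ g₀.2) (inv_mem g₀.2) : c ∈ D.group E) hcA
  have hqinv : ∀ z : Fin D.rank → Eˣ, z ^ m = 1 → (z ^ q) ^ ((uq⁻¹ : (ZMod m)ˣ) : ZMod m).val = z := fun z hz => by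
    have h1 : q % m = (uq : ZMod m).val := by
      show q % m = ((q : ZMod m)).val
      rw [ZMod.val_natCast]
    rw [pow_eq_pow_mod q hz, h1, pow_val_mul _ _ hz, mul_inv_cancel, Units.val_one, ZMod.val_one'' (by omega), pow_one]
  have hγ₀ : ((uq⁻¹, permOf hc L.reverse) : (ZMod m)ˣ × Equiv.Perm (Fin D.nroots)) ∈ Γ := by
    refine ⟨Subgroup.mem_prod.2 ⟨inv_mem (Subgroup.mem_zpowers uq), _, rfl⟩, fun y hy => ?_⟩
    show permAct hc (permOf hc L.reverse) y ^ _ = y
    rw [permAct_permOf, List.reverse_reverse, hLA y hy, hqinv y hy.1]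
  have hXn : ∀ x ∈ X, reflChars L x = x ^ q := by
    intro x hx
    have h1 : permAct hc (permOf hc L.reverse) x ^ ((uq⁻¹ : (ZMod m)ˣ) : ZMod m).val = x := hx.2 ⟨_, hγ₀⟩
    rw [permAct_permOf, List.reverse_reverse] at h1
    have h2 : reflChars L x ^ m = 1 := by
      have := congrArg (permAct hc (permOf hc L.reverse)) hx.1
      rwa [map_pow, map_one, permAct_permOf, List.reverse_reverse] at this
    conv_rhs => rw [← h1]
    rw [← pow_mul, mul_comm, pow_mul]
    exact (hqinv _ h2).symm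
  have hXroot : ∀ s, s < D.nroots → (∀ y ∈ A, chi y (rv D T s) = 1) → ∀ x ∈ X, chi x (rv D T s) = 1 := by
    intro s hs hA x hx
    obtain ⟨π, hπ, hπs, hπk⟩ := exists_reflection hc hs
    have hγ : ((1, π) : (ZMod m)ˣ × Equiv.Perm (Fin D.nroots)) ∈ Γ := by
      refine ⟨Subgroup.mem_prod.2 ⟨one_mem _, hπ⟩, fun y hy => ?_⟩
      show permAct hc π y ^ _ = y
      rw [Units.val_one, ZMod.val_one'' (by omega), pow_one]
      funext j
      obtain ⟨kk, hkk⟩ := hπk ⟨D.simple j.val, simple_lt hc j.2⟩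
      show chi y (rv D T (π _).val) = y j
      rw [hkk, chi_sub, chi_smul, hA y hy, one_zpow, div_one, rv_simple hc, chi_single, zpow_one]
    have h1 : permAct hc π x = x := by
      have := hx.2 ⟨_, hγ⟩
      simpa [act, Units.val_one, ZMod.val_one'' (show m ≠ 1 by omega)] using this
    have h2 := chi_permAct hc hπ x ⟨s, hs⟩
    rw [h1, hπs, rv_neg hc hs, chi_neg] at h2
    refine eq_of_pow_coprime (n := 2) (m := m) ?_ (by rw [← chi_pow', hx.1, chi_one])
      (hcop fun h3 => hr2 ((Nat.prime_dvd_prime_iff_eq hr Nat.prime_two).1 h3))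
    rw [pow_two]; exact mul_eq_one_iff_eq_inv.2 h2
  have hcX : ∀ x ∈ X, c * torus D T E x * c⁻¹ = torus D T E (x ^ q) := fun x hx =>
    hLX x (hXn x hx) fun s hs hA => hXroot s hs hA x hx
  -- descent
  have hXdesc : ∀ x ∈ X, g⁻¹ * torus D T E x * g ∈ (D.group F).map (glMap D ι) := by
    intro x hx
    refine fixed_descent' hc hcomm ι σ (fun a => (hfix a).1) hN (hcop hdd)
      (mul_mem (mul_mem (inv_mem g₀.2) (diagonal_le_group hc (hdiag x hx.1))) g₀.2) ?_ ?_
    · have h1 : g⁻¹ * torus D T E x * g = MulAut.conj g⁻¹ (torus D T E x) := by simp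
      rw [h1, ← map_pow, ← map_pow, hx.1, map_one, map_one]
    · rw [map_mul, map_mul, map_inv, hσt, ← hcX x hx]
      simp only [c]; group
  let Φ : ↥X →* GL D.Idx E := ((MulAut.conj g⁻¹).toMonoidHom.comp (torus D T E)).comp X.subtype
  have hΦ : Function.Injective Φ := fun x y h => Subtype.ext (torus_injective hc ((MulAut.conj g⁻¹).injective h))
  have hΦe : ∀ x : ↥X, Φ x = g⁻¹ * torus D T E x.1 * g := fun x => by simp [Φ]
  let Y : Subgroup ↥(D.group F) := (Φ.range.comap (glMap D ι)).subgroupOf (D.group F)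
  have hYp : IsPGroup r Y := fun y => by
    obtain ⟨x, hx⟩ := y.2
    have hx : Φ x = glMap D ι ((y : ↥(D.group F)) : GL D.Idx F) := hx
    refine ⟨k, Subtype.ext (Subtype.ext (glMap_injective ι ?_))⟩
    rw [SubmonoidClass.coe_pow, SubmonoidClass.coe_pow, map_pow, ← hx, ← map_pow, ← hm_def,
      show x ^ m = 1 from Subtype.ext x.2.1, map_one]
    exact (map_one _).symm
  have hPY : (P : Subgroup ↥(D.group F)) ≤ Y := fun x hx => by
    obtain ⟨y, hy, e⟩ := hPt ⟨x, hx⟩
    exact ⟨⟨y, hAX y ⟨(hS y).1 hy, ⟨x, hx⟩, e⟩⟩, (hΦe _).trans e.symm⟩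
  have hYP := P.is_maximal' hYp hPY
  let θ : ↥(P : Subgroup ↥(D.group F)) →* GL D.Idx E :=
    ((glMap D ι).comp (D.group F).subtype).comp (P : Subgroup ↥(D.group F)).subtype
  have hθ : Function.Injective θ := fun x y h => Subtype.ext (Subtype.ext (glMap_injective ι h))
  have hrange : θ.range = Φ.range := by
    ext z
    constructor
    · rintro ⟨x, rfl⟩; exact hPY x.2
    · rintro ⟨x, rfl⟩
      obtain ⟨w, hw, ew⟩ := hXdesc x.1 x.2
      have hwY : (⟨w, hw⟩ : ↥(D.group F)) ∈ Y := ⟨x, (hΦe x).trans ew.symm⟩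
      rw [hYP] at hwY
      exact ⟨⟨_, hwY⟩, ew.trans (hΦe x).symm⟩
  let eXP : ↥(P : Subgroup ↥(D.group F)) ≃* ↥X :=
    ((MonoidHom.ofInjective hθ).trans (MulEquiv.subgroupCongr hrange)).trans (MonoidHom.ofInjective hΦ).symm
  haveI : Finite ↥X := Finite.of_equiv _ eXP.toEquiv
  have hdiv : ∀ x : ↥X, x ^ r = 1 → ∃ y : ↥X, y ^ r ^ (k - 1) = x := by
    intro x hx
    choose z hz using fun i => exists_root hr hk (by rw [hcardU]; exact dvd_mul_right m e)
      (congrFun (congrArg Subtype.val hx) i)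
    have hzm : (z : Fin D.rank → Eˣ) ^ m = 1 := funext fun i => by
      show z i ^ m = 1
      rw [hm_def, show k = k - 1 + 1 by omega, pow_succ, pow_mul, hz i]
      exact congrFun (congrArg Subtype.val hx) i
    obtain ⟨y, hy1, hy2, hy3⟩ := exists_fixed_root (fun γ : ↥Γ => act γ.1) m (r ^ (k - 1)) hm1 hΓcard
      (fun γ δ w hw => hact_mul γ.1 δ.1 (Subgroup.mem_prod.1 γ.2.1).2 w hw) hzm (funext hz) x.2.2
    exact ⟨⟨y, hy1, hy3⟩, Subtype.ext hy2⟩
  obtain ⟨e'⟩ := homocyclic (A := ↥X) hr hk (fun x => Subtype.ext x.2.1) hdiv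
    (by rw [← Nat.card_congr eXP.toEquiv, hP])
  exact ⟨eXP.trans e'⟩

end

end CfsgLib.ChevCent
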