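import Cfsg.Agent.Lib.ChevCent.SylowTorus
import Mathlib.RingTheory.Polynomial.Cyclotomic.Eval
import Mathlib.NumberTheory.Padics.PadicVal.Basic

/-!
# Homocyclic Sylow subgroups: the arithmetic of the order formula
-/

set_option autoImplicit false
set_option linter.unusedSectionVars false

namespace CfsgLib.ChevCent

open Cfsg.Lie CfsgLib.Chev Polynomial

/-- the `r`-part of `q^d - 1` is that of the cyclotomic value, for `d` the order of `q` -/
theorem rpart_cyclotomic {q r d : ℕ} [Fact r.Prime] (hq : 2 ≤ q) (hd : orderOf (q : ZMod r) = d) (hd0 : 0 < d) :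
    1 ≤ padicValNat r ((Polynomial.cyclotomic d ℤ).eval (q : ℤ)).natAbs ∧
    ∃ e, ¬ r ∣ e ∧ q ^ d - 1 = r ^ padicValNat r ((Polynomial.cyclotomic d ℤ).eval (q : ℤ)).natAbs * e := by
  classical
  have hr := (Fact.out : r.Prime)
  set c : ℕ → ℕ := fun i => ((Polynomial.cyclotomic i ℤ).eval (q : ℤ)).natAbs with hc
  have hprod : ∀ n, 0 < n → q ^ n - 1 = ∏ i ∈ n.divisors, c i := by
    intro n hn
    have h := congrArg (fun p : ℤ[X] => (p.eval (q : ℤ)).natAbs) (prod_cyclotomic_eq_X_pow_sub_one hn ℤ)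
    simp only [eval_prod, eval_sub, eval_pow, eval_X, eval_one] at h
    rw [show (∏ i ∈ n.divisors, eval (q : ℤ) (cyclotomic i ℤ)).natAbs = ∏ i ∈ n.divisors, c i from
      map_prod Int.natAbsHom _ _] at h
    rw [h]
    have : ((q : ℤ) ^ n - 1) = ((q ^ n - 1 : ℕ) : ℤ) := by
      rw [Nat.cast_sub (Nat.one_le_pow _ _ (by omega))]; push_cast; ring
    rw [this, Int.natAbs_natCast]
  have hne : ∀ n, 0 < n → n < d → ¬ r ∣ q ^ n - 1 := by
    intro n hn hlt h
    refine Nat.not_lt.2 (Nat.le_of_dvd hn (hd ▸ orderOf_dvd_of_pow_eq_one ?_)) hlt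
    have h1 : ((q ^ n - 1 : ℕ) : ZMod r) = 0 := (ZMod.natCast_eq_zero_iff _ r).2 h
    rw [Nat.cast_sub (Nat.one_le_pow _ _ (by omega)), Nat.cast_pow, Nat.cast_one, sub_eq_zero] at h1
    exact h1
  set R := ∏ i ∈ d.divisors.erase d, c i
  have hR : ¬ r ∣ R := by
    intro h
    obtain ⟨i, hi, hdi⟩ := (hr.prime.dvd_finsetProd_iff c).1 h
    obtain ⟨hne', hi⟩ := Finset.mem_erase.1 hi
    have hdvd := Nat.dvd_of_mem_divisors hi
    have hi0 : 0 < i := Nat.pos_of_dvd_of_pos hdvd hd0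
    refine hne i hi0 (lt_of_le_of_ne (Nat.le_of_dvd hd0 hdvd) hne') (hdi.trans ?_)
    rw [hprod i hi0]
    exact Finset.dvd_prod_of_mem c (Nat.mem_divisors_self i hi0.ne')
  have hq1 : q ^ d - 1 = c d * R := by
    rw [hprod d hd0, Finset.mul_prod_erase _ c (Nat.mem_divisors_self d hd0.ne')]
  have hdvd : r ∣ q ^ d - 1 := by
    rw [← ZMod.natCast_eq_zero_iff, Nat.cast_sub (Nat.one_le_pow _ _ (by omega)), Nat.cast_pow, Nat.cast_one,
      sub_eq_zero, ← hd, pow_orderOf_eq_one]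
  have hcd : r ∣ c d := (hr.dvd_mul.1 (hq1 ▸ hdvd)).resolve_right hR
  have hc0 : c d ≠ 0 := by
    intro h0
    rw [h0, zero_mul] at hq1
    have := Nat.one_lt_pow hd0.ne' (show 1 < q by omega)
    omega
  refine ⟨one_le_padicValNat_of_dvd hc0 hcd, c d / r ^ padicValNat r (c d) * R, ?_, ?_⟩
  · intro h
    rcases hr.dvd_mul.1 h with h | h
    · rw [← Nat.factorization_def _ hr] at h
      exact Nat.not_dvd_ordCompl hr hc0 h
    · exact hR h
  · rw [← mul_assoc, Nat.mul_div_cancel' pow_padicValNat_dvd]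
    exact hq1

theorem rpart_degree {q r d v e n : ℕ} [Fact r.Prime] (hq : 2 ≤ q) (hd : orderOf (q : ZMod r) = d)
    (hdv : q ^ d - 1 = r ^ v * e) (he : ¬ r ∣ e) (hrn : ¬ r ∣ n) :
    ∃ R, ¬ r ∣ R ∧ q ^ n - 1 = r ^ (if d ∣ n then v else 0) * R := by
  have hr := (Fact.out : r.Prime)
  by_cases h : d ∣ n
  · rw [if_pos h]
    obtain ⟨j, rfl⟩ := h
    have hqd1 : ((q : ZMod r)) ^ d = 1 := hd ▸ pow_orderOf_eq_one _
    refine ⟨e * ∑ i ∈ Finset.range j, (q ^ d) ^ i, fun hdvd => ?_, ?_⟩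
    · rcases hr.dvd_mul.1 hdvd with h1 | h1
      · exact he h1
      · refine hrn (dvd_mul_of_dvd_right ?_ d)
        rw [← ZMod.natCast_eq_zero_iff] at h1 ⊢
        simpa [hqd1] using h1
    · rw [← mul_assoc, ← hdv, pow_mul]
      have h2 := geom_sum_mul ((q : ℤ) ^ d) j
      zify [Nat.one_le_pow _ q (by omega), Nat.one_le_pow j (q ^ d) (Nat.pow_pos (by omega))]
      rw [← h2]; ring
  · rw [if_neg h]
    refine ⟨q ^ n - 1, fun hdvd => h ?_, by rw [pow_zero, one_mul]⟩
    have h1 : ((q ^ n - 1 : ℕ) : ZMod r) = 0 := (ZMod.natCast_eq_zero_iff _ r).2 hdvd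
    rw [Nat.cast_sub (Nat.one_le_pow _ _ (by omega)), Nat.cast_pow, Nat.cast_one, sub_eq_zero] at h1
    exact hd ▸ orderOf_dvd_of_pow_eq_one h1

theorem rpart_prod {q r d v e : ℕ} [Fact r.Prime] (hq : 2 ≤ q) (hd : orderOf (q : ZMod r) = d)
    (hdv : q ^ d - 1 = r ^ v * e) (he : ¬ r ∣ e) : ∀ L : List ℕ, ¬ r ∣ L.prod →
    ∃ R, ¬ r ∣ R ∧ (L.map fun n => q ^ n - 1).prod =
      (r ^ v) ^ (L.filter fun n => orderOf (q : ZMod r) ∣ n).length * R := by
  intro L
  induction L with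
  | nil => intro _; exact ⟨1, (Fact.out : r.Prime).not_dvd_one, by simp⟩
  | cons n L ih =>
    intro h
    rw [List.prod_cons] at h
    obtain ⟨R, hR, e1⟩ := ih fun g => h (g.trans (dvd_mul_left _ _))
    obtain ⟨S, hS, e2⟩ := rpart_degree hq hd hdv he fun g => h (g.trans (dvd_mul_right n _))
    refine ⟨S * R, fun g => ((Fact.out : r.Prime).dvd_mul.1 g).elim hS hR, ?_⟩
    rw [List.map_cons, List.prod_cons, e1, e2]
    by_cases hn : d ∣ n
    · rw [if_pos hn, List.filter_cons_of_pos (by simpa [hd] using hn), List.length_cons, pow_succ]; ring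
    · rw [if_neg hn, List.filter_cons_of_neg (by simpa [hd] using hn), pow_zero]; ring

variable {D : ChevalleyDatum} {T : Tabs}

theorem sylow_homocyclic (hc : Checked D T) (hcomm : CommOne D T) {F : Type*} [Field F] [Fintype F]
    {q : ℕ} (hq : Fintype.card F = q) {r : ℕ} [Fact r.Prime] {degs : List ℕ} (hrq : ¬ r ∣ q)
    (hrW : ¬ r ∣ degs.prod) (h2 : 2 ∣ degs.prod) {N : Fin D.rank → Fin D.rank → ℤ} {dd : ℕ}
    (hN : ∀ i j, ∑ k, N i k * cm D k j = if i = j then (dd : ℤ) else 0) (hdd : dd ∣ degs.prod)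
    {J : List (Fin D.rank)} (hJ : ∀ i, i ∈ J) (hW : wsum hc J 1 = degs.prod)
    {c M : ℕ} (hc' : ¬ r ∣ c) (hcard : c * Nat.card ↥(D.group F) = q ^ M * (degs.map fun n => q ^ n - 1).prod)
    (P : Sylow r ↥(D.group F)) :
    Nonempty (↥(P : Subgroup ↥(D.group F)) ≃*
      (Fin (degs.filter (fun e => orderOf (q : ZMod r) ∣ e)).length →
        Multiplicative (ZMod (r ^ padicValNat r ((Polynomial.cyclotomic (orderOf (q : ZMod r)) ℤ).eval (q : ℤ)).natAbs)))) := by
  classical
  have hr := (Fact.out : r.Prime)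
  have hr2 : r ≠ 2 := fun e => hrW (e ▸ h2)
  have hq2 : 2 ≤ q := hq ▸ Fintype.one_lt_card
  set d := orderOf (q : ZMod r) with hd
  have hq0 : (q : ZMod r) ≠ 0 := fun h => hrq ((ZMod.natCast_eq_zero_iff _ r).1 h)
  have hdr : d ∣ r - 1 := ZMod.orderOf_dvd_card_sub_one hq0
  have hr1 : 0 < r - 1 := by have := hr.two_le; omega
  have hd0 : 0 < d := Nat.pos_of_dvd_of_pos hdr hr1
  have hrd : ¬ r ∣ d := fun h => by
    have := Nat.le_of_dvd hr1 (h.trans hdr); omega
  obtain ⟨hv, e, he, hdv⟩ := rpart_cyclotomic hq2 hd.symm hd0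
  set v := padicValNat r ((Polynomial.cyclotomic d ℤ).eval (q : ℤ)).natAbs
  set a := (degs.filter (fun e => orderOf (q : ZMod r) ∣ e)).length
  obtain ⟨R, hR, eR⟩ := rpart_prod hq2 hd.symm hdv he degs hrW
  rw [eR] at hcard
  have hP : Nat.card ↥(P : Subgroup ↥(D.group F)) = (r ^ v) ^ a := by
    rw [Sylow.card_eq_multiplicity, ← pow_mul]
    congr 1
    have hG : Nat.card ↥(D.group F) ≠ 0 := Nat.card_pos.ne'
    have hc0 : c ≠ 0 := fun h => hc' (h ▸ dvd_zero r)
    have hqM : q ^ M ≠ 0 := pow_ne_zero _ (by omega)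
    have hR0 : R ≠ 0 := fun h => hR (h ▸ dvd_zero r)
    have hra : (r ^ v) ^ a ≠ 0 := pow_ne_zero _ (pow_ne_zero _ hr.ne_zero)
    have hcard' : c * Nat.card ↥(D.group F) = q ^ M * ((r ^ v) ^ a * R) := hcard
    have h := congrArg (fun n => n.factorization r) hcard'
    simp only [Nat.factorization_mul hc0 hG, Nat.factorization_mul hqM (mul_ne_zero hra hR0),
      Nat.factorization_mul hra hR0, Finsupp.add_apply, Nat.factorization_eq_zero_of_not_dvd hc',
      Nat.factorization_eq_zero_of_not_dvd hR, Nat.factorization_eq_zero_of_not_dvd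
        (fun g => hrq (hr.dvd_of_dvd_pow g) : ¬ r ∣ q ^ M), zero_add, add_zero] at h
    rw [h, ← pow_mul, Nat.Prime.factorization_pow hr, Finsupp.single_eq_same]
  obtain ⟨p, hp⟩ := CharP.exists F
  obtain ⟨f, hpp, hf⟩ := FiniteField.card F p
  haveI := Fact.mk hpp
  haveI : NeZero d := ⟨hd0.ne'⟩
  set E := FiniteField.Extension F p d
  letI : Fintype E := Fintype.ofFinite E
  set ι : F →+* E := algebraMap F E
  haveI : CharP E p := charP_of_injective_algebraMap ι.injective p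
  have hE : Fintype.card E = q ^ d := by
    rw [← Nat.card_eq_fintype_card, FiniteField.natCard_extension, Nat.card_eq_fintype_card, hq]
  set σ : E →+* E := iterateFrobenius E p f
  have hσ : ∀ x : E, σ x = x ^ q := fun x => by
    rw [iterateFrobenius_def, ← hq, hf]
  have hfix : ∀ x : E, σ x = x ↔ x ∈ Set.range ι := by
    intro x
    constructor
    · intro hx
      rw [hσ] at hx
      have hsub : Finset.univ.image ι ⊆ (X ^ q - X : E[X]).roots.toFinset := by
        intro y hy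
        obtain ⟨b, -, rfl⟩ := Finset.mem_image.1 hy
        rw [Multiset.mem_toFinset, mem_roots (FiniteField.X_pow_card_sub_X_ne_zero E (by omega))]
        simp [IsRoot, ← map_pow, ← hq, FiniteField.pow_card]
      have hle : (X ^ q - X : E[X]).roots.toFinset.card ≤ q :=
        (Multiset.toFinset_card_le _).trans ((card_roots' _).trans
          (FiniteField.X_pow_card_sub_X_natDegree_eq E (by omega)).le)
      have heq := Finset.eq_of_subset_of_card_le hsub (by
        rw [Finset.card_image_of_injective _ ι.injective, Finset.card_univ, hq]; exact hle)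
      have hxm : x ∈ (X ^ q - X : E[X]).roots.toFinset := by
        rw [Multiset.mem_toFinset, mem_roots (FiniteField.X_pow_card_sub_X_ne_zero E (by omega))]
        simp [IsRoot, hx]
      rw [← heq] at hxm
      obtain ⟨b, -, rfl⟩ := Finset.mem_image.1 hxm
      exact ⟨b, rfl⟩
    · rintro ⟨b, rfl⟩
      rw [hσ, ← map_pow, ← hq, FiniteField.pow_card]
  exact sylow_homocyclic_core hc hcomm ι σ hfix hσ hE hr2 hrq hrd hN (fun h => hrW (h.trans hdd)) hJ
    (hW ▸ hrW) hv hdv he P hP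

end CfsgLib.ChevCent
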