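import Cfsg.Agent.Lib.ChevCent.DetKernel

/-!
# Maximal tori given by a Lang conjugator: centralisers of sets of torus elements, the fixed group
-/

set_option autoImplicit false
set_option linter.unusedSectionVars false

namespace CfsgLib.ChevCent

open Cfsg.Lie CfsgLib.Chev CfsgLib.ChevField
open scoped Matrix

variable {D : ChevalleyDatum} {T : Tabs} {F E : Type*} [Field F] [Field E]

section
variable (hc : Checked D T)
include hc

/-- a Weyl element is trivial when the sum over the cyclic group it generates kills no root -/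
theorem eq_one_of_sum_ne {π : Equiv.Perm (Fin D.nroots)} (hπ : π ∈ weylGrp hc)
    (hne : ∀ s : Fin D.nroots, sumMat hc (Subgroup.zpowers π) *ᵥ rv D T s.val ≠ 0) : π = 1 := by
  classical
  set Λ := Subgroup.zpowers π
  set S := sumMat hc Λ
  let P : Fin D.nroots → Polynomial ℤ := fun s =>
    ∑ i : Fin D.rank, Polynomial.C ((S *ᵥ rv D T s.val) i) * Polynomial.X ^ (i : ℕ)
  have hP : ∀ s, P s ≠ 0 := by
    intro s h0
    refine hne s (funext fun i => ?_)
    have := congrArg (fun p => p.coeff (i : ℕ)) h0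
    simpa [P, Polynomial.finset_sum_coeff, Polynomial.coeff_C_mul_X_pow, Fin.val_inj] using this
  obtain ⟨t, ht⟩ := Infinite.exists_notMem_finset (∏ s, P s).roots.toFinset
  have hPt : ∀ s, (P s).eval t ≠ 0 := by
    intro s h0
    refine ht (Multiset.mem_toFinset.2 ((Polynomial.mem_roots (Finset.prod_ne_zero_iff.2 fun s _ => hP s)).2 ?_))
    show (∏ s, P s).eval t = 0
    rw [Polynomial.eval_prod]
    exact Finset.prod_eq_zero (Finset.mem_univ s) h0
  set f : (Fin D.rank → ℤ) → ℤ := fun v => ∑ i, (S *ᵥ v) i * t ^ (i : ℕ)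
  have hfP : ∀ s : Fin D.nroots, f (rv D T s.val) = (P s).eval t := fun s => by
    simp [f, P, Polynomial.eval_finset_sum]
  set y : Fin D.rank → ℝ := fun j => (f (Pi.single j 1) : ℝ)
  have hy : ∀ s : Fin D.nroots, valR D T y s.val = (((P s).eval t : ℤ) : ℝ) := by
    intro s
    rw [← hfP]
    simp only [valR, y, ← Int.cast_mul, ← Int.cast_sum]
    congr 1
    simp only [f, Finset.mul_sum]
    rw [Finset.sum_comm]
    refine Finset.sum_congr rfl fun i _ => ?_
    simp only [Matrix.mulVec, dotProduct, Finset.sum_mul, Pi.single_apply, mul_ite, mul_one, mul_zero,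
      Finset.sum_ite_eq', Finset.mem_univ, if_true]
    exact Finset.sum_congr rfl fun j _ => by ring
  have hinv : ∀ s : Fin D.nroots, valR D T y (π s).val = valR D T y s.val := by
    intro s
    rw [hy, hy, ← hfP, ← hfP, ← permMat_mulVec hc hπ s]
    congr 1
    simp only [f, Matrix.mulVec_mulVec]
    rw [show S * permMat hc π = S from sumMat_mul hc (Subgroup.zpowers_le.2 hπ) (Subgroup.mem_zpowers π)]
  obtain ⟨M, hM⟩ := exists_dominant_word hc y
  set ρ := permOf hc M
  set u := ρ⁻¹ * π * ρ
  have hu : u ∈ weylGrp hc := mul_mem (mul_mem (inv_mem ⟨M, rfl⟩) hπ) ⟨M, rfl⟩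
  obtain ⟨L, hL⟩ := hu
  have hpos : ∀ i : Fin D.rank, D.nroots / 2 ≤ sigs D T L (D.simple i.val) := by
    intro i
    have hp := simple_lt hc i.2
    refine pos_of_valR hc hM (sigs_lt hc L hp) ?_
    rw [valR_pull hc M y (sigs_lt hc L hp)]
    have e : (⟨sigs D T M (sigs D T L (D.simple i.val)), sigs_lt hc M (sigs_lt hc L hp)⟩ : Fin D.nroots)
        = π (ρ ⟨D.simple i.val, hp⟩) := by
      have h1 : u ⟨D.simple i.val, hp⟩ = permOf hc L ⟨D.simple i.val, hp⟩ := by rw [hL]
      have h2 : ρ (permOf hc L ⟨D.simple i.val, hp⟩) = π (ρ ⟨D.simple i.val, hp⟩) := by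
        rw [← h1]; simp [u]
      exact h2
    have e' := congrArg Fin.val e
    simp only at e'
    rw [e', hinv]
    show 0 < valR D T y (sigs D T M (D.simple i.val))
    have h3 : valR D T (pullR D T M y) (D.simple i.val) = valR D T y (sigs D T M (D.simple i.val)) :=
      valR_pull hc M y hp
    have h4 := hy ⟨sigs D T M (D.simple i.val), sigs_lt hc M hp⟩
    refine lt_of_le_of_ne ?_ ?_
    · rw [← h3, valR_simple hc]; exact hM i
    · rw [show valR D T y (sigs D T M (D.simple i.val)) = _ from h4]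
      exact_mod_cast (hPt _).symm
  have hid : u = 1 := by
    rw [hL]
    refine Equiv.ext fun r => Fin.ext ?_
    show sigs D T L r = r
    exact sigs_eq_of_mem hc (F := ℚ) (M := []) (by
      rw [nProd_nil, inv_one, mul_one]; exact nProd_mem_of_pos hc L hpos) r.2
  have : π = ρ * u * ρ⁻¹ := by simp only [u]; group
  rw [this, hid]; group

/-- a Weyl element fixing characters which separate a root from its negative multiples -/
theorem sum_ne_of_chi {π : Equiv.Perm (Fin D.nroots)} (hπ : π ∈ weylGrp hc) {χ : Fin D.rank → Eˣ}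
    (hfix : permAct hc π χ = χ) {r : ℕ} [Fact r.Prime] (hχr : χ ^ r = 1)
    (hrW : ¬ r ∣ Nat.card ↥(weylGrp hc)) {s : Fin D.nroots} (hs : chi χ (rv D T s.val) ≠ 1) :
    sumMat hc (Subgroup.zpowers π) *ᵥ rv D T s.val ≠ 0 := by
  intro h0
  have hle : Subgroup.zpowers π ≤ stabW hc χ := Subgroup.zpowers_le.2 ⟨hπ, hfix⟩
  have h1 := chi_sumMat hc hle (rv D T s.val)
  rw [h0, chi_zero] at h1
  have hco : Nat.Coprime r (Nat.card ↥(Subgroup.zpowers π)) :=
    (Fact.out : r.Prime).coprime_iff_not_dvd.2 fun h =>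
      hrW (h.trans (Subgroup.card_dvd_of_le (Subgroup.zpowers_le.2 hπ)))
  exact hs (orderOf_eq_one_iff.1 (Nat.eq_one_of_dvd_coprimes hco
    (orderOf_dvd_of_pow_eq_one (by rw [← chi_pow', hχr, chi_one])) (orderOf_dvd_of_pow_eq_one h1.symm)))

end

section
variable (hc : Checked D T) (hcomm : CommOne D T)
include hc hcomm

/-- the centraliser of a set of torus elements separating the roots is the torus -/
theorem mem_diagonal_of_commute_set [Fintype E] {X : Set (Fin D.rank → Eˣ)}
    (hxd : ∀ x ∈ X, torus D T E x ∈ D.diagonalSubgroup E)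
    (hreg : ∀ s, s < D.nroots → ∃ x ∈ X, chi x (rv D T s) ≠ 1)
    (hstab : ∀ π ∈ weylGrp hc, (∀ x ∈ X, permAct hc π x = x) → π = 1) {z : GL D.Idx E} (hz : z ∈ D.group E)
    (hcz : ∀ x ∈ X, z * torus D T E x * z⁻¹ = torus D T E x) : z ∈ D.diagonalSubgroup E := by
  obtain ⟨L, u, h, v, hu, hh, hv, e⟩ := ChevField.exists_bruhat hc hcomm hz
  set n := nProd D E L with hn
  have key : ∀ x ∈ X, torus D T E x * u * (torus D T E x)⁻¹ = u ∧
      torus D T E x * v * (torus D T E x)⁻¹ = v ∧ reflChars L x = x := by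
    intro x hx
    set tx := torus D T E x with htx
    set tw := torus D T E (reflChars L x) with htw
    have hcon : n * tx * n⁻¹ = tw := nProd_conj_torus hc L x
    have hdw : tw ∈ D.diagonalSubgroup E := hcon ▸ nProd_conj_diagonal hc L (hxd x hx)
    have h2 : u * h * n * v * tx = tx * (u * h * n * v) := by
      rw [← e]
      calc z * tx = z * tx * z⁻¹ * z := by group
        _ = tx * z := by rw [hcz x hx]
    have h1 : u * (h * tw) * n * (tx⁻¹ * v * tx) = tx * u * tx⁻¹ * (tx * h) * n * v := by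
      calc u * (h * tw) * n * (tx⁻¹ * v * tx) = u * h * n * v * tx := by rw [← hcon]; group
        _ = _ := by rw [h2]; group
    obtain ⟨e1, e2, e3⟩ := ChevField.bruhat_unique hc hcomm hu (diag_conj_mem hc _ (hxd x hx) hu) (mul_mem hh hdw)
      (mul_mem (hxd x hx) hh) (diag_conj_mem' hc _ (hxd x hx) hv) hv h1
    refine ⟨e1.symm, ?_, ?_⟩
    · calc tx * v * tx⁻¹ = tx * (tx⁻¹ * v * tx) * tx⁻¹ := by rw [e3]
        _ = v := by group
    · obtain ⟨c, hhc⟩ := (mem_diagonal hc).1 hh
      refine torus_injective hc (mul_left_cancel (a := h) ?_)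
      rw [e2, ← hhc, ← map_mul, ← map_mul, mul_comm]
  have htriv : ∀ w ∈ uGen D E (fun s => D.nroots / 2 ≤ s),
      (∀ x ∈ X, torus D T E x * w * (torus D T E x)⁻¹ = w) → w = 1 := by
    intro w hw hfix
    have h3 := supp_of_commute hc hcomm X hw hfix
    rw [show uGen D E (fun s => ∀ a ∈ X, chi a (rv D T s) = 1) = ⊥ from by
      rw [eq_bot_iff, uGen_le_iff]
      intro s hs hA
      obtain ⟨x, hx, hne⟩ := hreg s hs
      exact absurd (hA x hx) hne] at h3
    exact Subgroup.mem_bot.1 h3
  have hu1 : u = 1 := htriv u hu fun x hx => (key x hx).1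
  have hv1 : v = 1 := htriv v (uGen_mono (fun s _ hs => hs.1) hv) fun x hx => (key x hx).2.1
  have hπ := hstab (permOf hc L.reverse) ⟨_, rfl⟩ fun x hx => by
    rw [permAct_permOf, List.reverse_reverse, (key x hx).2.2]
  have hsig : ∀ r, r < D.nroots → sigs D T L r = r := by
    intro r hr
    have h4 := congrArg (fun p : Equiv.Perm (Fin D.nroots) => (p ⟨sigs D T L r, sigs_lt hc L hr⟩).val) hπ
    simp only [Equiv.Perm.coe_one, id_eq] at h4
    rw [← h4]
    exact sigs_reverse hc L hr
  rw [e, hu1, hv1, one_mul, mul_one]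
  refine mul_mem hh (nProd_mem_of_pos hc L fun i => ?_)
  rw [hsig _ (simple_lt hc i.2)]
  exact half_le_simple hc i.2

/-- an element raising a regular torus element to the power `q` is a torus element times a Weyl representative -/
theorem exists_twist_form [Fintype E] {r q : ℕ} [Fact r.Prime] (hco : Nat.Coprime q r) {x : Fin D.rank → Eˣ}
    (hxd : torus D T E x ∈ D.diagonalSubgroup E) (hxr : x ^ r = 1)
    (hreg : ∀ s, s < D.nroots → chi x (rv D T s) ≠ 1) (hW : ¬ r ∣ Nat.card ↥(weylGrp hc)) {c : GL D.Idx E}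
    (hcG : c ∈ D.group E) (hcx : c * torus D T E x * c⁻¹ = torus D T E (x ^ q)) :
    ∃ (L : List (Fin D.rank)) (a : Fin D.rank → Eˣ),
      reflChars L x = x ^ q ∧ c = torus D T E (hPar D E a) * nProd D E L := by
  have hr := (Fact.out : r.Prime)
  obtain ⟨L, hLA, -⟩ := twist_weyl hc hcomm (q := q) (m := r) hco {x}
    (by rintro _ rfl; exact hxd) (by rintro _ rfl; exact hxr) hcG (by rintro _ rfl; exact hcx)
  have hxq : (x ^ q) ^ r = 1 := by rw [← pow_mul, mul_comm, pow_mul, hxr, one_pow]
  have hregq : ∀ s, s < D.nroots → chi (x ^ q) (rv D T s) ≠ 1 := fun s hs h => by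
    rw [chi_pow'] at h
    exact hreg s hs (eq_of_pow_coprime h (by rw [← chi_pow', hxr, chi_one]) hco)
  have hn : c * (nProd D E L)⁻¹ ∈ D.diagonalSubgroup E := by
    refine mem_diagonal_of_commute hc hcomm (by rw [map_pow]; exact pow_mem hxd q) hregq
      (fun π hπ => stab_regular hc hW hxq hregq hπ)
      (mul_mem hcG (inv_mem (monomial_le_group hc (nProd_mem_monomial hc L)))) ?_
    calc c * (nProd D E L)⁻¹ * torus D T E (x ^ q) * (c * (nProd D E L)⁻¹)⁻¹
        = c * ((nProd D E L)⁻¹ * torus D T E (x ^ q) * nProd D E L) * c⁻¹ := by group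
      _ = c * torus D T E x * c⁻¹ := by
          rw [← hLA x rfl, ← nProd_conj_torus hc L x]; group
      _ = _ := hcx
  obtain ⟨a, ha⟩ := (mem_diagonal hc).1 hn
  exact ⟨L, a, hLA x rfl, by rw [ha]; group⟩

omit hcomm in
/-- such an element acts on the torus as the Weyl element -/
theorem twist_form_conj {L : List (Fin D.rank)} {a : Fin D.rank → Eˣ} (χ : Fin D.rank → Eˣ) :
    torus D T E (hPar D E a) * nProd D E L * torus D T E χ * (torus D T E (hPar D E a) * nProd D E L)⁻¹ =
      torus D T E (reflChars L χ) := by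
  rw [mul_inv_rev, ← mul_assoc]
  calc torus D T E (hPar D E a) * nProd D E L * torus D T E χ * (nProd D E L)⁻¹ * (torus D T E (hPar D E a))⁻¹
      = torus D T E (hPar D E a) * torus D T E (reflChars L χ) * (torus D T E (hPar D E a))⁻¹ := by
        rw [← nProd_conj_torus hc L χ]; group
    _ = torus D T E (reflChars L χ) := by rw [← map_mul, mul_comm, map_mul]; group

end

end CfsgLib.ChevCent
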