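import Cfsg.Agent.Lib.ChevCent.WeakClosure

/-!
# Certificates for the commutator generation
-/

set_option autoImplicit false

namespace CfsgLib.ChevCent

open Cfsg.Lie

/-- certificate g22 -/
def certG2two : List (ℕ × ℕ × ℕ) :=
  [(11,6,10), (10,7,8), (9,6,7), (8,6,7)]

/-- certificate g23 -/
def certG2three : List (ℕ × ℕ × ℕ) :=
  [(11,6,10), (9,7,8), (10,6,7), (8,6,7)]

/-- certificate g20 -/
def certG2gen : List (ℕ × ℕ × ℕ) :=
  [(11,6,10), (10,7,9), (9,7,8), (8,6,7)]

/-- certificate b22 -/
def certB2two : List (ℕ × ℕ × ℕ) :=
  [(7,4,5), (6,4,5)]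

/-- certificate b20 -/
def certB2gen : List (ℕ × ℕ × ℕ) :=
  [(7,5,6), (6,4,5)]

/-- certificate d4 -/
def certD4 : List (ℕ × ℕ × ℕ) :=
  [(23,14,22), (22,12,21), (21,13,19), (20,12,19), (19,14,18), (17,12,16), (16,13,14), (15,12,14)]

/-- certificate f42 -/
def certF4two : List (ℕ × ℕ × ℕ) :=
  [(47,24,46), (46,25,45), (45,30,42), (44,27,43), (43,25,42), (42,24,41), (40,27,39), (39,25,38), (38,24,37), (37,27,35), (41,30,33), (36,24,35), (35,25,34), (34,27,33), (32,25,31), (31,24,30), (29,24,28), (26,24,25), (30,25,27), (28,25,27)]

/-- certificate f40 -/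
def certF4gen : List (ℕ × ℕ × ℕ) :=
  [(47,24,46), (46,25,45), (45,27,44), (44,27,43), (43,25,42), (42,24,41), (41,33,37), (40,27,39), (39,25,38), (38,24,37), (37,27,35), (36,24,35), (35,25,34), (34,27,33), (32,25,31), (31,24,30), (30,27,28), (29,24,28), (28,25,27), (26,24,25)]

/-- certificate e6 -/
def certE6 : List (ℕ × ℕ × ℕ) :=
  [(71,46,70), (70,39,69), (69,37,68), (68,36,67), (67,42,64), (66,37,65), (65,36,64), (64,39,62), (63,36,62), (62,37,61), (61,46,58), (60,36,59), (59,37,58), (58,39,57), (57,42,56), (55,37,54), (54,36,53), (53,39,51), (52,36,51), (51,37,50), (50,42,47), (49,36,48), (48,37,47), (47,39,46), (45,36,44), (44,37,43), (43,39,42), (41,36,40), (40,37,39), (38,36,37)]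

/-- certificate e7 -/
def certE7 : List (ℕ × ℕ × ℕ) :=
  [(125,93,124), (124,73,123), (123,69,122), (122,66,121), (121,64,120), (120,63,119), (119,78,115), (118,66,117), (117,64,116), (116,63,115), (115,69,112), (114,64,113), (113,63,112), (112,66,110), (111,63,110), (110,64,109), (109,73,103), (108,64,107), (107,63,106), (106,66,104), (105,63,104), (104,64,103), (103,69,100), (102,63,101), (101,64,100), (100,66,99), (99,78,95), (98,63,97), (97,64,96), (96,66,95), (95,69,94), (94,73,93), (92,64,91), (91,63,90), (90,66,88), (89,63,88), (88,64,87), (87,69,84), (86,63,85), (85,64,84), (84,66,83), (83,73,79), (82,63,81), (81,64,80), (80,66,79), (79,69,78), (77,63,76), (76,64,75), (75,66,74), (74,69,73), (72,63,71), (71,64,70), (70,66,69), (68,63,67), (67,64,66), (65,63,64)]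

/-- certificate e8 -/
def certE8 : List (ℕ × ℕ × ℕ) :=
  [(239,120,238), (238,121,237), (237,123,236), (236,126,235), (235,130,234), (234,135,233), (233,141,231), (232,135,231), (231,130,230), (230,126,229), (229,123,228), (228,121,227), (227,120,226), (226,162,219), (225,141,224), (224,130,223), (223,126,222), (222,123,221), (221,121,220), (220,120,219), (219,135,214), (218,126,217), (217,123,216), (216,121,215), (215,120,214), (214,130,210), (213,123,212), (212,121,211), (211,120,210), (210,126,207), (209,121,208), (208,120,207), (207,123,205), (206,120,205), (205,121,204), (204,141,194), (203,123,202), (202,121,201), (201,120,200), (200,126,197), (199,121,198), (198,120,197), (197,123,195), (196,120,195), (195,121,194), (194,130,188), (193,121,192), (192,120,191), (191,123,189), (190,120,189), (189,121,188), (188,126,185), (187,120,186), (186,121,185), (185,123,184), (184,135,174), (183,121,182), (182,120,181), (181,123,179), (180,120,179), (179,121,178), (178,126,175), (177,120,176), (176,121,175), (175,123,174), (174,130,170), (173,120,172), (172,121,171), (171,123,170), (170,126,169), (169,141,164),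 (168,120,167), (167,121,166), (166,123,165), (165,126,164), (164,130,163), (163,135,162), (161,121,160), (160,120,159), (159,123,157), (158,120,157), (157,121,156), (156,126,153), (155,120,154), (154,121,153), (153,123,152), (152,130,148), (151,120,150), (150,121,149), (149,123,148), (148,126,147), (147,135,142), (146,120,145), (145,121,144), (144,123,143), (143,126,142), (142,130,141), (140,120,139), (139,121,138), (138,123,137), (137,126,136), (136,130,135), (134,120,133), (133,121,132), (132,123,131), (131,126,130), (129,120,128), (128,121,127), (127,123,126), (125,120,124), (124,121,123), (122,120,121)]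

theorem certG2two_2 : certB chevG2 2 [] certG2two = true := by decide +kernel
theorem certG2three_3 : certB chevG2 3 [] certG2three = true := by decide +kernel
theorem certG2gen_5 : certB chevG2 5 [] certG2gen = true := by decide +kernel
theorem certB2two_2 : certB chevB2 2 [] certB2two = true := by decide +kernel
theorem certB2gen_3 : certB chevB2 3 [] certB2gen = true := by decide +kernel
theorem certB2gen_5 : certB chevB2 5 [] certB2gen = true := by decide +kernel
theorem certD4_1 : certB chevD4 1 [] certD4 = true := by decide +kernel
theorem certF4two_2 : certB chevF4 2 [] certF4two = true := by decide +kernel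
theorem certF4gen_3 : certB chevF4 3 [] certF4gen = true := by decide +kernel
theorem certF4gen_5 : certB chevF4 5 [] certF4gen = true := by decide +kernel
theorem certE6_1 : certB chevE6 1 [] certE6 = true := by decide +kernel
theorem certE7_1 : certB chevE7 1 [] certE7 = true := by decide +kernel
theorem certE8_1 : certB chevE8 1 [] certE8 = true := by decide +kernel
theorem sep_G2 : SepOK chevG2 2 := by decide +kernel
theorem sep_B2 : SepOK chevB2 2 := by decide +kernel
theorem sep_D4 : SepOK chevD4 2 := by decide +kernel
theorem sep_F4 : SepOK chevF4 2 := by decide +kernel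
theorem sep_E6 : SepOK chevE6 1 := by decide +kernel
theorem sep_E7 : SepOK chevE7 1 := by decide +kernel
theorem sep_E8 : SepOK chevE8 1 := by decide +kernel

end CfsgLib.ChevCent
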