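import Cfsg.Agent.Lib.ChevCent.CommGen

/-!
# Weakly closed unipotent subgroups of Chevalley groups
-/

set_option autoImplicit false
set_option linter.unusedSectionVars false

namespace CfsgLib.ChevCent

open Cfsg.Lie CfsgLib.Chev CfsgLib.ChevField
open scoped commutatorElement

variable {D : ChevalleyDatum} {T : Tabs} {F : Type*} [Field F]

/-- pairs of fundamental roots are separated by small minors of the Cartan matrix -/
def SepOK (D : ChevalleyDatum) (e : ℕ) : Prop :=
  ∀ i < D.rank, ∀ j < D.rank, i ≠ j → ∃ k < D.rank, ∃ l < D.rank,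
    1 ≤ (D.cartan l (D.simple j) * D.cartan k (D.simple i) - D.cartan k (D.simple j) * D.cartan l (D.simple i)).natAbs ∧
    (D.cartan l (D.simple j) * D.cartan k (D.simple i) - D.cartan k (D.simple j) * D.cartan l (D.simple i)).natAbs ≤ e

instance (e : ℕ) : Decidable (SepOK D e) := by
  unfold SepOK
  infer_instance

theorem mem_normalizer_of_map_eq {G : Type*} [Group G] {A : Subgroup G} {g : G}
    (h : A.map (MulAut.conj g).toMonoidHom = A) : g ∈ Subgroup.normalizer (A : Set G) := by
  refine Subgroup.mem_normalizer_iff.2 fun x => ⟨fun hx => h ▸ ⟨x, hx, rfl⟩, fun hx => ?_⟩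
  rw [← h] at hx
  obtain ⟨y, hy, e⟩ := hx
  simp only [MulEquiv.coe_toMonoidHom, MulAut.conj_apply, mul_left_inj, mul_right_inj] at e
  exact e ▸ hy

theorem map_eq_of_mem_normalizer {G : Type*} [Group G] {A : Subgroup G} {g : G}
    (h : g ∈ Subgroup.normalizer (A : Set G)) : A.map (MulAut.conj g).toMonoidHom = A := by
  ext x
  constructor
  · rintro ⟨y, hy, rfl⟩
    exact (Subgroup.mem_normalizer_iff.1 h y).1 hy
  · intro hx
    refine ⟨g⁻¹ * x * g, (Subgroup.mem_normalizer_iff.1 h _).2 (by
      rwa [show g * (g⁻¹ * x * g) * g⁻¹ = x by group]), ?_⟩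
    simp [mul_assoc]

/-- an additive subgroup of a finite field containing every square is everything -/
theorem mem_of_squares [Finite F] (A : AddSubgroup F) (h : ∀ s : F, s ^ 2 ∈ A) (a : F) : a ∈ A := by
  by_cases h2 : (2 : F) = 0
  · haveI : CharP F 2 := CharTwo.of_one_ne_zero_of_two_eq_zero one_ne_zero h2
    obtain ⟨r, rfl⟩ := FiniteField.isSquare_of_char_two (ringChar.eq_iff.2 inferInstance) a
    rw [← pow_two]; exact h r
  · have := A.sub_mem (h ((a + 1) / 2)) (h ((a - 1) / 2))
    rwa [show ((a + 1) / 2) ^ 2 - ((a - 1) / 2) ^ 2 = a by field_simp; ring] at this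

section
variable (hc : Checked D T) (hcomm : CommOne D T)
include hc hcomm

theorem closedPos_avoid (J : Set ℕ) (L : List (Fin D.rank)) :
    ClosedPos D T (fun r => OutRoot D J r ∧ ∀ j ∈ L, r ≠ D.simple j.val) := by
  refine ⟨fun r _ h => h.1.1, fun r s v hr hs h1 h2 hv => ⟨outRoot_comb hc hr h1.1.1 hs h2.1 hv, fun j hj => ?_⟩⟩
  exact ((closedPos_comp hc j).2 r s v hr hs ⟨h1.1.1, h1.2 j hj⟩ ⟨h2.1.1, h2.2 j hj⟩ hv).2

variable [Fintype F]

/-- weakly closed subgroups of the positive unipotent group are unipotent radicals -/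
theorem weakly_closed_eq {k e : ℕ} (hF : ClassOK F k) {cert : List (ℕ × ℕ × ℕ)} (hcert : certB D k [] cert = true)
    (hsep : SepOK D e) (hlam : ∃ l : Fˣ, ∀ n : ℕ, 1 ≤ n → n ≤ e → l ^ n ≠ 1)
    {X : Subgroup (GL D.Idx F)} (hXU : X ≤ uGen D F (fun r => D.nroots / 2 ≤ r))
    (hwc : ∀ g ∈ D.group F, X.map (MulAut.conj g).toMonoidHom ≤ uGen D F (fun r => D.nroots / 2 ≤ r) →
      X.map (MulAut.conj g).toMonoidHom = X) :
    ∃ J : Set ℕ, (∀ j ∈ J, j < D.rank) ∧ X = uGen D F (OutRoot D J) := by
  classical
  set U := uGen D F (fun r => D.nroots / 2 ≤ r) with hUdef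
  have hBU : D.borelSubgroup F ≤ Subgroup.normalizer (U : Set (GL D.Idx F)) := fun b hb =>
    Subgroup.mem_normalizer_iff.2 fun x => ⟨fun hx => borel_conj_pos hc hb hx, fun hx => by
      have := borel_conj_pos hc (inv_mem hb) hx
      rwa [show b⁻¹ * (b * x * b⁻¹) * b⁻¹⁻¹ = x by group] at this⟩
  have hBX : D.borelSubgroup F ≤ Subgroup.normalizer (X : Set (GL D.Idx F)) := fun b hb =>
    mem_normalizer_of_map_eq (hwc b (borel_le_group hc hb)
      ((Subgroup.map_mono hXU).trans (le_of_eq (map_eq_of_mem_normalizer (hBU hb)))))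
  set J : Set ℕ := {i | ∃ h : i < D.rank,
    elN D F (D.simple (⟨i, h⟩ : Fin D.rank).val) (1 : F) ∈ Subgroup.normalizer (X : Set (GL D.Idx F))} with hJ
  have hP : D.parabolicSubgroup F J ≤ Subgroup.normalizer (X : Set (GL D.Idx F)) := by
    refine sup_le hBX ((Subgroup.closure_le _).2 ?_)
    rintro g ⟨j, hjJ, hj, hg⟩
    obtain ⟨h, hmem⟩ := hjJ
    have : g = elN D F (D.simple (⟨j, h⟩ : Fin D.rank).val) 1 := by
      ext1; rw [coe_elN hc (simple_lt hc hj), hg]
    exact this ▸ hmem
  set UJ := uGen D F (OutRoot D J) with hUJdef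
  have hXJ : X ≤ UJ := le_radical_of_le_pos hc hcomm hXU fun n hn x hx =>
    (Subgroup.mem_normalizer_iff.1 (hP hn) x).1 hx
  refine ⟨J, fun j hj => hj.1, le_antisymm hXJ ?_⟩
  have hUJU : UJ ≤ U := uGen_mono fun r _ h => h.1
  have hUUJ : U ≤ Subgroup.normalizer (UJ : Set (GL D.Idx F)) := pos_normalizes_radical hc hcomm J
  have hBUJ : D.borelSubgroup F ≤ Subgroup.normalizer (UJ : Set (GL D.Idx F)) :=
    (le_sup_left (b := _)).trans (parabolic_normalizes_radical hc hcomm J)
  set C := ⁅UJ, U⁆ with hCdef
  have hBC : D.borelSubgroup F ≤ Subgroup.normalizer (C : Set (GL D.Idx F)) := fun b hb =>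
    mem_normalizer_of_map_eq (by
      rw [hCdef, Subgroup.map_commutator, map_eq_of_mem_normalizer (hBUJ hb), map_eq_of_mem_normalizer (hBU hb)])
  set K := X ⊔ C with hKdef
  have hBK : D.borelSubgroup F ≤ Subgroup.normalizer (K : Set (GL D.Idx F)) := fun b hb =>
    mem_normalizer_of_map_eq (by
      rw [hKdef, Subgroup.map_sup, map_eq_of_mem_normalizer (hBX hb), map_eq_of_mem_normalizer (hBC hb)])
  -- the non-fundamental roots
  have hnonsimple : ∀ r < D.nroots, OutRoot D J r → (∀ i < D.rank, D.simple i ≠ r) → ∀ z : F, elX D F r z ∈ C :=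
    cert_mem hc hcomm hF (C := C)
      (fun g hg u hu => by
        have := Subgroup.commutator_mem_commutator hg hu
        rwa [commutatorElement_def] at this)
      ((pos_le_borel hc).trans hBC) cert [] (by simp) hcert
  -- the fundamental roots outside `J`
  have hsimple : ∀ i : Fin D.rank, i.val ∉ J → ∀ z : F, elX D F (D.simple i.val) z ∈ K := by
    intro i hiJ
    have hi := simple_lt hc i.2
    have hip := half_le_simple hc i.2
    have hiOut : OutRoot D J (D.simple i.val) := by
      rw [outRoot_iff hc hi]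
      exact ⟨hip, i, hiJ, by rw [rv_simple hc]; simp⟩
    have hcompN := fun (t : F) => pm_simple_normalizer hc hcomm i (Or.inl rfl) t
    -- a member of `X` moved by the root group
    have hX : ∃ x ∈ X, x ∉ uGen D F (CompRoot D i) := by
      by_contra hno
      push Not at hno
      refine hiJ ⟨i.2, mem_normalizer_of_map_eq ?_⟩
      refine hwc _ (elN_mem_group hc hi 1) ?_
      rintro _ ⟨x, hx, rfl⟩
      exact uGen_mono (fun r _ h => h.1) (nOne_conj_comp hc i (hno x hx))
    obtain ⟨l, hl⟩ := hlam
    have key : ∀ L : List (Fin D.rank), (∀ j ∈ L, j ≠ i) →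
        ∃ x ∈ K, x ∈ uGen D F (fun r => OutRoot D J r ∧ ∀ j ∈ L, r ≠ D.simple j.val) ∧
          ∃ a ∈ uGen D F (CompRoot D i), ∃ t : F, t ≠ 0 ∧ x = a * elX D F (D.simple i.val) t := by
      intro L
      induction L with
      | nil =>
        intro _
        obtain ⟨x, hx, hxn⟩ := hX
        obtain ⟨a, ha, t, rfl⟩ := pos_split_simple hc hcomm i (hXU hx)
        refine ⟨_, Subgroup.mem_sup_left hx, uGen_mono (fun r _ h => ⟨h, by simp⟩) (hXJ hx), a, ha, t, ?_, rfl⟩
        rintro rfl
        exact hxn (by rwa [elX_zero hc F hi, mul_one])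
      | cons j L ih =>
        intro hL
        obtain ⟨x, hxK, hxP, a, ha, t, ht, hxe⟩ := ih fun j' hj' => hL j' (List.mem_cons_of_mem _ hj')
        have hj := simple_lt hc j.2
        obtain ⟨k₁, hk₁, k₂, hk₂, hd1, hd2⟩ :=
          hsep i.val i.2 j.val j.2 fun e => hL j (List.mem_cons_self ..) (Fin.ext e.symm)
        set a₁ := D.cartan k₂ (D.simple j.val)
        set a₂ := D.cartan k₁ (D.simple j.val)
        set χ : Fin D.rank → Fˣ := corChar D T (D.simple (⟨k₁, hk₁⟩ : Fin D.rank).val) (l ^ a₁) *
          corChar D T (D.simple (⟨k₂, hk₂⟩ : Fin D.rank).val) (l ^ (-a₂))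
        have hchi : ∀ {s : ℕ}, s < D.nroots →
            chi χ (rv D T s) = l ^ (a₁ * D.cartan k₁ s - a₂ * D.cartan k₂ s) := by
          intro s hs
          have h1 : chi (corChar D T (D.simple k₁) (l ^ a₁)) (rv D T s) = (l ^ a₁) ^ D.cartan k₁ s :=
            chi_corChar_simple hc ⟨k₁, hk₁⟩ hs _
          have h2 : chi (corChar D T (D.simple k₂) (l ^ (-a₂))) (rv D T s) = (l ^ (-a₂)) ^ D.cartan k₂ s :=
            chi_corChar_simple hc ⟨k₂, hk₂⟩ hs _
          simp only [χ, chi_mul]
          rw [h1, h2, ← zpow_mul, ← zpow_mul, ← zpow_add]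
          congr 1
          ring
        have hdiag : torus D T F χ ∈ D.diagonalSubgroup F := by
          simp only [χ, map_mul]
          exact mul_mem (torus_corChar_mem hc _) (torus_corChar_mem hc _)
        set h := torus D T F χ
        have hχj : chi χ (rv D T (D.simple j.val)) = 1 := by
          rw [hchi hj, show a₁ * D.cartan k₁ (D.simple j.val) - a₂ * D.cartan k₂ (D.simple j.val) = 0 by
            simp only [a₁, a₂]; ring, zpow_zero]
        have hχi : chi χ (rv D T (D.simple i.val)) ≠ 1 := by
          rw [hchi hi]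
          intro he
          set δ := a₁ * D.cartan k₁ (D.simple i.val) - a₂ * D.cartan k₂ (D.simple i.val)
          refine hl δ.natAbs hd1 hd2 ?_
          rcases Int.natAbs_eq δ with e | e <;> rw [e] at he
          · simpa using he
          · simpa using he
        set y := h * x * h⁻¹ * x⁻¹ with hy
        have hyK : y ∈ K :=
          mul_mem ((Subgroup.mem_normalizer_iff.1 (hBK (diagonal_le_borel hc hdiag)) x).1 hxK) (inv_mem hxK)
        have hyP : y ∈ uGen D F (fun r => OutRoot D J r ∧ ∀ j' ∈ L, r ≠ D.simple j'.val) :=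
          mul_mem (diag_conj_mem hc _ hdiag hxP) (inv_mem hxP)
        have hyj : y ∈ uGen D F (CompRoot D j) := by
          obtain ⟨b, hb, s, hbs⟩ := pos_split_simple hc hcomm j (uGen_mono (fun r _ h => h.1.1) hxP)
          have hfix : h * elX D F (D.simple j.val) s * h⁻¹ = elX D F (D.simple j.val) s := by
            rw [torus_conj_elX hc χ hj s, hχj, Units.val_one, one_mul]
          have e : y = (h * b * h⁻¹) * b⁻¹ := by
            rw [hy, hbs]
            calc h * (b * elX D F (D.simple j.val) s) * h⁻¹ * (b * elX D F (D.simple j.val) s)⁻¹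
                = (h * b * h⁻¹) * (h * elX D F (D.simple j.val) s * h⁻¹) * (elX D F (D.simple j.val) s)⁻¹ * b⁻¹ := by
                  group
              _ = _ := by rw [hfix]; group
          rw [e]
          exact mul_mem (diag_conj_mem hc _ hdiag hb) (inv_mem hb)
        set u : F := ((chi χ (rv D T (D.simple i.val)) : Fˣ) : F) * t - t with hu
        have hu0 : u ≠ 0 := by
          rw [hu, ← sub_one_mul]
          exact mul_ne_zero (sub_ne_zero.2 fun e => hχi (Units.ext e)) ht
        have hye : y = ((h * a * h⁻¹) * (elX D F (D.simple i.val) u * a⁻¹ * (elX D F (D.simple i.val) u)⁻¹)) *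
            elX D F (D.simple i.val) u := by
          have e1 := torus_conj_elX hc χ hi t
          have e2 : elX D F (D.simple i.val) u
              = (h * elX D F (D.simple i.val) t * h⁻¹) * (elX D F (D.simple i.val) t)⁻¹ := by
            rw [e1, elX_inv hc F hi, elX_add hc F hi, hu, sub_eq_add_neg]
          rw [e2, hy, hxe]
          group
        refine ⟨y, hyK, ?_, _, ?_, u, hu0, hye⟩
        · refine uGen_mono (fun r _ h' => ⟨h'.1.1, fun j' hj' => ?_⟩)
            (uGen_inter hc hcomm (closedPos_avoid hc hcomm J L) (closedPos_comp hc j) hyP hyj)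
          rcases List.mem_cons.1 hj' with rfl | hj'
          · exact h'.2.2
          · exact h'.1.2 j' hj'
        · exact mul_mem (diag_conj_mem hc _ hdiag ha) ((Subgroup.mem_normalizer_iff.1 (hcompN u) _).1 (inv_mem ha))
    obtain ⟨x, hxK, hxP, a, ha, t, ht, hxe⟩ :=
      key ((List.finRange D.rank).filter fun j => decide (j ≠ i)) (fun j hj => by simpa using hj)
    set L₀ := (List.finRange D.rank).filter fun j => decide (j ≠ i)
    have hiP : OutRoot D J (D.simple i.val) ∧ ∀ j ∈ L₀, D.simple i.val ≠ D.simple j.val :=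
      ⟨hiOut, fun j hj e => by
        have : j ≠ i := by simpa [L₀] using hj
        exact this (Fin.ext (simple_inj hc j.2 i.2 e.symm))⟩
    have haP : a ∈ uGen D F (fun r => OutRoot D J r ∧ ∀ j ∈ L₀, r ≠ D.simple j.val) := by
      rw [show a = x * (elX D F (D.simple i.val) t)⁻¹ by rw [hxe, mul_inv_cancel_right]]
      exact mul_mem hxP (inv_mem (elX_mem_uGen hi
        (P := fun r => OutRoot D J r ∧ ∀ j ∈ L₀, r ≠ D.simple j.val) hiP t))
    have haC : a ∈ C := by
      have h := uGen_inter hc hcomm (closedPos_avoid hc hcomm J L₀) (closedPos_comp hc i) haP ha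
      refine (uGen_le_iff.2 fun r hr hr' z => hnonsimple r hr hr'.1.1 (fun j hj e => ?_) z) h
      by_cases hji : j = i.val
      · exact hr'.2.2 (by rw [← e, hji])
      · exact hr'.1.2 ⟨j, hj⟩ (by simp only [L₀, List.mem_filter, List.mem_finRange, true_and, decide_eq_true_eq]
                                  exact fun h => hji (congrArg Fin.val h)) e.symm
    have htK : elX D F (D.simple i.val) t ∈ K := by
      have := mul_mem (inv_mem (Subgroup.mem_sup_right (S := X) haC)) hxK
      rwa [hxe, inv_mul_cancel_left] at this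
    let A : AddSubgroup F :=
      { carrier := {c | elX D F (D.simple i.val) (c * t) ∈ K}
        zero_mem' := by
          show elX D F (D.simple i.val) (0 * t) ∈ K
          rw [zero_mul, elX_zero hc F hi]
          exact one_mem _
        add_mem' := fun {c d} hc' hd' => by
          show elX D F (D.simple i.val) ((c + d) * t) ∈ K
          rw [add_mul, ← elX_add hc F hi]
          exact mul_mem hc' hd'
        neg_mem' := fun {c} hc' => by
          show elX D F (D.simple i.val) (-c * t) ∈ K
          rw [neg_mul, ← elX_inv hc F hi]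
          exact inv_mem hc' }
    have hsq : ∀ s : F, s ^ 2 ∈ A := by
      intro s
      show elX D F (D.simple i.val) (s ^ 2 * t) ∈ K
      rcases eq_or_ne s 0 with rfl | hs
      · rw [zero_pow two_ne_zero, zero_mul, elX_zero hc F hi]; exact one_mem _
      · have hd : torus D T F (corChar D T (D.simple i.val) (Units.mk0 s hs)) ∈ D.diagonalSubgroup F :=
          torus_corChar_mem hc _
        have h1 := (Subgroup.mem_normalizer_iff.1 (hBK (diagonal_le_borel hc hd)) _).1 htK
        rw [torus_conj_elX hc _ hi t, chi_corChar_simple hc i hi,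
          show D.cartan i.val (D.simple i.val) = 2 from cm_self hc i] at h1
        simpa using h1
    intro z
    have := mem_of_squares A hsq (z / t)
    have h' : elX D F (D.simple i.val) (z / t * t) ∈ K := this
    rwa [div_mul_cancel₀ z ht] at h'
  have hK : UJ ≤ K := uGen_le_iff.2 fun r hr hout z => by
    by_cases hs : ∀ i < D.rank, D.simple i ≠ r
    · exact Subgroup.mem_sup_right (hnonsimple r hr hout hs z)
    · push Not at hs
      obtain ⟨i, hi, rfl⟩ := hs
      refine hsimple ⟨i, hi⟩ (fun hJi => ?_) z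
      obtain ⟨-, j, hj, hne⟩ := (outRoot_iff hc (simple_lt hc hi)).1 hout
      have hne' := hne
      rw [show D.simple i = D.simple (⟨i, hi⟩ : Fin D.rank).val from rfl, rv_simple hc] at hne'
      have hji : j = ⟨i, hi⟩ := by
        by_contra hne''
        exact hne' (Pi.single_eq_of_ne hne'' _)
      exact hj (hji ▸ hJi)
  -- nilpotency
  have hXn : U ≤ Subgroup.normalizer (X : Set (GL D.Idx F)) := (pos_le_borel hc).trans hBX
  have iter : ∀ n, UJ ≤ X ⊔ U.lowerCentralSeries n := by
    intro n
    induction n with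
    | zero => exact hUJU.trans le_sup_right
    | succ n ih =>
      refine hK.trans (sup_le le_sup_left ?_)
      set N := X ⊔ U.lowerCentralSeries (n + 1)
      have hUlcs : ∀ m, U ≤ Subgroup.normalizer (U.lowerCentralSeries m : Set (GL D.Idx F)) := by
        intro m
        induction m with
        | zero => exact Subgroup.le_normalizer
        | succ m ihm =>
          intro b hb
          exact mem_normalizer_of_map_eq (by
            rw [Subgroup.lowerCentralSeries_succ, Subgroup.map_commutator, map_eq_of_mem_normalizer (ihm hb),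
              map_eq_of_mem_normalizer (Subgroup.le_normalizer hb)])
      have hUN : U ≤ Subgroup.normalizer (N : Set (GL D.Idx F)) := fun b hb =>
        mem_normalizer_of_map_eq (by
          show (X ⊔ U.lowerCentralSeries (n + 1)).map _ = _
          rw [Subgroup.map_sup, map_eq_of_mem_normalizer (hXn hb), map_eq_of_mem_normalizer (hUlcs (n + 1) hb)])
      have hXGU : X ⊔ U.lowerCentralSeries n ≤ U := sup_le hXU (Subgroup.lowerCentralSeries_le_self U n)
      rw [hCdef, Subgroup.commutator_le]
      intro g hg u hu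
      have hg' : g ∈ Subgroup.closure ((X : Set (GL D.Idx F)) ∪ (U.lowerCentralSeries n : Set (GL D.Idx F))) := by
        rw [Subgroup.closure_union, Subgroup.closure_eq, Subgroup.closure_eq]
        exact ih hg
      clear hg
      induction hg' using Subgroup.closure_induction generalizing u with
      | mem y hy =>
        rcases hy with hy | hy
        · rw [commutatorElement_def, show y * u * y⁻¹ * u⁻¹ = y * (u * y⁻¹ * u⁻¹) by group]
          exact Subgroup.mem_sup_left (mul_mem hy ((Subgroup.mem_normalizer_iff.1 (hXn hu) _).1 (inv_mem hy)))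
        · refine Subgroup.mem_sup_right ?_
          rw [Subgroup.lowerCentralSeries_succ]
          exact Subgroup.commutator_mem_commutator hy hu
      | one => simp
      | mul y w hy hw ihy ihw =>
        have hyU : y ∈ U := hXGU (by
          rw [Subgroup.closure_union, Subgroup.closure_eq, Subgroup.closure_eq] at hy; exact hy)
        rw [show ⁅y * w, u⁆ = (y * ⁅w, u⁆ * y⁻¹) * ⁅y, u⁆ by simp only [commutatorElement_def]; group]
        exact mul_mem ((Subgroup.mem_normalizer_iff.1 (hUN hyU) _).1 (ihw u hu)) (ihy u hu)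
      | inv y hy ihy =>
        have hyU : y ∈ U := hXGU (by
          rw [Subgroup.closure_union, Subgroup.closure_eq, Subgroup.closure_eq] at hy; exact hy)
        rw [show ⁅y⁻¹, u⁆ = y⁻¹ * ⁅y, u⁆⁻¹ * y⁻¹⁻¹ by simp only [commutatorElement_def]; group]
        exact (Subgroup.mem_normalizer_iff.1 (hUN (inv_mem hyU)) _).1 (inv_mem (ihy u hu))
  have hnil : Group.IsNilpotent ↥U := isNilpotent_uGen hc hcomm (closedPos_pos hc)
  obtain ⟨m, hm⟩ := (Subgroup.isNilpotent_iff_lowerCentralSeries U).1 hnil
  have := iter m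
  rwa [hm, sup_bot_eq] at this

end

end CfsgLib.ChevCent
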